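import Cfsg.Agent.OddCyclic.EN.NatTwo.Grp

/-!
# (E1), type `(A_q)`: automorphisms of `L ≅ SL₂(F)` induced by `X`
-/

set_option autoImplicit false
set_option linter.unusedSectionVars false
set_option linter.style.haveILetI false

namespace Cfsg.Agent.OddCyclic.EN.NatTwo

open Matrix Subgroup Cfsg.Agent.MinSimple.Geo Cfsg.Agent.OddCyclic.T1Module Cfsg.Agent.OddCyclic.T1Sl2
  Cfsg.Agent.OddCyclic.FFBasic Cfsg.Agent.OddCyclic.FFRed Cfsg.Agent.OddCyclic.FFSl2
  Cfsg.Agent.OddCyclic.T1Defs Cfsg.Agent.OddCyclic.RedFFDefs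
open Cfsg.Agent.OddCyclic.FFOuter (ac e_ac ac_coe ac_eq_iff)
open Cfsg.Agent.OddCyclic.L2Borel (tu_eq td_conj_tu form_tu exists_form_UI)
open Cfsg.Agent.Classification.QDW.TypeHom
open Cfsg.Agent.Lib.SL2Mat (fieldAut)

universe u

variable {X : Type u} [Group X] [Finite X] {V : Type u} [CommGroup V] [Finite V] {ρ : X →* MulAut V}
  {L U U' : Subgroup X} {F : Type} [Field F] [Fintype F] [CharP F 2]

namespace Hy

theorem eq_of_ac (h : Hy ρ L F) [L.Normal] (e : SpecialLinearGroup (Fin 2) F ≃* L) {x y : X}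
    (hxy : ac e x = ac e y) : x = y := by
  rw [ac_eq_iff] at hxy
  have h1 : y⁻¹ * x = 1 := by
    refine h.cent _ fun g hg => ?_
    have h2 := hxy g hg
    calc y⁻¹ * x * g = y⁻¹ * (x * g * x⁻¹) * x := by group
      _ = y⁻¹ * (y * g * y⁻¹) * x := by rw [h2]
      _ = g * (y⁻¹ * x) := by group
  exact (inv_mul_eq_one.1 h1).symm

theorem mem_iff_typ (h : Hy ρ L F) [L.Normal] (e : SpecialLinearGroup (Fin 2) F ≃* L) {x : X} :
    x ∈ L ↔ typ (ac e x) = 1 := by
  constructor
  · intro hx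
    obtain ⟨s, rfl⟩ := (mem_iff_exists e).1 hx
    rw [ac_coe]
    exact L2Model.typ_conj s
  · intro hx
    obtain ⟨s, hs⟩ := (L2Model.inner_iff _).1 hx
    rw [← ac_coe e s] at hs
    rw [h.eq_of_ac e hs]
    exact (e s).2

/-- **(M5)** a Sylow 2-subgroup of `L` is its own centralizer -/
theorem cent_U (h : Hy ρ L F) (hU : IsU L U F) {x : X} (hx : ∀ u ∈ U, x * u = u * x) : x ∈ U := by
  have := h.nrm
  obtain ⟨e₀⟩ := h.iso
  obtain ⟨e, he⟩ := exists_one e₀ hU
  obtain ⟨α, hα⟩ : ∃ α, α = ac e x := ⟨_, rfl⟩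
  have h1 : ∀ a : F, α (up a) = up a := by
    intro a
    apply e_inj e
    rw [hα, e_ac, hx _ ((he _).2 ⟨a, rfl⟩), mul_inv_cancel_right]
  obtain ⟨t, s, hts⟩ := exists_form_UI (α := α) (fun y hy => by
    rw [eq_up hy, h1]; exact up_mem _)
  have h2 : ∀ a : F, (s : F) * s * typ α a = a := by
    intro a
    have h3 := h1 a
    rw [hts] at h3
    have h4 := form_tu t s (typ α) a
    rw [h4] at h3
    exact congrArg (fun y : SpecialLinearGroup (Fin 2) F => y 0 1) h3
  have hs : (s : F) = 1 := by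
    have h3 := h2 1
    rw [map_one, mul_one] at h3
    exact L2Model.eq_of_sq (by rw [h3, one_mul])
  have hs1 : s = 1 := Units.ext hs
  have hσ : typ α = 1 := by
    ext a
    have h3 := h2 a
    rw [hs, one_mul, one_mul] at h3
    exact h3
  have h3 : α = MulAut.conj (up t) := by
    rw [hts, hσ, map_one, mul_one, hs1]
    have : (dg (1 : Fˣ) : SpecialLinearGroup (Fin 2) F) = 1 := map_one dgHom
    rw [this, mul_one]
  rw [hα, ← ac_coe e] at h3
  rw [h.eq_of_ac e h3]
  exact (he _).2 ⟨t, rfl⟩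

/-- **(M10)** outer involutions are field automorphisms -/
theorem exists_outer (h : Hy ρ L F) {t : X} (ht : t * t = 1) (htL : t ∉ L) :
    ∃ (e : SpecialLinearGroup (Fin 2) F ≃* L) (σ : F ≃+* F), σ ≠ 1 ∧ (∀ a, σ (σ a) = a) ∧
      ∀ s, t * (e s : L) * t⁻¹ = (e (fieldAut σ s) : L) := by
  have := h.nrm
  obtain ⟨e⟩ := h.iso
  have h1 : typ (ac e t) ≠ 1 := fun h1 => htL ((h.mem_iff_typ e).2 h1)
  have h2 : ac e t * ac e t = 1 := by rw [← map_mul, ht, map_one]
  obtain ⟨g, hg⟩ := L2Model.exists_std h2 h1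
  refine ⟨ecj e g, typ (ac e t), h1, fun a => L2Model.typ_mul_self h2 a, fun s => ?_⟩
  rw [ecj_apply, ← e_ac, ecj_apply]
  congr 2
  conv_lhs => rw [hg]
  rw [MulAut.mul_apply, MulAut.mul_apply, ← map_inv, MulAut.conj_apply, MulAut.conj_apply]
  congr 3
  group

theorem card_ringAut_lt (F : Type) [Field F] [Fintype F] [CharP F 2] (h4 : 4 ≤ Fintype.card F) :
    Nat.card (F ≃+* F) < Fintype.card F := by
  classical
  obtain ⟨g, hg⟩ := IsCyclic.exists_generator (α := Fˣ)
  have hinj : Function.Injective (fun σ : F ≃+* F => (⟨σ g, by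
      rw [map_ne_zero]; exact g.ne_zero⟩ : {a : F // a ≠ 0})) := by
    intro σ τ hστ
    have h1 : σ g = τ g := congrArg Subtype.val hστ
    ext a
    by_cases ha : a = 0
    · rw [ha, map_zero, map_zero]
    · obtain ⟨n, hn⟩ := mem_zpowers_iff.1 (hg (Units.mk0 a ha))
      have h2 : a = (g : F) ^ n := by
        rw [← Units.val_zpow_eq_zpow_val, hn]; rfl
      rw [h2, map_zpow₀, map_zpow₀, h1]
  have h1 := Nat.card_le_card_of_injective _ hinj
  have h2 : Nat.card {a : F // a ≠ 0} < Nat.card F := by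
    have h3 : Nat.card {a : F // a ≠ 0} = Fintype.card F - 1 := by
      rw [Nat.card_eq_fintype_card, Fintype.card_subtype_compl, Fintype.card_subtype_eq]
    rw [h3, Nat.card_eq_fintype_card]
    omega
  rw [← Nat.card_eq_fintype_card]
  omega

/-- for a 2-subgroup `D` of `X` -/
theorem card_le_mul (h : Hy ρ L F) (D : Subgroup X) :
    Nat.card D ≤ Nat.card (D ⊓ L : Subgroup X) * Nat.card (F ≃+* F) := by
  have := h.nrm
  obtain ⟨e⟩ := h.iso
  have := L2Borel.finite_ringAut (F := F)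
  let f : D →* (F ≃+* F) := (typ.comp (ac e)).comp D.subtype
  have h1 : f.ker = (D ⊓ L).subgroupOf D := by
    ext x
    rw [MonoidHom.mem_ker, mem_subgroupOf, mem_inf]
    have : f x = typ (ac e (x : X)) := rfl
    rw [this, ← h.mem_iff_typ e]
    exact ⟨fun hx => ⟨x.2, hx⟩, fun hx => hx.2⟩
  have h2 := f.ker.card_mul_index
  rw [Subgroup.index_ker] at h2
  have h3 : Nat.card f.ker = Nat.card (D ⊓ L : Subgroup X) := by
    rw [h1]
    exact Nat.card_congr (subgroupOfEquivOfLe inf_le_left).toEquiv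
  rw [← h2, h3]
  exact Nat.mul_le_mul_left _ (Nat.card_le_card_of_injective _ Subtype.val_injective)

/-- an elementary abelian group disjoint from `L` has order at most two -/
theorem card_le_two (h : Hy ρ L F) {A : Subgroup X} (hA : ∀ a ∈ A, a * a = 1) (hAL : A ⊓ L = ⊥) :
    Nat.card A ≤ 2 := by
  have := h.nrm
  obtain ⟨e⟩ := h.iso
  classical
  have hinj : Function.Injective (fun a : A => (if (a : X) = 1 then false else true)) := by
    intro a b hab
    by_contra hne
    have h1 : (a : X) ≠ 1 ∧ (b : X) ≠ 1 := by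
      by_cases ha : (a : X) = 1
      · by_cases hb : (b : X) = 1
        · exact absurd (Subtype.ext (ha.trans hb.symm)) hne
        · simp only [ha, hb, if_true, if_false] at hab
          exact absurd hab (by decide)
      · by_cases hb : (b : X) = 1
        · simp only [ha, hb, if_true, if_false] at hab
          exact absurd hab (by decide)
        · exact ⟨ha, hb⟩
    have h2 : ∀ c : A, (c : X) ≠ 1 → typ (ac e (c : X)) ≠ 1 := by
      intro c hc h3
      apply hc
      have h4 : (c : X) ∈ A ⊓ L := ⟨c.2, (h.mem_iff_typ e).2 h3⟩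
      rwa [hAL, mem_bot] at h4
    have h3 : ∀ c : A, typ (ac e (c : X)) * typ (ac e (c : X)) = 1 := by
      intro c
      rw [← map_mul, ← map_mul, hA _ c.2, map_one, map_one]
    have h4 := L2Borel.ringAut_invol (h3 a) (h3 b) (h2 a h1.1) (h2 b h1.2)
    have h5 : ((a : X) * (b : X)⁻¹) ∈ A ⊓ L := by
      refine ⟨A.mul_mem a.2 (A.inv_mem b.2), (h.mem_iff_typ e).2 ?_⟩
      rw [map_mul, map_mul, map_inv, map_inv, h4, mul_inv_cancel]
    rw [hAL, mem_bot, mul_inv_eq_one] at h5
    exact hne (Subtype.ext h5)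
  have h1 := Nat.card_le_card_of_injective _ hinj
  simpa using h1

end Hy

/-- an element of order three mapping `U'` to `U` -/
theorem IsU.three (e₀ : SpecialLinearGroup (Fin 2) F ≃* L) (h : IsU L U F) (h' : IsU L U' F) (hne : U ≠ U') :
    ∃ g ∈ L, orderOf g = 3 ∧ MinSimple.Geo.cj g U' = U := by
  obtain ⟨e, he, he'⟩ := exists_two e₀ h h' hne
  have h2 : (2 : F) = 0 := CharTwo.two_eq_zero
  obtain ⟨s, hs⟩ : ∃ s : SpecialLinearGroup (Fin 2) F, s = T1Sl2.mk 1 1 1 0 (by linear_combination (-1 : F) * h2) :=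
    ⟨_, rfl⟩
  have hs3 : orderOf s = 3 := order_three (by rw [hs]; simp)
  have hconj : ∀ t : F, s * lo t * s⁻¹ = up t := by
    intro t
    rw [mul_inv_eq_iff_eq_mul, hs]
    apply ext2
    · rw [mul00, mul00]; simp
    · rw [mul01, mul01]; simp
    · rw [mul10, mul10]; simp
    · rw [mul11, mul11]; simp
  refine ⟨(e s : L), (e s).2, ?_, ?_⟩
  · rw [Subgroup.orderOf_coe, MulEquiv.orderOf_eq, hs3]
  · ext x
    rw [mem_cj, he', he]
    constructor
    · rintro ⟨t, ht⟩
      refine ⟨t, ?_⟩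
      rw [← hconj, map_mul, map_mul, map_inv, coe_mul, coe_mul, ht, coe_inv]; group
    · rintro ⟨t, rfl⟩
      refine ⟨t, ?_⟩
      rw [← hconj, map_mul, map_mul, map_inv, coe_mul, coe_mul, coe_inv]; group

/-- an element of order three normalising `U` -/
theorem IsU.torus (e₀ : SpecialLinearGroup (Fin 2) F ≃* L) (h : IsU L U F) (hom : ∃ w : F, w * w + w + 1 = 0) :
    ∃ g ∈ L, orderOf g = 3 ∧ MinSimple.Geo.cj g U = U := by
  obtain ⟨e, he⟩ := exists_one e₀ h
  obtain ⟨w, hw⟩ := hom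
  have hw0 : w ≠ 0 := by
    rintro rfl
    rw [mul_zero, zero_add, zero_add] at hw
    exact one_ne_zero hw
  have h2 : (2 : F) = 0 := CharTwo.two_eq_zero
  have hwi : w⁻¹ = w + 1 := by
    apply inv_eq_of_mul_eq_one_right
    linear_combination hw - h2
  have ho : orderOf (dg (Units.mk0 w hw0)) = 3 := by
    apply order_three
    rw [dg00, dg11, Units.val_inv_eq_inv_val, Units.val_mk0, hwi]
    linear_combination w * h2
  refine ⟨(e (dg (Units.mk0 w hw0)) : L), (e _).2, ?_, ?_⟩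
  · rw [Subgroup.orderOf_coe, MulEquiv.orderOf_eq, ho]
  · have key : ∀ (s : Fˣ) (t : F), dg s * up t * (dg s)⁻¹ = up (s * s * t) := fun s t => td_conj_tu s t
    ext x
    rw [mem_cj, he, he]
    constructor
    · rintro ⟨t, ht⟩
      refine ⟨w * w * t, ?_⟩
      have h3 := key (Units.mk0 w hw0) t
      rw [Units.val_mk0] at h3
      rw [← h3, map_mul, map_mul, map_inv, coe_mul, coe_mul, ht, coe_inv]; group
    · rintro ⟨t, rfl⟩
      refine ⟨(w + 1) * (w + 1) * t, ?_⟩
      have h3 := key (Units.mk0 w hw0)⁻¹ t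
      rw [Units.val_inv_eq_inv_val, Units.val_mk0, hwi] at h3
      rw [← h3]
      have h4 : dg (Units.mk0 w hw0)⁻¹ = (dg (Units.mk0 w hw0))⁻¹ := map_inv dgHom _
      rw [h4, map_mul, map_mul, map_inv, map_inv, map_inv, coe_mul, coe_mul, coe_inv, coe_inv]
      simp

end Cfsg.Agent.OddCyclic.EN.NatTwo
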