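import Cfsg.Agent.OddCyclic.EN.NatTwo.Defs
import Cfsg.Agent.OddCyclic.EN.NatTwo.Aut
import Cfsg.Agent.OddCyclic.EN.Shape
import Cfsg.Agent.OddCyclic.EN.FitB
import Cfsg.Agent.OddCyclic.EN.OneStar
import Cfsg.Agent.OddCyclic.EN.OneEnd
import Cfsg.Agent.Lib.AutSL2Out

/-!
# Type `(A_q)`: from `Shape.Cfg` and `Shape.TypeA` to the hypotheses `NatTwo.At`

`prod (c : Shape.Cfg T V z L R J) (ht : Shape.TypeA T V z R J) : ∃ F .., At T V z z R J F`.
-/

set_option autoImplicit false
set_option linter.unusedSectionVars false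
set_option linter.style.haveILetI false

namespace Cfsg.Agent.OddCyclic.EN.NatTwo.Prod

open Matrix Subgroup Cfsg Cfsg.Agent.ZN Cfsg.Agent.MinSimple.Geo Cfsg.Agent.OddCyclic.GeoC
  Cfsg.Agent.OddCyclic.BTwoA
  Cfsg.Agent.OddCyclic.EN.Line Cfsg.Agent.OddCyclic.EN.Base Cfsg.Agent.MinSimple.SecRep
  Cfsg.Agent.OddCyclic.EN.RepM Cfsg.Agent.OddCyclic.EN.Perm Cfsg.Agent.OddCyclic.EN.BbDefs
open Cfsg.Agent.OddCyclic.FFOuter (ac e_ac ac_coe ac_eq_iff)
open Cfsg.Agent.OddCyclic.T1Module Cfsg.Agent.OddCyclic.FFBasic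
open Cfsg.Agent.Classification.QDW.TypeHom
open Cfsg.Agent.ZN.Block (conj_mem_of_normalizer conj_mem_of_normalizer' le_normalizer_of_forall
  mem_normalizer_of)

universe u

variable {G : Type u} [Group G] [Finite G] {T V L : Subgroup G} {z : G}
  {M X : Type u} [AddCommGroup M] [Group X] [DistribMulAction X M]

/-- the normalizer of the image of `T` fixes the line vector -/
theorem norm_fix (h : Ab T V z) (R : Rep V z M X) {y : G} (hy : y ∈ V) (hy1 : y ≠ 1) (hyz : y ≠ z)
    {g : X} (hg : g ∈ normalizer ((R.img T : Subgroup X) : Set X)) : g • R.pi y = R.pi y := by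
  have hfr : Pi.Fr T V (centralizer ({z} : Set G)) z :=
    { geo := h.toGeoC
      ab := h.ab
      T_le := h.T_le
      P_le := le_rfl
      inf_le := inf_le_left
      core := fun U h1 h2 h3 => h.core U h1 h2 h3 }
  have hwp : Pi.wp V (centralizer ({z} : Set G)) = ws V z := by
    refine le_antisymm hfr.wp_le_ws (ws_le fun L hL => ?_)
    obtain ⟨c, hc, rfl⟩ := h.exists_of_mem_lines hL
    exact Pi.cj_le_wp hc
  have key : ∀ (W : Subgroup G) (_ : Pi.wp V (centralizer ({z} : Set G)) = W)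
      (R : Sec (centralizer ({z} : Set G)) W (zpowers z) M X),
      g ∈ normalizer ((R.img T : Subgroup X) : Set X) → g • R.pi y = R.pi y := by
    rintro _ rfl R hg
    exact Pi.Rep.norm_img_T hfr R hy hy1 hyz hg
  exact key _ hwp R hg

theorem img_T_two (h : Ab T V z) (R : Rep V z M X) : IsPGroup 2 (R.img T) := by
  rintro ⟨a, ha⟩
  obtain ⟨t, ht, rfl⟩ := (R.mem_img h.T_le).mp ha
  obtain ⟨k, hk⟩ := h.two ⟨t, ht⟩
  refine ⟨k, Subtype.ext ?_⟩
  change R.rho t ^ 2 ^ k = 1
  rw [← R.rho_pow (h.T_le ht), show t ^ 2 ^ k = 1 from congrArg Subtype.val hk, R.rho_one]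

theorem img_T_index (h : Ab T V z) (R : Rep V z M X) : ¬ 2 ∣ (R.img T).index := by
  intro h2
  apply h.T_syl
  exact h2.trans (Subgroup.index_map_dvd (H := T.subgroupOf (centralizer ({z} : Set G))) (f := R.hom) R.hom_surj)

/-- `X = J C_X(λ)` -/
theorem exists_mul (h : Ab T V z) (R : Rep V z M X) {J : Subgroup X} (hJ : J.Normal)
    (hcom : ∀ a b : X, a * b * a⁻¹ * b⁻¹ ∈ J) {y : G} (hy : y ∈ V) (hy1 : y ≠ 1) (hyz : y ≠ z) (g : X) :
    ∃ l ∈ J, g • R.pi y = l • R.pi y := by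
  haveI : Finite X := R.finite_right
  set P := R.img T with hP
  have hs : ¬ 2 ∣ P.relIndex ⊤ := by rw [relIndex_top_right]; exact img_T_index h R
  have hn : (⊤ : Subgroup X) ≤ normalizer ((J ⊔ P : Subgroup X) : Set X) := by
    refine le_normalizer_of_forall fun a _ b hb => ?_
    have e : a * b * a⁻¹ = (a * b * a⁻¹ * b⁻¹) * b := by group
    rw [e]
    exact mul_mem (mem_sup_left (hcom a b)) hb
  obtain ⟨n, hn', m, -, hm, hgm⟩ := BTwoB.exists_mul_of_frattini (C := (⊤ : Subgroup X)) (T := P) (N := J ⊔ P) le_top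
    (img_T_two h R) hs le_top hn (mem_top g)
  have hinf : P ⊓ (J ⊔ P) = P := inf_eq_left.mpr le_sup_right
  rw [hinf] at hm
  have h1 := norm_fix h R hy hy1 hyz hm
  obtain ⟨j, hj, p, hp, rfl⟩ : ∃ j ∈ J, ∃ p ∈ P, j * p = n := by
    rw [mem_sup_of_normal_left] at hn'
    obtain ⟨j, hj, p, hp, e⟩ := hn'
    exact ⟨j, hj, p, hp, e⟩
  refine ⟨j, hj, ?_⟩
  have hp1 := norm_fix h R hy hy1 hyz (le_normalizer hp)
  rw [hgm, mul_smul, mul_smul, h1, hp1]

theorem exists_om {F : Type} [Field F] [Fintype F] [CharP F 2] {k : ℕ} (_ : 1 ≤ k)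
    (hF : Fintype.card F = 2 ^ (2 * k)) : ∃ w : F, w * w + w + 1 = 0 := by
  classical
  obtain ⟨g, hg⟩ := IsCyclic.exists_generator (α := Fˣ)
  have hcard : Fintype.card Fˣ = 2 ^ (2 * k) - 1 := by rw [Fintype.card_units, hF]
  have h3 : 3 ∣ Fintype.card Fˣ := by
    rw [hcard, pow_mul]
    have := Nat.sub_dvd_pow_sub_pow (2 ^ 2) 1 k
    rw [one_pow] at this
    exact this
  have ho : orderOf g = Fintype.card Fˣ := orderOf_eq_card_of_forall_mem_zpowers hg |>.trans Nat.card_eq_fintype_card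
  have hpos : 0 < Fintype.card Fˣ := Fintype.card_pos
  obtain ⟨m, hm⟩ := h3
  have hm0 : 0 < m := by
    rcases Nat.eq_zero_or_pos m with h0 | h0
    · rw [hm, h0] at hpos; omega
    · exact h0
  have hw3 : (g ^ m) ^ 3 = 1 := by
    rw [← pow_mul, mul_comm, ← hm, ← ho, pow_orderOf_eq_one]
  have hw1 : g ^ m ≠ 1 := by
    intro e
    have h1 : orderOf g ∣ m := orderOf_dvd_of_pow_eq_one e
    rw [ho, hm] at h1
    have := Nat.le_of_dvd hm0 h1
    omega
  refine ⟨(g ^ m : Fˣ), ?_⟩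
  have e1 : ((g ^ m : Fˣ) : F) ^ 3 = 1 := by
    rw [← Units.val_pow_eq_pow_val, hw3, Units.val_one]
  have e2 : ((g ^ m : Fˣ) : F) - 1 ≠ 0 := by
    rw [sub_ne_zero]
    intro e
    exact hw1 (Units.ext e)
  apply mul_left_cancel₀ e2
  linear_combination e1

/-- **(PROD)** -/
theorem _root_.Cfsg.Agent.OddCyclic.EN.NatTwo.prod {R : Rep V z M X} {J : Subgroup X}
    (c : Shape.Cfg T V z L R J) (ht : Shape.TypeA T V z R J) :
    ∃ (F : Type) (_ : Field F) (_ : Fintype F) (_ : CharP F 2), NatTwo.At T V z z R J F := by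
  obtain ⟨F, i1, i2, i3, k, hk, hF, ⟨e⟩, hout⟩ := ht
  refine ⟨F, i1, i2, i3, ?_⟩
  have hS := c.star
  have hab := BbMain.toAb hS
  have hzp : Pt z z := Pt.refl z
  haveI : Finite X := R.finite_right
  haveI : Finite M := R.finite_left
  have two := Rep.two hab hzp R
  have hzW : z ∈ ws V z := hab.V_le_ws hab.z_mem
  have h4 : 4 ≤ Fintype.card F := by
    rw [hF]
    calc 4 = 2 ^ (2 * 1) := by norm_num
      _ ≤ 2 ^ (2 * k) := Nat.pow_le_pow_right (by norm_num) (by omega)
  have hcent : ∀ x : X, (∀ g ∈ J, x * g = g * x) → x = 1 := by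
    intro x hx
    have h1 : x ∈ centralizer (J : Set X) := mem_centralizer_iff.mpr fun l hl => (hx l hl).symm
    rwa [c.cent, mem_bot] at h1
  have hinj : Function.Injective (hm X M) := by
    rw [injective_iff_map_eq_one]
    intro x hx
    apply R.faithful
    intro m
    have h1 : hm X M x (Multiplicative.ofAdd m) = Multiplicative.ofAdd m := by rw [hx]; rfl
    exact congrArg Multiplicative.toAdd h1
  have hy : Hy (hm X M) J F :=
    { sq := fun v => congrArg Multiplicative.ofAdd (two (Multiplicative.toAdd v))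
      inj := hinj
      cyc := Shape.oddCyc hab.toGeoC R
      ffc := FFSec.ffc hS.cyc hS.sec (BbMain.centralizer_ne_top hab.toGeoC) R.hom R.hom_surj
      nrm := c.nor
      four := h4
      om := exists_om hk hF
      iso := ⟨e⟩
      cent := hcent }
  -- `X/J` is abelian
  have hcom : ∀ a b : X, a * b * a⁻¹ * b⁻¹ ∈ J := by
    intro a b
    haveI := c.nor
    rw [hy.mem_iff_typ e, map_mul, map_mul, map_mul, map_mul, map_mul, map_mul, map_inv, map_inv, map_inv, map_inv,
      Lib.AutSL2Out.ringEquiv_comm (typ (ac e a)) (typ (ac e b)), mul_inv_cancel_right, mul_inv_cancel]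
  obtain ⟨y0, hy0, hy01, hy0z⟩ := hab.exists_y
  have hcol0 : Col V z y0 := col_of_mem hab.toGeoC hab.z_mem hy0 hab.z_ne hy01 (Ne.symm hy0z)
  -- the elements of `ws V z` with image fixed by `J`
  have hfixL : ∀ w ∈ ws V z, (∀ l ∈ J, l • R.pi w = R.pi w) → ∀ l ∈ L, l * w = w * l := by
    intro w hw hf
    exact FitB.comm_of_fix hS hab R hw fun l hl => hf _ ((c.mem _).mpr ⟨l, hl, rfl⟩)
  refine
    { pt := hzp
      hy := hy
      tr := ?_
      three := ?_
      red := ?_
      rl := ?_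
      rig := ?_
      k3 := hS.k3 }
  · intro y hcy g
    obtain ⟨a, ha⟩ := Rep.exists_smul_line hab hzp R hcol0 hcy
    obtain ⟨l1, hl1, e1⟩ := exists_mul hab R c.nor hcom hy0 hy01 hy0z (g * a)
    obtain ⟨l2, hl2, e2⟩ := exists_mul hab R c.nor hcom hy0 hy01 hy0z a
    refine ⟨l1 * l2⁻¹, mul_mem hl1 (inv_mem hl2), ?_⟩
    rw [← ha, e2, mul_smul, inv_smul_smul, ← e1, mul_smul, ← e2]
  · intro y hcy g hg hfix
    obtain ⟨a, ha⟩ := Rep.exists_smul_line hab hzp R hcol0 hcy
    have h3 : (a⁻¹ * g * a) • R.pi y0 = R.pi y0 := by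
      rw [mul_smul, mul_smul, ha, hfix, ← ha, inv_smul_smul]
    have ho : orderOf (a⁻¹ * g * a) = 3 := by
      rw [← hg]
      have h1 := orderOf_injective (MulAut.conj a⁻¹).toMonoidHom (MulAut.conj a⁻¹).injective g
      have e1 : (MulAut.conj a⁻¹).toMonoidHom g = a⁻¹ * g * a := by
        change a⁻¹ * g * a⁻¹⁻¹ = _
        rw [inv_inv]
      rwa [e1] at h1
    refine OneEnd.three_move hab R hy0 hy01 hy0z hS.f3 ?_ ?_ h3
    · have h4 := pow_orderOf_eq_one (a⁻¹ * g * a)
      rw [ho] at h4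
      rw [← h4, pow_succ, pow_two]
    · intro e1
      rw [e1, orderOf_one] at ho
      norm_num at ho
  · intro w hw hc' j hj
    obtain ⟨l, hl, rfl⟩ := (c.mem j).mp hj
    have h1 := hS.RED w hw (fun y hy' => hc' y ?_) l hl
    · rw [R.smul_pi l (hS.L_le hl) w hw, h1, mul_inv_cancel_right]
    · exact le_o2 ((o2_le _).trans hS.L_le) (isPGroup_o2 _) (hS.L_nor.trans (normalizer_le_normalizer_o2 L)) hy'
  · intro w hw hp hf
    obtain ⟨g, rfl⟩ := hp
    refine hS.RL g fun l hl => ?_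
    rw [mem_centralizer_singleton_iff]
    exact hfixL _ hw hf l hl
  · intro w hw hw1 hwz hf g hg hT
    have hLw := hfixL w hw hf
    have hgz : g * z = z * g := by
      calc g * z = (g * z * g⁻¹) * g := by group
        _ = z * g := by rw [← hg]
    have hgi : g⁻¹ ∈ centralizer ({z} : Set G) := inv_mem (mem_centralizer_singleton_iff.mpr hgz)
    have hgC : g ∈ centralizer ({z} : Set G) := mem_centralizer_singleton_iff.mpr hgz
    have hw' : g⁻¹ * w * g ∈ ws V z := by
      have := R.conj_mem hgi hw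
      rwa [inv_inv] at this
    have hgz' : g⁻¹ * z * g = z := by
      calc g⁻¹ * z * g = g⁻¹ * (z * g) := by group
        _ = z := by rw [← hgz]; group
    have key := hS.F3 (a := g⁻¹ * w * g) (hab.toGeoC.ws_le_T hw') (hab.ws_sq hw')
      (fun e1 => hw1 (by
        calc w = g * (g⁻¹ * w * g) * g⁻¹ := by group
          _ = 1 := by rw [e1]; group))
      (fun e1 => hwz (by
        calc w = g * (g⁻¹ * w * g) * g⁻¹ := by group
          _ = z := by rw [e1]; exact hg.symm))
      (fun l hl => by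
        have h1 := hLw _ (conj_mem_of_normalizer hS.L_nor hgC hl)
        calc l * (g⁻¹ * w * g) = g⁻¹ * ((g * l * g⁻¹) * w) * g := by group
          _ = g⁻¹ * (w * (g * l * g⁻¹)) * g := by rw [h1]
          _ = g⁻¹ * w * g * l := by group)
      (fun t ht => by
        have h1 := hT (g * t * g⁻¹) (conj_mem_cj ht)
        rcases h1 with h1 | h1
        · left
          calc t * (g⁻¹ * w * g) * t⁻¹ = g⁻¹ * ((g * t * g⁻¹) * w * (g * t * g⁻¹)⁻¹) * g := by group
            _ = g⁻¹ * w * g := by rw [h1]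
        · right
          calc t * (g⁻¹ * w * g) * t⁻¹ = g⁻¹ * ((g * t * g⁻¹) * w * (g * t * g⁻¹)⁻¹) * g := by group
            _ = (g⁻¹ * z * g) * (g⁻¹ * w * g) := by rw [h1]; group
            _ = z * (g⁻¹ * w * g) := by rw [hgz'])
    intro d hd
    rw [mem_centralizer_singleton_iff] at hd
    have h1 : g⁻¹ * d * g ∈ centralizer ({z} : Set G) := by
      apply key
      rw [mem_centralizer_singleton_iff]
      calc g⁻¹ * d * g * (g⁻¹ * w * g) = g⁻¹ * (d * w) * g := by group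
        _ = g⁻¹ * (w * d) * g := by rw [hd]
        _ = g⁻¹ * w * g * (g⁻¹ * d * g) := by group
    have e1 : d = g * (g⁻¹ * d * g) * g⁻¹ := by group
    rw [e1]
    exact mul_mem (mul_mem hgC h1) hgi

end Cfsg.Agent.OddCyclic.EN.NatTwo.Prod
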