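import Cfsg.Agent.OddCyclic.EN.NatTwo.Aut

/-!
# (E1), type `(A_q)`: centralizers of outer involutions
-/

set_option autoImplicit false
set_option linter.unusedSectionVars false
set_option linter.style.haveILetI false

namespace Cfsg.Agent.OddCyclic.EN.NatTwo

open Matrix Subgroup Cfsg.Agent.MinSimple.Geo Cfsg.Agent.OddCyclic.T1Module Cfsg.Agent.OddCyclic.T1Sl2
  Cfsg.Agent.OddCyclic.FFBasic Cfsg.Agent.OddCyclic.FFRed Cfsg.Agent.OddCyclic.FFSl2
  Cfsg.Agent.OddCyclic.T1Defs Cfsg.Agent.OddCyclic.RedFFDefs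
open Cfsg.Agent.OddCyclic.FFOuter (ac e_ac ac_coe ac_eq_iff)
open Cfsg.Agent.Classification.QDW.TypeHom
open Cfsg.Agent.Lib.SL2Mat (fieldAut)

universe u

variable {X : Type u} [Group X] [Finite X] {V : Type u} [CommGroup V] [Finite V] {ρ : X →* MulAut V}
  {L U U' : Subgroup X} {F : Type} [Field F] [Fintype F] [CharP F 2]

/-- the fixed field of `σ` -/
noncomputable def fxf (σ : F ≃+* F) : Subfield F := (σ : F →+* F).eqLocusField (RingHom.id F)

theorem mem_fxf {σ : F ≃+* F} {a : F} : a ∈ fxf σ ↔ σ a = a := Iff.rfl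

/-- `|F| ≤ |F_σ|²` for an involution `σ` -/
theorem card_fxf {σ : F ≃+* F} (h1 : σ ≠ 1) (h2 : ∀ a, σ (σ a) = a) :
    Fintype.card F ≤ Nat.card (fxf σ) ^ 2 := by
  have hc2 : (2 : F) = 0 := CharTwo.two_eq_zero
  obtain ⟨c, hc⟩ : ∃ c, σ c ≠ c := by
    by_contra hcon
    push Not at hcon
    exact h1 (RingEquiv.ext hcon)
  have hd : c + σ c ≠ 0 := by
    intro h
    apply hc
    linear_combination h - c * hc2
  have hdm : σ (c + σ c) = c + σ c := by
    rw [map_add, h2, add_comm]
  obtain ⟨c', hc'⟩ : ∃ c', c' + σ c' = 1 := by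
    refine ⟨c * (c + σ c)⁻¹, ?_⟩
    rw [map_mul, map_inv₀, hdm, ← add_mul, mul_inv_cancel₀ hd]
  have key1 : ∀ x : F, σ (x + σ x) = x + σ x := fun x => by rw [map_add, h2, add_comm]
  have key2 : ∀ x : F, σ (x + (x + σ x) * c') = x + (x + σ x) * c' := by
    intro x
    rw [map_add, map_mul, key1]
    linear_combination (x + σ x) * hc' + (σ x - (x + σ x) * c') * hc2
  let f : F → fxf σ × fxf σ := fun x => (⟨x + σ x, mem_fxf.2 (key1 x)⟩, ⟨x + (x + σ x) * c', mem_fxf.2 (key2 x)⟩)
  have hf : Function.Injective f := by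
    intro x y hxy
    have e1 : x + σ x = y + σ y := congrArg (fun p => (p.1 : F)) hxy
    have e2 : x + (x + σ x) * c' = y + (y + σ y) * c' := congrArg (fun p => (p.2 : F)) hxy
    rw [e1] at e2
    exact add_right_cancel e2
  have h3 := Nat.card_le_card_of_injective f hf
  rw [Nat.card_prod, Nat.card_eq_fintype_card (α := F)] at h3
  rw [pow_two]
  exact h3

theorem card_char_two_ne_three {K : Type} [Field K] [Finite K] [CharP K 2] : Nat.card K ≠ 3 := by
  intro h
  have h1 : addOrderOf (1 : K) ∣ Nat.card K := addOrderOf_dvd_natCard 1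
  rw [CharP.eq K (CharP.addOrderOf_one K) (inferInstance : CharP K 2), h] at h1
  omega

/-- an element of order three over the prime field -/
noncomputable def s3 (K : Type) [Field K] [CharP K 2] : SpecialLinearGroup (Fin 2) K :=
  T1Sl2.mk 1 1 1 0 (by
    have h2 : (2 : K) = 0 := CharTwo.two_eq_zero
    linear_combination (-1 : K) * h2)

namespace Hy

theorem outer (h : Hy ρ L F) {a : X} (haa : a * a = 1) (haL : a ∉ L) :
    (∃ y ∈ L, orderOf y = 3 ∧ a * y = y * a) ∧
      (Fintype.card F = 4 ∨ ∃ P ≤ L, ⁅P, P⁆ = P ∧ (∀ g ∈ P, a * g = g * a) ∧ ∃ y ∈ P, orderOf y = 3) := by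
  classical
  obtain ⟨e, σ, hσ1, hσ2, hσ⟩ := h.exists_outer haa haL
  have hcm : ∀ s : SpecialLinearGroup (Fin 2) F, fieldAut σ s = s →
      a * ((e s : L) : X) = ((e s : L) : X) * a := by
    intro s hs
    have h1 := hσ s
    rw [hs] at h1
    exact mul_inv_eq_iff_eq_mul.1 h1
  have h3F : orderOf (s3 F) = 3 := order_three (by rw [s3]; simp)
  have hs3 : fieldAut σ (s3 F) = s3 F := by
    apply ext2 <;> simp [s3, fieldAut]
  refine ⟨⟨(e (s3 F) : L), (e _).2, ?_, hcm _ hs3⟩, ?_⟩
  · rw [Subgroup.orderOf_coe, MulEquiv.orderOf_eq, h3F]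
  · by_cases h4 : Fintype.card F = 4
    · exact Or.inl h4
    · right
      have : Fintype (fxf σ) := Fintype.ofFinite _
      have hch : CharP (fxf σ) 2 := (RingHom.charP_iff (fxf σ).subtype (fxf σ).subtype.injective 2).2 inferInstance
      have hK4 : 4 ≤ Fintype.card (fxf σ) := by
        have h5 := card_fxf hσ1 hσ2
        have h6 := h.four
        have h7 : 2 ≤ Nat.card (fxf σ) := by
          rw [Nat.card_eq_fintype_card]; exact Fintype.one_lt_card
        have h8 : Nat.card (fxf σ) ≠ 3 := card_char_two_ne_three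
        have h9 : Nat.card (fxf σ) ≠ 2 := by
          intro h9
          rw [h9] at h5
          omega
        rw [← Nat.card_eq_fintype_card]
        omega
      let ι : SpecialLinearGroup (Fin 2) (fxf σ) →* SpecialLinearGroup (Fin 2) F :=
        SpecialLinearGroup.map (fxf σ).subtype
      have hι : Function.Injective ι := by
        intro s t hst
        apply Subtype.ext
        ext i j
        have h5 := congrArg (fun y : SpecialLinearGroup (Fin 2) F => y i j) hst
        exact h5
      let φ : SpecialLinearGroup (Fin 2) (fxf σ) →* X := (L.subtype.comp e.toMonoidHom).comp ι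
      have hφ : Function.Injective φ := (L.subtype_injective.comp e.injective).comp hι
      have hs := isSimpleGroup_sl2 (F := fxf σ) hK4
      refine ⟨φ.range, ?_, ?_, ?_, ?_⟩
      · rintro _ ⟨s, rfl⟩
        exact (e (ι s)).2
      · have h5 : ⁅(⊤ : Subgroup (SpecialLinearGroup (Fin 2) (fxf σ))),
            (⊤ : Subgroup (SpecialLinearGroup (Fin 2) (fxf σ)))⁆ =
            (⊤ : Subgroup (SpecialLinearGroup (Fin 2) (fxf σ))) := by
          have hn : (⁅(⊤ : Subgroup (SpecialLinearGroup (Fin 2) (fxf σ))),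
            (⊤ : Subgroup (SpecialLinearGroup (Fin 2) (fxf σ)))⁆ : Subgroup _).Normal := inferInstance
          rcases hs.eq_bot_or_eq_top_of_normal _ hn with h6 | h6
          · exfalso
            rw [commutator_eq_bot_iff_le_centralizer] at h6
            have h7 : (up 1 : SpecialLinearGroup (Fin 2) (fxf σ)) * lo 1 = lo 1 * up 1 :=
              ((mem_centralizer_iff.1 (h6 (mem_top (up (1 : fxf σ))))) (lo 1)
                (mem_top (lo (1 : fxf σ)))).symm
            have h8 := congrArg (fun y : SpecialLinearGroup (Fin 2) (fxf σ) => y 0 0) h7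
            simp only [mul00] at h8
            simp at h8
          · exact h6
        rw [MonoidHom.range_eq_map, ← map_commutator, h5]
      · rintro _ ⟨s, rfl⟩
        refine hcm _ ?_
        apply Subtype.ext
        ext i j
        exact (s i j).2
      · refine ⟨φ (s3 (fxf σ)), ⟨_, rfl⟩, ?_⟩
        rw [orderOf_injective φ hφ]
        exact order_three (by rw [s3]; simp)

theorem card_ringAut_four (h : Hy ρ L F) (h4 : Fintype.card F = 4) : Nat.card (F ≃+* F) ≤ 2 := by
  classical
  have hc2 : (2 : F) = 0 := CharTwo.two_eq_zero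
  obtain ⟨w, hw⟩ := h.om
  have key : ∀ x : F, x * x + x + 1 = 0 → x = w ∨ x = w + 1 := by
    intro x hx
    have h1 : (x + w) * (x + w + 1) = 0 := by
      linear_combination hx + hw + (x * w - 1) * hc2
    rcases mul_eq_zero.1 h1 with h2 | h2
    · left; linear_combination h2 - w * hc2
    · right; linear_combination h2 - (w + 1) * hc2
  have hall : ∀ x : F, x = 0 ∨ x = 1 ∨ x = w ∨ x = w + 1 := by
    intro x
    have h1 : x ^ Fintype.card F = x := FiniteField.pow_card x
    rw [h4] at h1
    have h2 : x * ((x - 1) * (x * x + x + 1)) = 0 := by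
      linear_combination h1
    rcases mul_eq_zero.1 h2 with h3 | h3
    · exact Or.inl h3
    · rcases mul_eq_zero.1 h3 with h5 | h5
      · exact Or.inr (Or.inl (sub_eq_zero.1 h5))
      · exact Or.inr (Or.inr (key x h5))
  have hw' : ∀ σ : F ≃+* F, σ w = w ∨ σ w = w + 1 := by
    intro σ
    refine key _ ?_
    have h1 := congrArg σ hw
    rw [map_add, map_add, map_mul, map_one, map_zero] at h1
    exact h1
  have hinj : Function.Injective (fun σ : F ≃+* F => (decide (σ w = w))) := by
    intro σ τ hστ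
    have h1 : σ w = τ w := by
      have h2 : (σ w = w) ↔ (τ w = w) := decide_eq_decide.1 hστ
      rcases hw' σ with h3 | h3
      · rw [h3, h2.1 h3]
      · rcases hw' τ with h5 | h5
        · rw [h5, h2.2 h5]
        · rw [h3, h5]
    apply RingEquiv.ext
    intro x
    rcases hall x with rfl | rfl | rfl | rfl
    · rw [map_zero, map_zero]
    · rw [map_one, map_one]
    · exact h1
    · rw [map_add, map_add, map_one, map_one, h1]
  have h1 := Nat.card_le_card_of_injective _ hinj
  simpa using h1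

theorem card_le_four (h : Hy ρ L F) (h4 : Fintype.card F = 4) {a : X} (_haa : a * a = 1) (haL : a ∉ L)
    {B : Subgroup X} (hB : IsPGroup 2 B) (hc : ∀ b ∈ B, a * b = b * a) : Nat.card B ≤ 4 := by
  have h1 := h.card_le_mul B
  have h2 := h.card_ringAut_four h4
  have hBL : IsPGroup 2 (B ⊓ L : Subgroup X) := hB.to_le inf_le_left
  obtain ⟨e⟩ := h.iso
  have h3 : Nat.card (B ⊓ L : Subgroup X) ≤ 4 := by
    rw [← h4]
    exact card_le e inf_le_right hBL
  have h5 : Nat.card (B ⊓ L : Subgroup X) ≠ 4 := by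
    intro h5
    exact haL (h.cent_U (U := B ⊓ L) ⟨inf_le_right, hBL, by rw [h5, h4]⟩ fun u hu => hc u hu.1).2
  have h6 : Nat.card (B ⊓ L : Subgroup X) ≠ 3 := by
    intro h6
    obtain ⟨n, hn⟩ := hBL.exists_card_eq
    rw [h6] at hn
    rcases n with _ | n
    · omega
    · rw [pow_succ] at hn
      omega
  calc Nat.card B ≤ Nat.card (B ⊓ L : Subgroup X) * Nat.card (F ≃+* F) := h1
    _ ≤ 2 * 2 := Nat.mul_le_mul (by omega) h2
    _ = 4 := rfl

end Hy

end Cfsg.Agent.OddCyclic.EN.NatTwo
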