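import Cfsg.Agent.OddCyclic.EN.NatTwo.TwoB
import Cfsg.Agent.OddCyclic.EN.NatTwo.Outer
import Cfsg.Agent.Schreier.Tools

/-!
# (E1), type `(A_q)`, distance at least two: case 2, `|F| = 4`
-/

set_option autoImplicit false
set_option linter.unusedSectionVars false
set_option linter.style.haveILetI false

namespace Cfsg.Agent.OddCyclic.EN.NatTwo

open Subgroup Cfsg Cfsg.Agent.ZN Cfsg.Agent.MinSimple.Geo Cfsg.Agent.OddCyclic.GeoC Cfsg.Agent.OddCyclic.BTwoA
  Cfsg.Agent.OddCyclic.EN.Line Cfsg.Agent.OddCyclic.EN.Base Cfsg.Agent.MinSimple.SecRep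
  Cfsg.Agent.OddCyclic.EN.RepM Cfsg.Agent.OddCyclic.EN.Perm Cfsg.Agent.OddCyclic.EN.OneCount
open Cfsg.Agent.OddCyclic.T1Module Cfsg.Agent.OddCyclic.FFBasic
open Cfsg.Agent.ZN.Block (conj_mem_of_normalizer conj_mem_of_normalizer' le_normalizer_of_forall
  mem_normalizer_of)
open Multiplicative (ofAdd toAdd)

universe u

variable {G : Type u} [Group G] [Finite G] {T V : Subgroup G} {z x y p q : G} {n : ℕ}
  {M X : Type u} [AddCommGroup M] [Group X] [DistribMulAction X M] [Finite M] [Finite X]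
  {F : Type} [Field F] [Fintype F] [CharP F 2] {J : Subgroup X}

/-- `v ↦ [v, β]` -/
def cb (M : Type u) [AddCommGroup M] [DistribMulAction X M] (β : X) : Multiplicative M →* Multiplicative M where
  toFun v := hm X M β v * v⁻¹
  map_one' := by simp
  map_mul' a b := by rw [map_mul, mul_inv]; exact mul_mul_mul_comm _ _ _ _

theorem cb_ker (β : X) : (cb M β).ker = fx (hm X M) β := by
  ext v
  rw [MonoidHom.mem_ker]
  change hm X M β v * v⁻¹ = 1 ↔ hm X M β v = v
  rw [mul_inv_eq_one]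

/-- a perfect group centralizing `β` is trivial on `[M, β]` of order at most four -/
theorem perfect_fix {β : X} {P : Subgroup X} (hP : ⁅P, P⁆ = P) (hc : ∀ g ∈ P, β * g = g * β)
    (hi : (fx (hm X M) β).index ≤ 4) {g : X} (hg : g ∈ P) (v : Multiplicative M) :
    hm X M g (cb M β v) = cb M β v := by
  have hinv : ∀ g ∈ P, ∀ v, hm X M g (cb M β v) = cb M β (hm X M g v) := by
    intro g hg v
    change hm X M g (hm X M β v * v⁻¹) = hm X M β (hm X M g v) * (hm X M g v)⁻¹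
    rw [map_mul, map_inv, ← MulAut.mul_apply, ← MulAut.mul_apply, ← map_mul, ← map_mul, hc g hg]
  have hmem : ∀ g ∈ P, ∀ w ∈ (cb M β).range, hm X M g w ∈ (cb M β).range := by
    rintro g hg _ ⟨v, rfl⟩
    exact ⟨hm X M g v, (hinv g hg v).symm⟩
  have hcard : Nat.card (cb M β).range ≤ 4 := by
    rw [← index_ker, cb_ker]; exact hi
  let f : P →* Equiv.Perm (cb M β).range :=
    { toFun := fun g =>
        { toFun := fun w => ⟨hm X M g w, hmem g g.2 w w.2⟩
          invFun := fun w => ⟨hm X M (g⁻¹ : X) w, hmem _ (inv_mem g.2) w w.2⟩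
          left_inv := fun w => Subtype.ext (by
            change hm X M (g⁻¹ : X) (hm X M g w) = w
            rw [← MulAut.mul_apply, ← map_mul, inv_mul_cancel, map_one]; rfl)
          right_inv := fun w => Subtype.ext (by
            change hm X M g (hm X M (g⁻¹ : X) w) = w
            rw [← MulAut.mul_apply, ← map_mul, mul_inv_cancel, map_one]; rfl) }
      map_one' := by
        ext w
        change hm X M (1 : X) (w : Multiplicative M) = w
        rw [map_one]; rfl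
      map_mul' := fun a b => by
        ext w
        change hm X M ((a : X) * b) (w : Multiplicative M) = hm X M a (hm X M b w)
        rw [map_mul]; rfl }
  have h1 := Schreier.Tools.perm_eq_one hP hcard f ⟨g, hg⟩ ⟨cb M β v, ⟨v, rfl⟩⟩
  exact congrArg Subtype.val h1

/-- `[w, v] = q` for some `w ∈ ws V p` -/
theorem exists_q (h : AbN T V z n) (c : Crit V z n p q) {Rp : Rep V p M X} (ap : At T V z p Rp J F)
    {Rq : Rep V q M X} (hA' : Nat.card (Rq.img (ws V p)) = 2) {v : G} (hv : v ∈ ws V q) (hv1 : Rp.rho v ≠ 1)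
    (hvv : Rp.rho v * Rp.rho v = 1) :
    (fx (hm X M) (Rp.rho v)).index ≤ 4 ∧ ∃ w ∈ ws V p, w * v * w⁻¹ = q * v := by
  have hq := c.pt' h.toGeoC
  have hqq : q * q = 1 := Base.Pt.sq h.toGeoC hq
  have hvC := c.ws_le_centralizer h hv
  have hle' := (c.symm h.toAb).ws_le_centralizer h
  obtain ⟨p₁, hp₁, -⟩ := c.head h
  obtain ⟨K, hK⟩ : ∃ K, K = ws V p ⊓ kq V q := ⟨_, rfl⟩
  obtain ⟨E, hE⟩ : ∃ E, E = centralizer ({v} : Set G) := ⟨_, rfl⟩
  have h1 : K.relIndex (ws V p) = 2 := by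
    rw [← hA', card_img Rq hle', hK, inf_comm, inf_relIndex_right]
  have hmv : ∀ w ∈ K, w * v * w⁻¹ = v ∨ w * v * w⁻¹ = q * v := fun w hw => by
    rw [hK] at hw
    exact kq_move h.toAb hq hw.2 hv
  have h2 : E.relIndex K ≤ 2 := by
    refine relIndex_le_two fun a ha b hb hna hnb => ?_
    rw [hE, mem_centralizer_singleton_iff] at hna hnb ⊢
    have e1 : a * v * a⁻¹ = q * v := (hmv a ha).resolve_left fun e => hna (mul_inv_eq_iff_eq_mul.1 e)
    have e2 : b * v * b⁻¹ = q * v := (hmv b hb).resolve_left fun e => hnb (mul_inv_eq_iff_eq_mul.1 e)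
    have e3 : a * q * a⁻¹ = q := by
      rw [hK] at ha
      rw [mem_centralizer_singleton_iff.1 (hle' ha.1), mul_inv_cancel_right]
    refine mul_inv_eq_iff_eq_mul.1 ?_
    calc a * b * v * (a * b)⁻¹ = a * (b * v * b⁻¹) * a⁻¹ := by group
      _ = (a * q * a⁻¹) * (a * v * a⁻¹) := by rw [e2]; group
      _ = q * q * v := by rw [e1, e3, mul_assoc]
      _ = v := by rw [hqq, one_mul]
  have h3 : (fx (hm X M) (Rp.rho v)).index ≤ E.relIndex K * 2 := by
    refine (index_fx_le h.toAb c.pt Rp hvC).trans ?_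
    have h4 : (K ⊓ E).relIndex (ws V p) = E.relIndex K * 2 := by
      rw [← relIndex_mul_relIndex (K ⊓ E) K (ws V p) inf_le_left (by rw [hK]; exact inf_le_left), h1, inf_comm,
        inf_relIndex_right]
    rw [← h4]
    refine relIndex_le_of_le_left ?_ (relIndex_ne_zero' _ _)
    rw [hK, hE]
    exact inf_le_inf_right _ inf_le_left
  refine ⟨h3.trans (Nat.mul_le_mul_right 2 h2), ?_⟩
  by_contra hcon
  push Not at hcon
  have h5 : E.relIndex K = 1 := by
    rw [relIndex_eq_one]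
    intro w hw
    have hw' := hw
    rw [hK] at hw'
    rw [hE, mem_centralizer_singleton_iff]
    exact mul_inv_eq_iff_eq_mul.1 ((hmv w hw).resolve_right (hcon w hw'.1))
  have h6 := (ap.lam h.toAb hp₁).nt' hvv hv1
  rw [h5] at h3
  omega

/-- `π(q) ∈ [M, β]` -/
theorem pi_mem (h : AbN T V z n) (c : Crit V z n p q) (Rp : Rep V p M X) {v : G} (hv : v ∈ ws V q) {w : G}
    (hw : w ∈ ws V p) (e : w * v * w⁻¹ = q * v) : ofAdd (Rp.pi q) = (cb M (Rp.rho v) (ofAdd (Rp.pi w)))⁻¹ := by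
  have hvC := c.ws_le_centralizer h hv
  have e1 : q = w * (v * w⁻¹ * v⁻¹) := by
    calc q = (w * v * w⁻¹) * v⁻¹ := by rw [e, mul_inv_cancel_right]
      _ = _ := by group
  have e2 : Rp.pi q = Rp.pi w + -(Rp.rho v • Rp.pi w) := by
    rw [e1, Rp.pi_mul w hw _ (Rp.conj_mem hvC (inv_mem hw)), ← Rp.smul_pi v hvC _ (inv_mem hw), Rp.pi_inv hw, smul_neg]
  rw [e2]
  change _ = (hm X M (Rp.rho v) (ofAdd (Rp.pi w)) * (ofAdd (Rp.pi w))⁻¹)⁻¹
  rw [hm_ofAdd, mul_inv_rev, inv_inv]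
  rfl

/-- an element of `O₂(C(p))` moves `q` -/
theorem exists_move (h : AbN T V z n) (c : Crit V z n p q) (hqp : q ∈ ws V p) {Rp : Rep V p M X}
    (ap : At T V z p Rp J F) : ∃ s ∈ o2 (centralizer ({p} : Set G)), s * q * s⁻¹ = p * q := by
  by_contra hcon
  push Not at hcon
  apply Crit.ne h c
  refine (ap.rl q hqp (c.pt' h.toGeoC) (ap.red q hqp fun s hs => ?_)).symm
  exact mul_inv_eq_iff_eq_mul.1 ((o2_move h.toAb c.pt hs hqp).resolve_right (hcon s hs))

/-- **(f3)** -/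
theorem pi_ne (h : AbN T V z n) (c : Crit V z n p q) (hqp : q ∈ ws V p) (hpq : p ∈ ws V q) {Rp : Rep V p M X}
    (ap : At T V z p Rp J F) {Rq : Rep V q M X} (aq : At T V z q Rq J F) {y : X} (hy : orderOf y = 3) :
    y • Rp.pi q ≠ Rp.pi q := by
  intro hfix
  obtain ⟨g, hg, rfl⟩ := Rp.rho_surj y
  obtain ⟨m, hm3, hm3', -⟩ := ap.three_part hg hy
  have hq := c.pt' h.toGeoC
  have hgm := pow_mem hg m
  obtain ⟨k, hk⟩ : ∃ k, k = g ^ m := ⟨_, rfl⟩
  rw [← hk] at hm3 hm3' hgm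
  have hpp : p * p = 1 := Base.Pt.sq h.toGeoC c.pt
  have hqq : q * q = 1 := Base.Pt.sq h.toGeoC hq
  have hkp : k * p = p * k := mem_centralizer_singleton_iff.1 hgm
  have hfix' : Rp.rho k • Rp.pi q = Rp.pi q := by
    rw [hk, Rp.rho_pow hg]
    clear hk hm3 hm3' hgm hkp
    induction m with
    | zero => rw [pow_zero, one_smul]
    | succ m ih => rw [pow_succ, mul_smul, hfix, ih]
  rw [Rp.smul_pi k hgm q hqp, Rep.pi_eq_pi h.toAb c.pt Rp (Rp.conj_mem hgm hqp) hqp] at hfix'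
  have hkq : k * q = q * k := by
    rcases hfix' with e | e
    · exact mul_inv_eq_iff_eq_mul.1 e
    · exfalso
      have e3 : k ^ 3 = 1 := by rw [← hm3]; exact pow_orderOf_eq_one k
      have e4 : k * (k * q * k⁻¹) * k⁻¹ = q := by
        rw [e]
        calc k * (p * q) * k⁻¹ = (k * p) * k⁻¹ * (k * q * k⁻¹) := by group
          _ = p * (p * q) := by rw [e, hkp, mul_inv_cancel_right]
          _ = q := by rw [← mul_assoc, hpp, one_mul]
      have e5 : k * (k * (k * q * k⁻¹) * k⁻¹) * k⁻¹ = q := by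
        have : k * (k * (k * q * k⁻¹) * k⁻¹) * k⁻¹ = k ^ 3 * q * (k ^ 3)⁻¹ := by
          simp only [pow_succ, pow_zero, one_mul, mul_inv_rev, mul_assoc]
        rw [this, e3, one_mul, inv_one, mul_one]
      rw [e4, e] at e5
      exact Base.Pt.ne_one h.toGeoC c.pt (mul_right_cancel (e5.trans (one_mul q).symm))
  obtain ⟨s, hs, hsq⟩ := exists_move h c hqp ap
  obtain ⟨t, ht, htp⟩ := exists_move h (c.symm h.toAb) hpq aq
  have hpqc : p * q = q * p := ws_comm h.toAb c.pt (self_mem_ws h.toGeoC c.pt) hqp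
  exact NotThreeG.not_three h.cyc hpp hqq hpqc (Base.Pt.ne_one h.toGeoC c.pt) (Base.Pt.ne_one h.toGeoC hq)
    (Crit.ne h c) (isPGroup_o2 _) (o2_le _) (le_normalizer_o2 _) (fun s hs => o2_move h.toAb c.pt hs hqp) hs hsq
    (mem_centralizer_singleton_iff.1 (o2_le _ ht)) (by rw [htp, hpqc]) hkp hkq hm3

/-- `|F| = 4` -/
theorem card_four (h : AbN T V z n) (hn : 2 ≤ n) (c : Crit V z n p q) (hqp : q ∈ ws V p) {Rp : Rep V p M X}
    (ap : At T V z p Rp J F) {Rq : Rep V q M X} (aq : At T V z q Rq J F) : Fintype.card F = 4 := by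
  have hpq := mem_symm h hn c hqp ap aq
  obtain ⟨v, hv, hvC, hv1, hvv⟩ := Crit.exists_nk h (c.symm h.toAb) aq Rp
  have hvJ : Rp.rho v ∉ J := fun hJ => hv1 (by
    have h1 : Rp.rho v ∈ Rp.img (ws V q) ⊓ J :=
      mem_inf.2 ⟨Rp.rho_mem_img (c.ws_le_centralizer h) hv, hJ⟩
    rwa [img_inf_bot h hn c hqp ap aq, mem_bot] at h1)
  obtain ⟨hi, w, hw, e⟩ := exists_q h c ap (img_card h hn (c.symm h.toAb) hpq aq ap) hv hv1 hvv
  rcases (ap.hy.outer hvv hvJ).2 with h4 | ⟨P, hPJ, hP, hPc, y, hy, hy3⟩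
  · exact h4
  exfalso
  refine pi_ne h c hqp hpq ap aq hy3 ?_
  have h5 := pi_mem h c Rp hv hw e
  have h6 := perfect_fix hP hPc hi hy (ofAdd (Rp.pi w))
  have h7 : hm X M y (ofAdd (Rp.pi q)) = ofAdd (Rp.pi q) := by
    rw [h5, map_inv, h6]
  rw [hm_ofAdd] at h7
  exact ofAdd.injective h7

end Cfsg.Agent.OddCyclic.EN.NatTwo
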