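import Cfsg.Agent.OddCyclic.EN.NatTwo.TwoEnd
import Cfsg.Agent.OddCyclic.EN.NatTwo.TwoF

/-!
# (E1), type `(A_q)`, distance at least two: case 2
-/

set_option autoImplicit false
set_option linter.unusedSectionVars false
set_option linter.style.haveILetI false

namespace Cfsg.Agent.OddCyclic.EN.NatTwo

open Subgroup Cfsg Cfsg.Agent.ZN Cfsg.Agent.MinSimple.Geo Cfsg.Agent.OddCyclic.GeoC Cfsg.Agent.OddCyclic.BTwoA
  Cfsg.Agent.OddCyclic.EN.Line Cfsg.Agent.OddCyclic.EN.Base Cfsg.Agent.MinSimple.SecRep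
  Cfsg.Agent.OddCyclic.EN.RepM Cfsg.Agent.OddCyclic.EN.Perm Cfsg.Agent.OddCyclic.EN.OneCount
open Cfsg.Agent.OddCyclic.T1Module Cfsg.Agent.OddCyclic.FFBasic

universe u

variable {G : Type u} [Group G] [Finite G] {T V : Subgroup G} {z x p q : G} {n : ℕ}
  {M X : Type u} [AddCommGroup M] [Group X] [DistribMulAction X M] [Finite M] [Finite X]
  {F : Type} [Field F] [Fintype F] [CharP F 2] {R : Rep V x M X} {J : Subgroup X}

theorem Two.false_of (hcf : ∀ {p q : G}, Crit V z n p q → ∀ {Rp : Rep V p M X}, At T V z p Rp J F → q ∈ ws V p →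
      p ∈ ws V q → Nat.card (Rp.img (ws V q)) = 2 → Rp.img (ws V q) ⊓ J = ⊥ → ∀ {Rq : Rep V q M X},
      At T V z q Rq J F → Nat.card (Rq.img (ws V p)) = 2 → Rq.img (ws V p) ⊓ J = ⊥ → Fintype.card F = 4)
    (h : AbN T V z n) (hn : 2 ≤ n) (hc : Crit V z n p q) (hq : q ∈ ws V p) (a : At T V z x R J F) : False := by
  obtain ⟨Rp, ap⟩ := a.exists hc.pt
  obtain ⟨Rq, aq⟩ := a.exists (hc.pt' h.toGeoC)
  have hp := mem_symm h hn hc hq ap aq
  have hc' := hc.symm h.toAb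
  have h4 := hcf hc ap hq hp (img_card h hn hc hq ap aq) (img_inf_bot h hn hc hq ap aq) aq
    (img_card h hn hc' hp aq ap) (img_inf_bot h hn hc' hp aq ap)
  exact last_count h hn hc hq ap aq (fun haa haJ _ hB hb => aq.hy.card_le_four h4 haa haJ hB hb)

/-- **case 2** -/
theorem Two.false (h : AbN T V z n) (hn : 2 ≤ n) (hc : Crit V z n p q) (hq : q ∈ ws V p) (a : At T V z x R J F) :
    False := by
  obtain ⟨Rp, ap⟩ := a.exists hc.pt
  obtain ⟨Rq, aq⟩ := a.exists (hc.pt' h.toGeoC)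
  exact last_count h hn hc hq ap aq (fun haa haJ _ hB hb =>
    aq.hy.card_le_four (card_four h hn hc hq ap aq) haa haJ hB hb)

end Cfsg.Agent.OddCyclic.EN.NatTwo
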