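import Cfsg.Agent.OddCyclic.EN.NatTwo.OneFin
import Cfsg.Agent.OddCyclic.EN.NatTwo.Prod
import Cfsg.Agent.OddCyclic.EN.NatTwo.Two
import Cfsg.Agent.OddCyclic.EN.Shape

/-!
# (E1), type `(A_q)`, distance at least two: the end
-/

set_option autoImplicit false
set_option linter.unusedSectionVars false
set_option linter.style.haveILetI false

namespace Cfsg.Agent.OddCyclic.EN.NatTwo

open Subgroup Cfsg Cfsg.Agent.ZN Cfsg.Agent.MinSimple.Geo Cfsg.Agent.OddCyclic.GeoC Cfsg.Agent.OddCyclic.BTwoA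
  Cfsg.Agent.OddCyclic.EN.Line Cfsg.Agent.OddCyclic.EN.Base Cfsg.Agent.OddCyclic.EN.BbDefs
  Cfsg.Agent.OddCyclic.EN.Shape

universe u

/-- **type `(A_q)`, `n ≥ 2`** -/
theorem aTwo {G : Type u} [Group G] [Finite G] {T V L : Subgroup G} {z : G} {M X : Type u} [AddCommGroup M] [Group X]
    [DistribMulAction X M] {R : RepM.Rep V z M X} {J : Subgroup X} (c : Cfg T V z L R J) (ht : TypeA T V z R J)
    {n : ℕ} (hn : 2 ≤ n) (h : AbN T V z n) : False := by
  have i4 : Finite X := R.finite_right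
  have i5 : Finite M := R.finite_left
  obtain ⟨F, i1, i2, i3, a⟩ := prod c ht
  by_cases hall : ∀ p q, Crit V z n p q → q ∉ ws V p
  · exact C1.false h hn hall a
  · push Not at hall
    obtain ⟨p, q, hc, hq⟩ := hall
    exact Two.false h hn hc hq a

end Cfsg.Agent.OddCyclic.EN.NatTwo
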