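import Cfsg.Agent.OddCyclic.FFMain
import Cfsg.Agent.OddCyclic.RedFFDefs
import Cfsg.Agent.OddCyclic.COneXL
import Cfsg.Agent.OddCyclic.RedLinA
import Cfsg.Agent.OddCyclic.EmpC.Irr
import Cfsg.Agent.OddCyclic.L2Model
import Cfsg.Agent.OddCyclic.L2Borel

/-!
# (E1), `V_z` abelian, type `(A_q)`, distance at least two: the group `X = C(z)/K_z` and its module

`Hy ρ L F`: `X` acts faithfully on the elementary abelian 2-group `V`, `L ⊴ X`, `SL₂(F) ≃* L`, `C_X(L) = 1`, `3 ∣ |F| - 1`.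
-/

set_option autoImplicit false
set_option linter.unusedSectionVars false
set_option linter.style.haveILetI false

namespace Cfsg.Agent.OddCyclic.EN.NatTwo

open Matrix Subgroup Cfsg.Agent.OddCyclic.T1Module Cfsg.Agent.OddCyclic.T1Sl2 Cfsg.Agent.OddCyclic.FFBasic
  Cfsg.Agent.OddCyclic.FFRed Cfsg.Agent.OddCyclic.FFSl2 Cfsg.Agent.OddCyclic.T1Defs
  Cfsg.Agent.OddCyclic.RedFFDefs
open Cfsg.Agent.OddCyclic.FFOuter (ac e_ac ac_coe ac_eq_iff)
open Cfsg.Agent.Classification.QDW.TypeHom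
open Cfsg.Agent.Lib.SL2Mat (fieldAut)

universe u

variable {X : Type u} [Group X] [Finite X] {V : Type u} [CommGroup V] [Finite V] {ρ : X →* MulAut V}
  {L : Subgroup X} {F : Type} [Field F] [Fintype F] [CharP F 2]

/-- `L ≅ SL₂(F)` is normal in `X`, `C_X(L) = 1`, `X` is faithful on `V` -/
structure Hy (ρ : X →* MulAut V) (L : Subgroup X) (F : Type) [Field F] [Fintype F] [CharP F 2] : Prop where
  sq : ∀ v : V, v * v = 1
  inj : Function.Injective ρ
  cyc : OddCyc X
  ffc : FFC X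
  nrm : L.Normal
  four : 4 ≤ Fintype.card F
  om : ∃ w : F, w * w + w + 1 = 0
  iso : Nonempty (SpecialLinearGroup (Fin 2) F ≃* L)
  cent : ∀ x : X, (∀ g ∈ L, x * g = g * x) → x = 1

namespace Hy

theorem simple (h : Hy ρ L F) : IsSimpleGroup L := by
  have := isSimpleGroup_sl2 (F := F) h.four
  obtain ⟨e⟩ := h.iso
  exact e.symm.isSimpleGroup

theorem simple_sl (h : Hy ρ L F) : IsSimpleGroup (SpecialLinearGroup (Fin 2) F) := isSimpleGroup_sl2 h.four

theorem card_L (h : Hy ρ L F) : Nat.card L = Nat.card (SpecialLinearGroup (Fin 2) F) := by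
  obtain ⟨e⟩ := h.iso
  exact (Nat.card_congr e.toEquiv).symm

theorem ne_bot (h : Hy ρ L F) : L ≠ ⊥ := by
  rintro rfl
  have := h.simple.toNontrivial
  obtain ⟨x, hx⟩ := exists_ne (1 : (⊥ : Subgroup X))
  exact hx (Subsingleton.elim _ _)

/-- every nontrivial normal subgroup contains `L` -/
theorem le_of_normal (h : Hy ρ L F) {N : Subgroup X} (hN : N.Normal) (h1 : N ≠ ⊥) : L ≤ N := by
  have hL := h.nrm
  have hs := h.simple
  rcases hs.eq_bot_or_eq_top_of_normal _ (hN.subgroupOf L) with h2 | h2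
  · exfalso
    apply h1
    rw [eq_bot_iff]
    intro x hx
    rw [mem_bot]
    refine h.cent x fun g hg => ?_
    have h4 : x * g * x⁻¹ * g⁻¹ ∈ N := by
      have : x * g * x⁻¹ * g⁻¹ = x * (g * x⁻¹ * g⁻¹) := by group
      rw [this]
      exact mul_mem hx (hN.conj_mem _ (inv_mem hx) g)
    have h5 : x * g * x⁻¹ * g⁻¹ ∈ L := mul_mem (hL.conj_mem _ hg x) (inv_mem hg)
    have h6 : (⟨_, h5⟩ : L) ∈ N.subgroupOf L := by rw [mem_subgroupOf]; exact h4
    rw [h2, mem_bot] at h6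
    have h7 : x * g * x⁻¹ * g⁻¹ = 1 := congrArg Subtype.val h6
    calc x * g = x * g * x⁻¹ * g⁻¹ * (g * x) := by group
      _ = g * x := by rw [h7, one_mul]
  · rwa [subgroupOf_eq_top] at h2

/-- `L` is the only normal subgroup which is a nonabelian simple group -/
theorem eq_of_normal (h : Hy ρ L F) {N : Subgroup X} (hN : N.Normal) (hs : IsSimpleGroup N) : L = N := by
  have h1 : N ≠ ⊥ := by
    rintro rfl
    have := hs.toNontrivial
    obtain ⟨x, hx⟩ := exists_ne (1 : (⊥ : Subgroup X))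
    exact hx (Subsingleton.elim _ _)
  have hle := h.le_of_normal hN h1
  have hL := h.nrm
  rcases hs.eq_bot_or_eq_top_of_normal _ (hL.subgroupOf N) with h2 | h2
  · exfalso
    apply h.ne_bot
    rw [eq_bot_iff]
    intro x hx
    have : (⟨x, hle hx⟩ : N) ∈ L.subgroupOf N := by rw [mem_subgroupOf]; exact hx
    rw [h2, mem_bot] at this
    exact congrArg Subtype.val this
  · rw [subgroupOf_eq_top] at h2
    exact le_antisymm hle h2

theorem noncomm (h : Hy ρ L F) : ∃ a ∈ L, ∃ b ∈ L, a * b ≠ b * a := by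
  by_contra hcon
  push Not at hcon
  apply h.ne_bot
  rw [eq_bot_iff]
  intro x hx
  exact h.cent x fun g hg => hcon x hx g hg

/-- `O₂(X) = 1` -/
theorem o2_bot (h : Hy ρ L F) (D : Subgroup X) (hD : D.Normal) (h2 : IsPGroup 2 D) : D = ⊥ := by
  by_contra h1
  have hle := h.le_of_normal hD h1
  have hL2 : IsPGroup 2 L := h2.to_le hle
  have hs := h.simple
  have : Fact (Nat.Prime 2) := ⟨Nat.prime_two⟩
  have : Nontrivial L := hs.toNontrivial
  have hz : Nontrivial (center L) := hL2.center_nontrivial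
  have hzt : center L = ⊤ := by
    rcases hs.eq_bot_or_eq_top_of_normal (center L) inferInstance with h3 | h3
    · exfalso
      rw [h3] at hz
      obtain ⟨x, hx⟩ := exists_ne (1 : (⊥ : Subgroup L))
      exact hx (Subsingleton.elim _ _)
    · exact h3
  obtain ⟨a, ha, b, hb, hab⟩ := h.noncomm
  apply hab
  have h4 : (⟨a, ha⟩ : L) ∈ center L := by rw [hzt]; exact mem_top _
  have h5 := mem_center_iff.1 h4 ⟨b, hb⟩
  exact (congrArg Subtype.val h5).symm

/-- `X` is faithful on `V / C_V(L)` -/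
theorem inv_CS (h : Hy ρ L F) : EmpC.Inv ρ (CS ρ L) := by
  intro x v hv l hl
  have hL := h.nrm
  have h1 : x⁻¹ * l * x ∈ L := by
    have := hL.conj_mem l hl x⁻¹
    rwa [inv_inv] at this
  have h2 := hv _ h1
  calc ρ l (ρ x v) = ρ x (ρ (x⁻¹ * l * x) v) := by
        rw [← MulAut.mul_apply, ← MulAut.mul_apply, ← map_mul, ← map_mul]; congr 2; group
    _ = ρ x v := by rw [h2]

/-- the module `V~ = V / C_V(L)` -/
noncomputable def qq (h : Hy ρ L F) : X →* MulAut (V ⧸ CS ρ L) := EmpC.quo ρ (CS ρ L) h.inv_CS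

theorem qq_apply (h : Hy ρ L F) (x : X) (v : V) : h.qq x (v : V ⧸ CS ρ L) = ((ρ x v : V) : V ⧸ CS ρ L) := rfl

theorem qq_eq_iff (h : Hy ρ L F) (x : X) (v : V) : h.qq x (v : V ⧸ CS ρ L) = v ↔ ρ x v * v⁻¹ ∈ CS ρ L := by
  rw [qq_apply, eq_comm, QuotientGroup.eq, mul_comm]

theorem inj_qq (h : Hy ρ L F) : Function.Injective h.qq := by
  rw [injective_iff_map_eq_one]
  intro x hx
  have hs := h.simple
  refine h.cent x ?_
  have h1 : x ∈ centralizer (L : Set X) := by
    refine RedLinA.cent_of_quot h.inj h.nrm hs ?_ (t := x) ?_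
    · obtain ⟨a, ha, b, hb, hab⟩ := h.noncomm
      exact ⟨⟨a, ha⟩, ⟨b, hb⟩, fun e => hab (congrArg Subtype.val e)⟩
    · intro v
      rw [← h.qq_eq_iff, hx]; rfl
  intro g hg
  exact (mem_centralizer_iff.1 h1 g hg).symm

theorem cs_quo (h : Hy ρ L F) : CS h.qq L = ⊥ := by
  -- `v` with `[v, L] ≤ C_V(L)` is centralized by `L` (perfect)
  rw [eq_bot_iff]
  intro v hv
  obtain ⟨v, rfl⟩ := QuotientGroup.mk_surjective v
  have hv' : ∀ l ∈ L, ρ l v * v⁻¹ ∈ CS ρ L := fun l hl => (h.qq_eq_iff l v).1 (hv l hl)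
  -- the map `l ↦ [l, v]` is a homomorphism `L → C_V(L)`
  let f : L →* V :=
    { toFun := fun l => ρ l v * v⁻¹
      map_one' := by simp
      map_mul' := by
        intro a b
        have h1 : ρ (a : X) (ρ (b : X) v * v⁻¹) = ρ (b : X) v * v⁻¹ := hv' b b.2 a a.2
        change ρ ((a * b : L) : X) v * v⁻¹ = (ρ (a : X) v * v⁻¹) * (ρ (b : X) v * v⁻¹)
        rw [Subgroup.coe_mul, map_mul, MulAut.mul_apply]
        have h2 : ρ (a : X) (ρ (b : X) v) = ρ (a : X) (ρ (b : X) v * v⁻¹) * ρ (a : X) v := by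
          rw [← map_mul]; simp
        rw [h2, h1, mul_comm (ρ (a : X) v * v⁻¹), mul_assoc] }
  have hs := h.simple
  rw [mem_bot, QuotientGroup.eq_one_iff]
  rcases hs.eq_bot_or_eq_top_of_normal f.ker inferInstance with h3 | h3
  · exfalso
    obtain ⟨a, ha, b, hb, hab⟩ := h.noncomm
    apply hab
    have h4 : (⟨a, ha⟩ * ⟨b, hb⟩ : L) = ⟨b, hb⟩ * ⟨a, ha⟩ := by
      apply (MonoidHom.ker_eq_bot_iff f).1 h3
      rw [map_mul, map_mul, mul_comm]
    exact congrArg Subtype.val h4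
  · intro l hl
    have h4 : (⟨l, hl⟩ : L) ∈ f.ker := by rw [h3]; exact mem_top _
    exact mul_inv_eq_one.1 h4

end Hy

end Cfsg.Agent.OddCyclic.EN.NatTwo
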