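import Mathlib

/-!
# Pairings of a group with an elementary abelian 2-group
-/

set_option autoImplicit false

namespace Cfsg.Agent.OddCyclic.EN.NatTwo

variable {Q E : Type*} [Group Q] [AddCommGroup E] [Finite E]

/-- a separating group of homomorphisms to `ℤ/2` contains all homomorphisms -/
theorem exists_of_sep (two : ∀ m : E, m + m = 0) (B : Q → E → ZMod 2)
    (hB1 : ∀ a b m, B (a * b) m = B a m + B b m) (hB2 : ∀ a m n, B a (m + n) = B a m + B a n)
    (sep : ∀ m, (∀ a, B a m = 0) → m = 0) (φ : E →+ ZMod 2) : ∃ a, ∀ m, B a m = φ m := by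
  letI : Module (ZMod 2) E := AddCommGroup.zmodModule (n := 2) (fun m => by rw [two_nsmul]; exact two m)
  have hB0 : ∀ a, B a 0 = 0 := by
    intro a
    have h := hB2 a 0 0
    rw [add_zero] at h
    exact left_eq_add.mp h
  have h1 : ∀ m, B 1 m = 0 := by
    intro m
    have h := hB1 1 1 m
    rw [mul_one] at h
    exact left_eq_add.mp h
  let f : Q → Module.Dual (ZMod 2) E := fun a =>
    AddMonoidHom.toZModLinearMap 2 { toFun := B a, map_zero' := hB0 a, map_add' := hB2 a }
  have hf : ∀ a m, f a m = B a m := fun a m => rfl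
  let W : Submodule (ZMod 2) (Module.Dual (ZMod 2) E) :=
    { carrier := Set.range f
      add_mem' := by
        rintro _ _ ⟨a, rfl⟩ ⟨b, rfl⟩
        refine ⟨a * b, ?_⟩
        ext m
        rw [LinearMap.add_apply, hf, hf, hf, hB1]
      zero_mem' := by
        refine ⟨1, ?_⟩
        ext m
        rw [hf, h1]; rfl
      smul_mem' := by
        rintro c _ ⟨a, rfl⟩
        have hc : c = 0 ∨ c = 1 := by
          revert c
          decide
        rcases hc with rfl | rfl
        · refine ⟨1, ?_⟩
          ext m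
          rw [hf, h1]; simp
        · refine ⟨a, ?_⟩
          rw [one_smul] }
  have hW : W.dualCoannihilator = ⊥ := by
    rw [eq_bot_iff]
    intro m hm
    rw [Submodule.mem_dualCoannihilator] at hm
    exact sep m fun a => hm (f a) ⟨a, rfl⟩
  have hW2 : W = ⊤ := by
    rw [← Subspace.dualCoannihilator_dualAnnihilator_eq (W := W), hW, Submodule.dualAnnihilator_bot]
  have h2 : AddMonoidHom.toZModLinearMap 2 φ ∈ W := by rw [hW2]; exact Submodule.mem_top
  obtain ⟨a, ha⟩ := h2
  exact ⟨a, fun m => LinearMap.congr_fun ha m⟩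

/-- the same for a homomorphism on a subgroup -/
theorem exists_of_sep' (two : ∀ m : E, m + m = 0) (B : Q → E → ZMod 2)
    (hB1 : ∀ a b m, B (a * b) m = B a m + B b m) (hB2 : ∀ a m n, B a (m + n) = B a m + B a n)
    (sep : ∀ m, (∀ a, B a m = 0) → m = 0) (D : AddSubgroup E) (φ : D →+ ZMod 2) : ∃ a, ∀ m : D, B a m = φ m := by
  letI : Module (ZMod 2) E := AddCommGroup.zmodModule (n := 2) (fun m => by rw [two_nsmul]; exact two m)
  let p : Submodule (ZMod 2) E := AddSubgroup.toZModSubmodule 2 D
  let f' : p →ₗ[ZMod 2] ZMod 2 := AddMonoidHom.toZModLinearMap 2 (φ : p →+ ZMod 2)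
  obtain ⟨g, hg⟩ := LinearMap.exists_extend f'
  obtain ⟨a, ha⟩ := exists_of_sep two B hB1 hB2 sep g.toAddMonoidHom
  refine ⟨a, fun m => ?_⟩
  rw [ha]
  exact LinearMap.congr_fun hg m

theorem card_dual (two : ∀ m : E, m + m = 0) : Nat.card (E →+ ZMod 2) = Nat.card E := by
  letI : Module (ZMod 2) E := AddCommGroup.zmodModule (n := 2) (fun m => by rw [two_nsmul]; exact two m)
  have e : (E →+ ZMod 2) ≃ Module.Dual (ZMod 2) E :=
    { toFun := fun f => AddMonoidHom.toZModLinearMap 2 f
      invFun := fun f => f.toAddMonoidHom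
      left_inv := fun f => rfl
      right_inv := fun f => rfl }
  rw [Nat.card_congr e]
  classical
  haveI := Fintype.ofFinite E
  haveI : Finite (Module.Dual (ZMod 2) E) := Module.finite_of_finite (ZMod 2)
  haveI := Fintype.ofFinite (Module.Dual (ZMod 2) E)
  rw [Nat.card_eq_fintype_card, Nat.card_eq_fintype_card, Module.card_eq_pow_finrank (K := ZMod 2),
    Module.card_eq_pow_finrank (K := ZMod 2) (V := E), Subspace.dual_finrank_eq]

/-- the index of the left kernel of a pairing with trivial right kernel -/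
theorem card_le_index [Finite Q] (two : ∀ m : E, m + m = 0) (B : Q → E → ZMod 2)
    (hB1 : ∀ a b m, B (a * b) m = B a m + B b m) (hB2 : ∀ a m n, B a (m + n) = B a m + B a n)
    (sep : ∀ m, (∀ a, B a m = 0) → m = 0) (K : Subgroup Q) (hK : ∀ a ∈ K, ∀ m, B a m = 0) :
    Nat.card E ≤ K.index := by
  have h1 : ∀ m, B 1 m = 0 := fun m => hK 1 (one_mem _) m
  have hinv : ∀ a m, B a⁻¹ m = B a m := by
    intro a m
    have h := hB1 a⁻¹ a m
    rw [inv_mul_cancel, h1] at h
    have h2 := CharTwo.add_eq_zero.mp h.symm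
    exact h2
  rw [← card_dual two, Subgroup.index]
  choose s hs using exists_of_sep two B hB1 hB2 sep
  refine Nat.card_le_card_of_injective (fun φ => (QuotientGroup.mk (s φ) : Q ⧸ K)) ?_
  intro φ ψ h
  have h2 : (s φ)⁻¹ * s ψ ∈ K := QuotientGroup.eq.1 h
  ext m
  have h3 := hK _ h2 m
  rw [hB1, hinv, hs, hs] at h3
  exact CharTwo.add_eq_zero.mp h3

end Cfsg.Agent.OddCyclic.EN.NatTwo
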