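import Cfsg.Agent.OddCyclic.EN.NatTwo.OneBot
import Cfsg.Agent.OddCyclic.EN.NatTwo.Dual

/-!
# (E1), type `(A_q)`, distance at least two: adjusting by elements of `kq V x`; elements of order three
-/

set_option autoImplicit false
set_option linter.unusedSectionVars false
set_option linter.style.haveILetI false

namespace Cfsg.Agent.OddCyclic.EN.NatTwo

open Subgroup Cfsg Cfsg.Agent.ZN Cfsg.Agent.MinSimple.Geo Cfsg.Agent.OddCyclic.GeoC Cfsg.Agent.OddCyclic.BTwoA
  Cfsg.Agent.OddCyclic.EN.Line Cfsg.Agent.OddCyclic.EN.Base Cfsg.Agent.MinSimple.SecRep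
  Cfsg.Agent.OddCyclic.EN.RepM Cfsg.Agent.OddCyclic.EN.Perm Cfsg.Agent.OddCyclic.EN.OneCount
open Cfsg.Agent.OddCyclic.T1Module Cfsg.Agent.OddCyclic.FFBasic
open Cfsg.Agent.ZN.Block (conj_mem_of_normalizer conj_mem_of_normalizer' le_normalizer_of_forall
  mem_normalizer_of)
open Multiplicative (ofAdd toAdd)

universe u

variable {G : Type u} [Group G] [Finite G] {T V : Subgroup G} {z x y p q : G} {n : ℕ}
  {M X : Type u} [AddCommGroup M] [Group X] [DistribMulAction X M] [Finite M] [Finite X]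
  {F : Type} [Field F] [Fintype F] [CharP F 2] {J : Subgroup X} {R : Rep V x M X}

theorem o2_le_kq (h : Ab T V z) (hx : Pt z x) : o2 (centralizer ({x} : Set G)) ≤ kq V x := by
  obtain ⟨g, _, h'⟩ := exists_odd h hx
  have h1 := BTwoB.le_kq h'.toGeoC (N := o2 (centralizer ({x} : Set G))) (o2_le _) (le_normalizer_o2 _) (fun c hc => by
    obtain ⟨k, hk⟩ := isPGroup_o2 (centralizer ({x} : Set G)) ⟨c, hc⟩
    refine ⟨k, ?_⟩
    have : c ^ 2 ^ k = 1 := congrArg Subtype.val hk
    rw [this]; exact one_mem _)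
  rwa [Base.kq_cj_left] at h1

/-- the pairing of `O₂(C(x))` with `ws V x` -/
noncomputable def bt (a w : G) : ZMod 2 := by
  classical
  exact if a * w * a⁻¹ = w then 0 else 1

theorem bt_eq_zero {a w : G} : bt a w = 0 ↔ a * w * a⁻¹ = w := by
  unfold bt
  split
  · simp [*]
  · simp [*]

theorem bt_of_ne {a w : G} (h : a * w * a⁻¹ ≠ w) : bt a w = 1 := by
  unfold bt
  rw [if_neg h]

theorem bt_mul_left (h : Ab T V z) (hx : Pt z x) {a b w : G} (ha : a ∈ kq V x) (hb : b ∈ kq V x) (hw : w ∈ ws V x) :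
    bt (a * b) w = bt a w + bt b w := by
  have hx1 : x ≠ 1 := Base.Pt.ne_one h.toGeoC hx
  have hxx : x * x = 1 := Base.Pt.sq h.toGeoC hx
  have hax : a * x = x * a := mem_centralizer_singleton_iff.1 (mem_kq'.1 ha).1
  have hne : x * w ≠ w := fun e => hx1 (mul_right_cancel (e.trans (one_mul w).symm))
  have e0 : a * b * w * (a * b)⁻¹ = a * (b * w * b⁻¹) * a⁻¹ := by group
  have e1 : a * (x * w) * a⁻¹ = x * (a * w * a⁻¹) := by
    calc a * (x * w) * a⁻¹ = (a * x) * w * a⁻¹ := by group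
      _ = x * (a * w * a⁻¹) := by rw [hax]; group
  rcases kq_move h hx ha hw with h1 | h1 <;> rcases kq_move h hx hb hw with h2 | h2
  · have k3 : bt (a * b) w = 0 := bt_eq_zero.2 (by rw [e0, h2, h1])
    rw [bt_eq_zero.2 h1, bt_eq_zero.2 h2, k3, add_zero]
  · have k2 : bt b w = 1 := bt_of_ne (by rw [h2]; exact hne)
    have k3 : bt (a * b) w = 1 := bt_of_ne (by rw [e0, h2, e1, h1]; exact hne)
    rw [bt_eq_zero.2 h1, k2, k3, zero_add]
  · have k2 : bt a w = 1 := bt_of_ne (by rw [h1]; exact hne)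
    have k3 : bt (a * b) w = 1 := bt_of_ne (by rw [e0, h2, h1]; exact hne)
    rw [bt_eq_zero.2 h2, k2, k3, add_zero]
  · have k1 : bt a w = 1 := bt_of_ne (by rw [h1]; exact hne)
    have k2 : bt b w = 1 := bt_of_ne (by rw [h2]; exact hne)
    have k3 : bt (a * b) w = 0 := bt_eq_zero.2 (by rw [e0, h2, e1, h1, ← mul_assoc, hxx, one_mul])
    rw [k1, k2, k3]
    decide

theorem bt_mul_right (h : Ab T V z) (hx : Pt z x) {a v w : G} (ha : a ∈ kq V x) (hv : v ∈ ws V x) (hw : w ∈ ws V x) :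
    bt a (v * w) = bt a v + bt a w := by
  have hx1 : x ≠ 1 := Base.Pt.ne_one h.toGeoC hx
  have hxx : x * x = 1 := Base.Pt.sq h.toGeoC hx
  have hvx : v * x = x * v := ws_comm h hx hv (self_mem_ws h.toGeoC hx)
  have hne : ∀ w : G, x * w ≠ w := fun w e => hx1 (mul_right_cancel (e.trans (one_mul w).symm))
  have e0 : a * (v * w) * a⁻¹ = (a * v * a⁻¹) * (a * w * a⁻¹) := by group
  rcases kq_move h hx ha hv with h1 | h1 <;> rcases kq_move h hx ha hw with h2 | h2
  · have k3 : bt a (v * w) = 0 := bt_eq_zero.2 (by rw [e0, h2, h1])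
    rw [bt_eq_zero.2 h1, bt_eq_zero.2 h2, k3, add_zero]
  · have k2 : bt a w = 1 := bt_of_ne (by rw [h2]; exact hne _)
    have k3 : bt a (v * w) = 1 := bt_of_ne (by
      rw [e0, h1, h2, ← mul_assoc, hvx, mul_assoc]; exact hne _)
    rw [bt_eq_zero.2 h1, k2, k3, zero_add]
  · have k2 : bt a v = 1 := bt_of_ne (by rw [h1]; exact hne _)
    have k3 : bt a (v * w) = 1 := bt_of_ne (by
      rw [e0, h1, h2, mul_assoc]; exact hne _)
    rw [bt_eq_zero.2 h2, k2, k3, add_zero]
  · have k1 : bt a v = 1 := bt_of_ne (by rw [h1]; exact hne _)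
    have k2 : bt a w = 1 := bt_of_ne (by rw [h2]; exact hne _)
    have k3 : bt a (v * w) = 0 := bt_eq_zero.2 (by
      rw [e0, h1, h2]
      calc x * v * (x * w) = x * (v * x) * w := by group
        _ = x * x * v * w := by rw [hvx]; group
        _ = v * w := by rw [hxx, one_mul])
    rw [k1, k2, k3]
    decide

/-- adjusting by an element of `kq V x` -/
theorem At.adjust (h : Ab T V z) (a : At T V z x R J F) (h0 : CS (hm X M) J = ⊥) {S : Subgroup G}
    (hS : S ≤ ws V x) (hxS : x ∉ S) {c : G} (hc : c ∈ centralizer ({x} : Set G))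
    (hcS : ∀ s ∈ S, c * s * c⁻¹ ∈ S ∨ x * (c * s * c⁻¹) ∈ S) :
    ∃ k ∈ kq V x, ∀ s ∈ S, (k * c) * s * (k * c)⁻¹ ∈ S := by
  classical
  have hxx : x * x = 1 := Base.Pt.sq h.toGeoC a.pt
  letI : CommGroup S := { (inferInstance : Group S) with
    mul_comm := fun s t => Subtype.ext (ws_comm h a.pt (hS s.2) (hS t.2)) }
  have hW : ∀ s ∈ S, c * s * c⁻¹ ∈ ws V x := fun s hs => R.conj_mem hc (hS hs)
  have hQk := o2_le_kq h a.pt
  let B : o2 (centralizer ({x} : Set G)) → Additive S → ZMod 2 := fun b s => bt (b : G) (c * (s.toMul : G) * c⁻¹)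
  have hxn : ∀ {u : G}, u ∈ S → x * u ∈ S → False := fun {u} h1 h2 => hxS (by
    have : x = x * u * u⁻¹ := by group
    rw [this]; exact mul_mem h2 (inv_mem h1))
  let φ : Additive S →+ ZMod 2 := AddMonoidHom.mk' (fun s => if c * (s.toMul : G) * c⁻¹ ∈ S then 0 else 1) (by
    intro s t
    have e : c * ((s + t).toMul : G) * c⁻¹ = (c * (s.toMul : G) * c⁻¹) * (c * (t.toMul : G) * c⁻¹) := by
      change c * ((s.toMul : G) * (t.toMul : G)) * c⁻¹ = _
      group
    have hsx : ∀ u ∈ S, x * (c * u * c⁻¹) = (c * u * c⁻¹) * x := fun u hu =>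
      ws_comm h a.pt (self_mem_ws h.toGeoC a.pt) (hW u hu)
    by_cases h1 : c * (s.toMul : G) * c⁻¹ ∈ S <;> by_cases h2 : c * (t.toMul : G) * c⁻¹ ∈ S
    · simp only [e, h1, h2, if_true]
      rw [if_pos (mul_mem h1 h2)]; simp
    · rw [e, if_pos h1, if_neg h2, if_neg, zero_add]
      intro h3
      exact h2 ((mul_mem_cancel_left h1).1 h3)
    · rw [e, if_neg h1, if_pos h2, if_neg, add_zero]
      intro h3
      exact h1 ((mul_mem_cancel_right h2).1 h3)
    · rw [e, if_neg h1, if_neg h2, if_pos]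
      · decide
      · have h3 := (hcS _ s.toMul.2).resolve_left h1
        have h4 := (hcS _ t.toMul.2).resolve_left h2
        have h5 := mul_mem h3 h4
        have e2 : x * (c * (s.toMul : G) * c⁻¹) * (x * (c * (t.toMul : G) * c⁻¹)) =
            (c * (s.toMul : G) * c⁻¹) * (c * (t.toMul : G) * c⁻¹) := by
          rw [hsx _ s.toMul.2, mul_assoc, ← mul_assoc x x, hxx, one_mul]
        rwa [e2] at h5)
  obtain ⟨k, hk⟩ := exists_of_sep (Q := o2 (centralizer ({x} : Set G))) (E := Additive S) (by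
      intro s
      apply Additive.toMul.injective
      exact Subtype.ext (Base.ws_sq h a.pt (hS s.toMul.2))) B
    (fun b b' s => bt_mul_left h a.pt (hQk b.2) (hQk b'.2) (hW _ s.toMul.2))
    (fun b s t => by
      have e : c * ((s + t).toMul : G) * c⁻¹ = (c * (s.toMul : G) * c⁻¹) * (c * (t.toMul : G) * c⁻¹) := by
        change c * ((s.toMul : G) * (t.toMul : G)) * c⁻¹ = _
        group
      change bt (b : G) (c * ((s + t).toMul : G) * c⁻¹) = _
      rw [e]
      exact bt_mul_right h a.pt (hQk b.2) (hW _ s.toMul.2) (hW _ t.toMul.2))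
    (fun s hs => by
      have h1 := a.red (c * (s.toMul : G) * c⁻¹) (hW _ s.toMul.2) (fun b hb => by
        have h2 := hs ⟨b, hb⟩
        have h3 := bt_eq_zero.1 h2
        exact mul_inv_eq_iff_eq_mul.1 h3)
      have h2 : ofAdd (R.pi (c * (s.toMul : G) * c⁻¹)) ∈ CS (hm X M) J := fun l hl => congrArg ofAdd (h1 l hl)
      rw [h0, mem_bot] at h2
      have h3 : R.pi (c * (s.toMul : G) * c⁻¹) = 0 := ofAdd.injective h2
      rw [Rep.pi_eq_zero' h a.pt R (hW _ s.toMul.2)] at h3
      apply Additive.toMul.injective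
      apply Subtype.ext
      change (s.toMul : G) = 1
      rcases h3 with h3 | h3
      · have : (s.toMul : G) = c⁻¹ * (c * (s.toMul : G) * c⁻¹) * c := by group
        rw [this, h3]; group
      · exfalso
        apply hxS
        have : (s.toMul : G) = x := by
          have h4 : c * x = x * c := mem_centralizer_singleton_iff.1 hc
          have : (s.toMul : G) = c⁻¹ * (c * (s.toMul : G) * c⁻¹) * c := by group
          rw [this, h3, mul_assoc, ← h4]; group
        rw [← this]; exact s.toMul.2) φ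
  refine ⟨k, hQk k.2, fun s hs => ?_⟩
  have h1 : bt (k : G) (c * s * c⁻¹) = (if c * s * c⁻¹ ∈ S then 0 else 1) := hk (Additive.ofMul ⟨s, hs⟩)
  have e : (k : G) * c * s * ((k : G) * c)⁻¹ = (k : G) * (c * s * c⁻¹) * (k : G)⁻¹ := by group
  rw [e]
  by_cases h2 : c * s * c⁻¹ ∈ S
  · rw [if_pos h2, bt_eq_zero] at h1
    rw [h1]; exact h2
  · rw [if_neg h2] at h1
    rcases kq_move h a.pt (hQk k.2) (hW s hs) with h3 | h3
    · rw [bt_eq_zero.2 h3] at h1
      exact absurd h1 (by decide)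
    · rw [h3]
      exact (hcS s hs).resolve_left h2

/-- the 3-part of an element inducing an element of order three -/
theorem At.three_part (a : At T V z x R J F) {c : G} (hc : c ∈ centralizer ({x} : Set G))
    (h3 : orderOf (R.rho c) = 3) :
    ∃ m : ℕ, orderOf (c ^ m) = 3 ∧ orderOf (R.rho (c ^ m)) = 3 ∧ Nat.Coprime 3 m := by
  obtain ⟨k, m, hm, e⟩ := Nat.exists_eq_pow_mul_and_not_dvd (orderOf_pos c).ne' 3 (by norm_num)
  have hcop : Nat.Coprime 3 m := (Nat.Prime.coprime_iff_not_dvd Nat.prime_three).2 hm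
  have hm0 : 0 < m := Nat.pos_of_ne_zero (by rintro rfl; exact hm (dvd_zero 3))
  have hpow : ∀ j : ℕ, R.rho (c ^ j) = R.rho c ^ j := by
    intro j
    have := map_pow R.hom ⟨c, hc⟩ j
    exact this
  have h4 : orderOf (R.rho (c ^ m)) = 3 := by
    rw [hpow, Nat.Coprime.orderOf_pow (by rw [h3]; exact hcop), h3]
  have h5 : c ^ (3 ^ k * m) = 1 := by rw [← e]; exact pow_orderOf_eq_one c
  have hk0 : k ≠ 0 := by
    rintro rfl
    rw [pow_zero, one_mul] at h5
    rw [h5] at h4
    have h6 : R.rho (1 : G) = 1 := by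
      have := map_one R.hom
      exact this
    rw [h6, orderOf_one] at h4
    norm_num at h4
  have hord : orderOf (c ^ m) = 3 ^ k := by
    rw [orderOf_pow' c hm0.ne', e, Nat.gcd_eq_right (Dvd.intro_left _ rfl), Nat.mul_div_cancel _ hm0]
  refine ⟨m, ?_, h4, hcop⟩
  rw [hord]
  obtain ⟨j, rfl⟩ := Nat.exists_eq_succ_of_ne_zero hk0
  rcases Nat.eq_zero_or_pos j with rfl | hj
  · rfl
  exfalso
  refine a.k3 ((c ^ m) ^ 3 ^ j) ?_ ?_
  · have h7 : R.rho ((c ^ m) ^ 3 ^ j) = 1 := by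
      rw [← pow_mul, hpow, pow_mul, ← hpow, ← orderOf_dvd_iff_pow_eq_one, h4]
      exact dvd_pow_self 3 (by omega)
    exact (RepM.Rep.rho_eq_one R (pow_mem (pow_mem hc m) _)).1 h7
  · rw [orderOf_pow' _ (by positivity), hord, Nat.gcd_eq_right (pow_dvd_pow 3 (Nat.le_succ j)), pow_succ,
      Nat.mul_div_cancel_left _ (by positivity)]

end Cfsg.Agent.OddCyclic.EN.NatTwo
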