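import Cfsg.Agent.OddCyclic.EN.NatTwo.Sect
import Cfsg.Agent.OddCyclic.EN.OneCount

/-!
# (E1), type `(A_q)`, distance at least two: (COV) and counting

* `At.cov`: (COV);
* `At.count`: an element `v` of `C(x)` inducing an involution of `J` on `M` satisfies `|P : C_{P / ws V x}(v)| ≥ q`.
-/

set_option autoImplicit false
set_option linter.unusedSectionVars false
set_option linter.style.haveILetI false

namespace Cfsg.Agent.OddCyclic.EN.NatTwo

open Subgroup Cfsg Cfsg.Agent.ZN Cfsg.Agent.MinSimple.Geo Cfsg.Agent.OddCyclic.GeoC Cfsg.Agent.OddCyclic.BTwoA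
  Cfsg.Agent.OddCyclic.EN.Line Cfsg.Agent.OddCyclic.EN.Base Cfsg.Agent.MinSimple.SecRep
  Cfsg.Agent.OddCyclic.EN.RepM Cfsg.Agent.OddCyclic.EN.Perm Cfsg.Agent.OddCyclic.EN.OneCount
open Cfsg.Agent.OddCyclic.T1Module Cfsg.Agent.OddCyclic.FFBasic
open Cfsg.Agent.ZN.Block (conj_mem_of_normalizer conj_mem_of_normalizer' le_normalizer_of_forall
  mem_normalizer_of)
open Multiplicative (ofAdd toAdd)
open Matrix (SpecialLinearGroup)

universe u

section abs

variable {X : Type u} [Group X] [Finite X] {W : Type u} [CommGroup W] [Finite W] {ρ : X →* MulAut W}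
  {L : Subgroup X} {F : Type} [Field F] [Fintype F] [CharP F 2]

/-- a primitive prime divisor of `q² - 1` -/
theorem Hy.exists_prime (h : Hy ρ L F) : ∃ r : ℕ, r.Prime ∧ r ≠ 2 ∧ r ∣ Nat.card (SpecialLinearGroup (Fin 2) F) ∧
    ∀ d, 0 < d → r ∣ 2 ^ d - 1 → Fintype.card F ^ 2 ≤ 2 ^ d := by
  obtain ⟨f, hf, hF⟩ := T1Sl2.card_pow F
  have h4 := h.four
  rw [hF] at h4
  have hf2 : 2 ≤ f := by
    by_contra hcon
    have : f = 1 := by omega
    rw [this] at h4
    norm_num at h4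
  have hf3 : f ≠ 3 := by
    rintro rfl
    obtain ⟨w, hw⟩ := h.om
    have hw0 : w ≠ 0 := by
      rintro rfl
      rw [mul_zero, zero_add, zero_add] at hw
      exact one_ne_zero hw
    have h1 : w ^ (Fintype.card F - 1) = 1 := FiniteField.pow_card_sub_one_eq_one w hw0
    rw [hF] at h1
    have h2 : w ^ 3 = 1 := by linear_combination (w - 1) * hw
    have h3 : w = 1 := by
      have e : w ^ (2 ^ 3 - 1) = (w ^ 3) * (w ^ 3) * w := by norm_num; ring
      rw [e, h2, one_mul, one_mul] at h1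
      exact h1
    rw [h3] at hw
    have h5 : (2 : F) = 0 := CharTwo.two_eq_zero
    have h6 : (1 : F) = 0 := by linear_combination hw - h5
    exact one_ne_zero h6
  obtain ⟨l, hl, hl1, hl2, hl3⟩ := Lib.Zsigmondy.exists_primitive (a := 2) (n := 2 * f) le_rfl (by omega)
    (fun h => by omega) (fun h => by omega)
  refine ⟨l, hl, fun h => hl3 (by rw [h]), dvd_card_of (F := F) hF ((hl1 (2 * f)).2 dvd_rfl) hl, fun d hd hd2 => ?_⟩
  rw [hF, ← pow_mul, mul_comm f 2]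
  exact Nat.pow_le_pow_right (by norm_num) (Nat.le_of_dvd hd ((hl1 d).1 hd2))

/-- **(M6)** a product of two conjugate involutions of order `r` -/
theorem Hy.exists_prod (h : Hy ρ L F) {r : ℕ} (hr : r.Prime) (hr2 : r ≠ 2)
    (hd : r ∣ Nat.card (SpecialLinearGroup (Fin 2) F)) {a : X} (ha : a ∈ L) (haa : a * a = 1) (ha1 : a ≠ 1) :
    ∃ g ∈ L, orderOf (a * (g * a * g⁻¹)) = r := by
  obtain ⟨e⟩ := h.iso
  obtain ⟨s, rfl⟩ := (mem_iff_exists e).1 ha
  have hss : s * s = 1 := e.injective (Subtype.ext (by rw [map_mul, coe_mul, haa, map_one]; rfl))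
  have hs1 : s ≠ 1 := fun hs => ha1 (by rw [hs, map_one]; rfl)
  have : Fact r.Prime := ⟨hr⟩
  obtain ⟨y₀, hy₀⟩ := exists_prime_orderOf_dvd_card' r hd
  obtain ⟨y, hy, hay⟩ := inverts_of_orderOf hss hs1 (y₀ := y₀) (by
    rw [hy₀, Nat.dvd_prime Nat.prime_two]
    have := hr.one_lt
    omega)
  rw [hy₀] at hy
  obtain ⟨k, hk⟩ := hr.odd_of_ne_two hr2
  -- `g = y^(k+1)`, `g^2 = y`
  obtain ⟨g, hg⟩ : ∃ g, g = y ^ (k + 1) := ⟨_, rfl⟩
  have hgg : g * g = y := by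
    rw [hg, ← pow_add]
    have : k + 1 + (k + 1) = r + 1 := by omega
    rw [this, pow_succ, ← hy, pow_orderOf_eq_one, one_mul]
  have hsg : s * g * s⁻¹ = g⁻¹ := by
    rw [hg, ← conj_pow, hay, inv_pow]
  refine ⟨(e g⁻¹ : L), (e g⁻¹).2, ?_⟩
  have h1 : s * (g⁻¹ * s * g⁻¹⁻¹) = y := by
    have h2 : s * g⁻¹ * s⁻¹ = g := by
      have := congrArg (·⁻¹) hsg
      simp only [mul_inv_rev, inv_inv] at this
      rw [mul_assoc]; exact this
    have h3 : s⁻¹ = s := inv_eq_of_mul_eq_one_left hss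
    calc s * (g⁻¹ * s * g⁻¹⁻¹) = (s * g⁻¹ * s⁻¹) * g := by rw [h3]; group
      _ = y := by rw [h2, hgg]
  have h2 : ((e s : L) : X) * (((e g⁻¹ : L) : X) * (e s : L) * ((e g⁻¹ : L) : X)⁻¹) = ((e y : L) : X) := by
    rw [← h1, map_mul, map_mul, map_mul, map_inv e g⁻¹, coe_mul, coe_mul, coe_mul, coe_inv]
  rw [h2, Subgroup.orderOf_coe, MulEquiv.orderOf_eq, hy]

end abs

variable {G : Type u} [Group G] [Finite G] {T V : Subgroup G} {z x y : G}
  {M X : Type u} [AddCommGroup M] [Group X] [DistribMulAction X M] [Finite M] [Finite X]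
  {F : Type} [Field F] [Fintype F] [CharP F 2] {R : Rep V x M X} {J : Subgroup X}

theorem img_normal (R : Rep V x M X) {N : Subgroup G} (hN : N ≤ centralizer ({x} : Set G))
    (hn : centralizer ({x} : Set G) ≤ normalizer (N : Set G)) : (R.img N).Normal := by
  constructor
  intro a ha b
  obtain ⟨n, hn', rfl⟩ := (R.mem_img hN).1 ha
  obtain ⟨c, hc, rfl⟩ := R.rho_surj b
  rw [← R.rho_conj hc (hN hn')]
  exact R.rho_mem_img hN (conj_mem_of_normalizer hn hc hn')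

/-- **(COV)** -/
theorem At.cov (h : Ab T V z) (a : At T V z x R J F) {P N₀ : Subgroup G} (hP : IsPGroup 2 P)
    (hPx : ws V x ≤ P) (hPy : ∀ y, Col V x y → ws V y ≤ P) (hN : N₀ ≤ centralizer ({x} : Set G))
    (hn : centralizer ({x} : Set G) ≤ normalizer (N₀ : Set G)) (hk : ¬ N₀ ≤ kq V x)
    (hc : ∀ c ∈ N₀, ∀ w ∈ P, c * w * c⁻¹ * w⁻¹ ∈ ws V x) : False := by
  obtain ⟨g, hg, h'⟩ := exists_odd h a.pt
  obtain ⟨y, hy, hy1, hyx⟩ := h'.exists_y
  have hx1 : x ≠ 1 := h'.z_ne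
  have hxy : Col V x y := ⟨hx1, hy1, Ne.symm hyx, cj g V, ⟨⟨g, rfl⟩, h'.z_mem⟩, hy⟩
  obtain ⟨l, hl⟩ : ∃ l, l = cj g V := ⟨_, rfl⟩
  rw [← hl] at h' hy
  obtain ⟨Wl, hWl⟩ : ∃ Wl : Subgroup G, Wl = sSup {U | ∃ v ∈ l, v ≠ 1 ∧ U = ws V v} := ⟨_, rfl⟩
  have hle : ∀ v ∈ l, v ≠ 1 → ws V v ≤ Wl := fun v hv hv1 => by
    rw [hWl]; exact le_sSup ⟨v, hv, hv1, rfl⟩
  have hWP : Wl ≤ P := by
    rw [hWl]
    apply sSup_le
    rintro _ ⟨v, hv, hv1, rfl⟩
    by_cases hvx : v = x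
    · rw [hvx]; exact hPx
    · exact hPy v ⟨hx1, hv1, Ne.symm hvx, l, ⟨⟨g, hl⟩, h'.z_mem⟩, hv⟩
  have hnl : normalizer (l : Set G) ≤ normalizer (Wl : Set G) := by
    intro m hm
    apply mem_normalizer_iff_cj.2
    apply Subgroup.eq_of_le_of_card_ge
    · have h1 : Wl ≤ cj m⁻¹ Wl := by
        nth_rewrite 1 [hWl]
        apply sSup_le
        rintro _ ⟨v, hv, hv1, rfl⟩
        have h2 : m * v * m⁻¹ ∈ l := (mem_normalizer_iff.1 hm v).1 hv
        have h3 := hle _ h2 (conj_ne_one hv1)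
        rw [← cj_ws, cj_le_iff] at h3
        exact h3
      rw [cj_le_iff]; exact h1
    · rw [card_cj]
  have hJ : J ≤ R.img N₀ := a.hy.le_of_normal (img_normal R hN hn) ((img_ne_bot R hN).2 hk)
  have hNW : N₀ ≤ normalizer (Wl : Set G) := by
    refine le_normalizer_of_forall fun c hc' w hw => ?_
    have e : c * w * c⁻¹ = (c * w * c⁻¹ * w⁻¹) * w := by group
    rw [e]
    exact mul_mem (hle x h'.z_mem hx1 (hc c hc' w (hWP hw))) hw
  have hCW : centralizer ({x} : Set G) ≤ normalizer (Wl : Set G) := by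
    intro c hcx
    obtain ⟨l', hl', e1⟩ := a.tr y hxy (R.rho c)
    obtain ⟨m, hm, rfl⟩ := (R.mem_img hN).1 (hJ hl')
    rw [R.smul_pi c hcx y hxy.mem_ws, R.smul_pi m (hN hm) y hxy.mem_ws,
      Rep.pi_eq_pi h a.pt R (R.conj_mem hcx hxy.mem_ws) (R.conj_mem (hN hm) hxy.mem_ws)] at e1
    have hmx : m * x = x * m := mem_centralizer_singleton_iff.1 (hN hm)
    have hcx' : c * x = x * c := mem_centralizer_singleton_iff.1 hcx
    obtain ⟨b, hb⟩ : ∃ b, b = m⁻¹ * c := ⟨_, rfl⟩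
    have hbx : b * x = x * b := by
      rw [hb]
      calc m⁻¹ * c * x = m⁻¹ * (c * x) := by group
        _ = m⁻¹ * (x * c) := by rw [hcx']
        _ = m⁻¹ * (x * m) * m⁻¹ * c := by group
        _ = m⁻¹ * (m * x) * m⁻¹ * c := by rw [hmx]
        _ = x * (m⁻¹ * c) := by group
    have hby : b * y * b⁻¹ ∈ l := by
      have e2 : b * y * b⁻¹ = m⁻¹ * (c * y * c⁻¹) * m := by rw [hb]; group
      rcases e1 with e1 | e1
      · rw [e2, e1]
        have : m⁻¹ * (m * y * m⁻¹) * m = y := by group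
        rw [this]; exact hy
      · rw [e2, e1]
        have : m⁻¹ * (x * (m * y * m⁻¹)) * m = m⁻¹ * x * m * y := by group
        rw [this]
        have h3 : m⁻¹ * x * m = x := by rw [mul_assoc, ← hmx]; group
        rw [h3]; exact mul_mem h'.z_mem hy
    have hbl : b ∈ normalizer (l : Set G) := by
      have h4 : cj b l ≤ l := by
        rintro _ ⟨v, hv, rfl⟩
        change b * v * b⁻¹ ∈ l
        have hbx2 : b * x * b⁻¹ = x := by rw [hbx]; group
        rcases h'.four h'.z_mem hy h'.z_ne hy1 (Ne.symm hyx) hv with rfl | rfl | rfl | rfl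
        · rw [mul_one, mul_inv_cancel]; exact one_mem _
        · rw [hbx2]; exact h'.z_mem
        · exact hby
        · have : b * (x * y) * b⁻¹ = (b * x * b⁻¹) * (b * y * b⁻¹) := by group
          rw [this, hbx2]
          exact mul_mem h'.z_mem hby
      exact mem_normalizer_iff_cj.2 (Subgroup.eq_of_le_of_card_ge h4 (by rw [card_cj]))
    have e3 : c = m * b := by rw [hb]; group
    rw [e3]
    exact mul_mem (hNW hm) (hnl hbl)
  have hbot := h'.core Wl (hP.to_le hWP) hnl hCW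
  have : x ∈ Wl := hle x h'.z_mem hx1 (self_mem_ws h.toGeoC a.pt)
  rw [hbot, mem_bot] at this
  exact hx1 this

/-- the elements of `C(x)` centralizing `P / ws V x` -/
def nz (V : Subgroup G) (x : G) (P : Subgroup G) (hP : centralizer ({x} : Set G) ≤ normalizer (P : Set G)) :
    Subgroup G where
  carrier := {c | c ∈ centralizer ({x} : Set G) ∧ ∀ w ∈ P, c * w * c⁻¹ * w⁻¹ ∈ ws V x}
  mul_mem' := by
    rintro a b ⟨ha, ha'⟩ ⟨hb, hb'⟩
    refine ⟨mul_mem ha hb, fun w hw => ?_⟩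
    have e : a * b * w * (a * b)⁻¹ * w⁻¹ = (a * (b * w * b⁻¹) * a⁻¹ * (b * w * b⁻¹)⁻¹) * (b * w * b⁻¹ * w⁻¹) := by
      group
    rw [e]
    exact mul_mem (ha' _ (conj_mem_of_normalizer hP hb hw)) (hb' w hw)
  one_mem' := ⟨one_mem _, fun w _ => by simp⟩
  inv_mem' := by
    rintro a ⟨ha, ha'⟩
    refine ⟨inv_mem ha, fun w hw => ?_⟩
    have h1 := ha' _ (conj_mem_of_normalizer' hP ha hw)
    have e : a⁻¹ * w * a⁻¹⁻¹ * w⁻¹ = (a * (a⁻¹ * w * a) * a⁻¹ * (a⁻¹ * w * a)⁻¹)⁻¹ := by group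
    rw [e]
    exact inv_mem h1

theorem mem_nz {P : Subgroup G} {hP : centralizer ({x} : Set G) ≤ normalizer (P : Set G)} {c : G} :
    c ∈ nz V x P hP ↔ c ∈ centralizer ({x} : Set G) ∧ ∀ w ∈ P, c * w * c⁻¹ * w⁻¹ ∈ ws V x := Iff.rfl

theorem nz_normal {P : Subgroup G} (hP : centralizer ({x} : Set G) ≤ normalizer (P : Set G)) :
    centralizer ({x} : Set G) ≤ normalizer ((nz V x P hP : Subgroup G) : Set G) := by
  refine le_normalizer_of_forall fun g hg c hc => ⟨mul_mem (mul_mem hg hc.1) (inv_mem hg), fun w hw => ?_⟩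
  have h1 := hc.2 _ (conj_mem_of_normalizer' hP hg hw)
  have h2 := conj_mem_of_normalizer (Cfsg.Agent.MinSimple.Geo.centralizer_le_normalizer_ws V x) hg h1
  have e : g * c * g⁻¹ * w * (g * c * g⁻¹)⁻¹ * w⁻¹ = g * (c * (g⁻¹ * w * g) * c⁻¹ * (g⁻¹ * w * g)⁻¹) * g⁻¹ := by
    group
  rw [e]; exact h2

/-- **(count)** -/
theorem At.count (h : Ab T V z) (a : At T V z x R J F) {P : Subgroup G} (hP : IsPGroup 2 P)
    (hPC : centralizer ({x} : Set G) ≤ normalizer (P : Set G)) (hPle : P ≤ centralizer ({x} : Set G))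
    (hPx : ws V x ≤ P) (hPy : ∀ y, Col V x y → ws V y ≤ P) {v : G} (hv : v ∈ centralizer ({x} : Set G))
    (hvJ : R.rho v ∈ J) (hv1 : v ∉ kq V x) (hvv : v * v ∈ kq V x) :
    Fintype.card F ≤ (dv P (ws V x) v).relIndex P := by
  obtain ⟨r, hr, hr2, hrd, hrq⟩ := a.hy.exists_prime
  have hrv1 : R.rho v ≠ 1 := fun e => hv1 ((Rep.rho_eq_one R hv).1 e)
  have hrvv : R.rho v * R.rho v = 1 := by
    rw [← R.rho_mul v hv v hv, Rep.rho_eq_one R (mul_mem hv hv)]; exact hvv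
  obtain ⟨g, hg, ho⟩ := a.hy.exists_prod hr hr2 hrd hvJ hrvv hrv1
  obtain ⟨c, hc, rfl⟩ := R.rho_surj g
  obtain ⟨e, he⟩ : ∃ e, e = v * (c * v * c⁻¹) := ⟨_, rfl⟩
  have hcv : c * v * c⁻¹ ∈ centralizer ({x} : Set G) := mul_mem (mul_mem hc hv) (inv_mem hc)
  have heC : e ∈ centralizer ({x} : Set G) := by rw [he]; exact mul_mem hv hcv
  have hre : orderOf (R.rho e) = r := by
    rw [he, R.rho_mul v hv _ hcv, R.rho_conj hc hv]; exact ho
  -- the `r`-part
  obtain ⟨k, m, hm, e1⟩ := Nat.exists_eq_pow_mul_and_not_dvd (orderOf_pos e).ne' r hr.ne_one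
  obtain ⟨y, hy⟩ : ∃ y, y = e ^ m := ⟨_, rfl⟩
  have hyC : y ∈ centralizer ({x} : Set G) := by rw [hy]; exact pow_mem heC m
  have hyr : y ^ r ^ k = 1 := by
    rw [hy, ← pow_mul, mul_comm, ← e1, pow_orderOf_eq_one]
  have hyk : y ∉ kq V x := by
    intro h1
    rw [← Rep.rho_eq_one R hyC, hy, R.rho_pow heC, ← orderOf_dvd_iff_pow_eq_one, hre] at h1
    exact hm h1
  have hWn : centralizer ({x} : Set G) ≤ normalizer ((ws V x : Subgroup G) : Set G) :=
    Cfsg.Agent.MinSimple.Geo.centralizer_le_normalizer_ws V x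
  have hPN : P ≤ normalizer ((ws V x : Subgroup G) : Set G) := hPle.trans hWn
  -- indices
  have h1 : (dv P (ws V x) e).relIndex P ≤ (dv P (ws V x) v).relIndex P * (dv P (ws V x) v).relIndex P := by
    have h2 : dv P (ws V x) v ⊓ dv P (ws V x) (c * v * c⁻¹) ≤ dv P (ws V x) e := by
      rw [he]; exact inf_le_dv (hWn hv)
    calc (dv P (ws V x) e).relIndex P ≤ (dv P (ws V x) v ⊓ dv P (ws V x) (c * v * c⁻¹)).relIndex P :=
          relIndex_le_of_le_left h2 (by rw [Subgroup.relIndex]; exact index_ne_zero_of_finite)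
      _ ≤ (dv P (ws V x) v).relIndex P * (dv P (ws V x) (c * v * c⁻¹)).relIndex P := relIndex_inf_le
      _ = (dv P (ws V x) v).relIndex P * (dv P (ws V x) v).relIndex P := by
          rw [relIndex_cj_dv (hPC hc) (hWn hc)]
  have h2 : (dv P (ws V x) y).relIndex P ≤ (dv P (ws V x) e).relIndex P := by
    refine relIndex_le_of_le_left ?_ (by rw [Subgroup.relIndex]; exact index_ne_zero_of_finite)
    rw [hy]; exact le_dv_pow (hWn heC) m
  have h3 := relIndex_dv_modEq hr hr2 hP hPx hPN (hPC hyC) (hWn hyC) hyr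
  obtain ⟨d, hd⟩ : ∃ d, (dv P (ws V x) y).relIndex P = 2 ^ d := by
    have : Fact (Nat.Prime 2) := ⟨Nat.prime_two⟩
    obtain ⟨n, hn⟩ := (IsPGroup.iff_card (p := 2)).1 hP
    have h4 : (dv P (ws V x) y).relIndex P ∣ 2 ^ n := by
      rw [← hn, Subgroup.relIndex]; exact index_dvd_card _
    obtain ⟨d, -, hd⟩ := (Nat.dvd_prime_pow Nat.prime_two).1 h4
    exact ⟨d, hd⟩
  rcases Nat.eq_zero_or_pos d with hd0 | hd0
  · exfalso
    rw [hd0, pow_zero, relIndex_eq_one] at hd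
    refine a.cov h hP hPx hPy (N₀ := nz V x P hPC) (fun c hc => hc.1) (nz_normal hPC) (fun hle => hyk (hle ?_))
      (fun c hc w hw => hc.2 w hw)
    refine ⟨hyC, fun w hw => ?_⟩
    have h4 := (hd hw).2.2
    have e2 : y * w * y⁻¹ * w⁻¹ = (w * y * w⁻¹ * y⁻¹)⁻¹ := by group
    rw [e2]; exact inv_mem h4
  · have h4 : r ∣ 2 ^ d - 1 := by
      rw [hd] at h3
      exact (Nat.modEq_iff_dvd' Nat.one_le_two_pow).1 h3.symm
    have h5 := hrq d hd0 h4
    rw [← hd] at h5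
    have h6 : Fintype.card F * Fintype.card F ≤ (dv P (ws V x) v).relIndex P * (dv P (ws V x) v).relIndex P := by
      rw [← pow_two]
      exact h5.trans (h2.trans h1)
    exact Nat.mul_self_le_mul_self_iff.1 h6

end Cfsg.Agent.OddCyclic.EN.NatTwo
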