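import Cfsg.Agent.OddCyclic.EN.NatTwo.NatB
import Cfsg.Agent.OddCyclic.EN.RepM
import Cfsg.Agent.OddCyclic.EN.Perm

/-!
# (E1), type `(A_q)`, distance at least two: the hypotheses at a point

`At T V z x R J F`: the hypotheses at the point `x`, `R : Rep V x M X`, `J ⊴ X`, `J ≅ SL₂(F)`; `At.conj`.
-/

set_option autoImplicit false
set_option linter.unusedSectionVars false
set_option linter.style.haveILetI false

namespace Cfsg.Agent.OddCyclic.EN.NatTwo

open Subgroup Cfsg Cfsg.Agent.ZN Cfsg.Agent.MinSimple.Geo Cfsg.Agent.OddCyclic.GeoC Cfsg.Agent.OddCyclic.BTwoA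
  Cfsg.Agent.OddCyclic.EN.Line Cfsg.Agent.OddCyclic.EN.Base Cfsg.Agent.MinSimple.SecRep
  Cfsg.Agent.OddCyclic.EN.RepM Cfsg.Agent.OddCyclic.EN.Perm
open Cfsg.Agent.OddCyclic.T1Module Cfsg.Agent.OddCyclic.FFBasic
open Cfsg.Agent.ZN.Block (conj_mem_of_normalizer conj_mem_of_normalizer' le_normalizer_of_forall
  mem_normalizer_of)

universe u

variable {G : Type u} [Group G] {T V : Subgroup G} {z x : G}
  {M X : Type u} [AddCommGroup M] [Group X] [DistribMulAction X M] {F : Type} [Field F] [Fintype F] [CharP F 2]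

/-- the hypotheses at the point `x` -/
structure At (T V : Subgroup G) (z x : G) {M X : Type u} [AddCommGroup M] [Group X] [DistribMulAction X M]
    (R : Rep V x M X) (J : Subgroup X) (F : Type) [Field F] [Fintype F] [CharP F 2] : Prop where
  pt : Pt z x
  hy : Hy (hm X M) J F
  tr : ∀ y, Col V x y → ∀ g : X, ∃ l ∈ J, g • R.pi y = l • R.pi y
  three : ∀ y, Col V x y → ∀ g : X, orderOf g = 3 → g • R.pi y ≠ R.pi y
  red : ∀ w ∈ ws V x, (∀ c ∈ o2 (centralizer ({x} : Set G)), c * w = w * c) → ∀ l ∈ J, l • R.pi w = R.pi w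
  rl : ∀ w ∈ ws V x, Pt z w → (∀ l ∈ J, l • R.pi w = R.pi w) → w = x
  rig : ∀ w ∈ ws V x, w ≠ 1 → w ≠ x → (∀ l ∈ J, l • R.pi w = R.pi w) → ∀ g, x = g * z * g⁻¹ →
    (∀ t ∈ cj g T, t * w * t⁻¹ = w ∨ t * w * t⁻¹ = x * w) →
    centralizer ({w} : Set G) ≤ centralizer ({x} : Set G)
  k3 : ∀ g ∈ kq V x, orderOf g ≠ 3

/-- the representation at a conjugate point -/
def cR (R : Rep V x M X) (g : G) : Rep V (g * x * g⁻¹) M X where
  pi w := R.pi (g⁻¹ * w * g)
  rho c := R.rho (g⁻¹ * c * g)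
  W_le := by
    rw [← cj_ws, ← cj_centralizer_singleton]
    exact cj_mono R.W_le
  W_norm := Cfsg.Agent.MinSimple.Geo.centralizer_le_normalizer_ws V _
  pi_mul := by
    intro a ha b hb
    rw [← cj_ws, mem_cj] at ha hb
    rw [← R.pi_mul _ ha _ hb]
    congr 1; group
  pi_eq_zero := by
    intro a ha
    rw [← cj_ws, mem_cj] at ha
    rw [R.pi_eq_zero _ ha]
    constructor
    · rintro ⟨n, hn⟩
      refine ⟨n, ?_⟩
      change (g * x * g⁻¹) ^ n = a
      change x ^ n = g⁻¹ * a * g at hn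
      rw [conj_zpow, hn]; group
    · rintro ⟨n, hn⟩
      refine ⟨n, ?_⟩
      change x ^ n = g⁻¹ * a * g
      change (g * x * g⁻¹) ^ n = a at hn
      rw [← hn, conj_zpow]; group
  pi_surj := by
    intro m
    obtain ⟨w, hw, rfl⟩ := R.pi_surj m
    refine ⟨g * w * g⁻¹, ?_, ?_⟩
    · rw [← cj_ws]; exact conj_mem_cj hw
    · congr 1; group
  rho_mul := by
    intro a ha b hb
    rw [← cj_centralizer_singleton, mem_cj] at ha hb
    rw [← R.rho_mul _ ha _ hb]
    congr 1; group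
  rho_surj := by
    intro y
    obtain ⟨a, ha, rfl⟩ := R.rho_surj y
    refine ⟨g * a * g⁻¹, ?_, ?_⟩
    · rw [← cj_centralizer_singleton]; exact conj_mem_cj ha
    · congr 1; group
  smul_pi := by
    intro c hc w hw
    rw [← cj_centralizer_singleton, mem_cj] at hc
    rw [← cj_ws, mem_cj] at hw
    rw [R.smul_pi _ hc _ hw]
    congr 1; group
  faithful := R.faithful

theorem cR_pi (R : Rep V x M X) (g w : G) : (cR R g).pi w = R.pi (g⁻¹ * w * g) := rfl

theorem cR_rho (R : Rep V x M X) (g w : G) : (cR R g).rho w = R.rho (g⁻¹ * w * g) := rfl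

theorem col_inv {y g : G} (h : Col V (g * x * g⁻¹) y) : Col V x (g⁻¹ * y * g) := by
  have h1 := h.conj g⁻¹
  have e1 : g⁻¹ * (g * x * g⁻¹) * g⁻¹⁻¹ = x := by group
  have e2 : g⁻¹ * y * g⁻¹⁻¹ = g⁻¹ * y * g := by group
  rwa [e1, e2] at h1

theorem pt_inv {y g : G} (h : Pt z y) : Pt z (g⁻¹ * y * g) := by
  have h1 := h.conj g⁻¹
  have e2 : g⁻¹ * y * g⁻¹⁻¹ = g⁻¹ * y * g := by group
  rwa [e2] at h1

theorem conj_eq_iff {a b g : G} : a = g * b * g⁻¹ ↔ g⁻¹ * a * g = b := by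
  constructor
  · rintro rfl; group
  · rintro rfl; group

/-- conjugation -/
theorem At.conj {R : Rep V x M X} {J : Subgroup X} (h : At T V z x R J F) (g : G) :
    At T V z (g * x * g⁻¹) (cR R g) J F where
  pt := h.pt.conj g
  hy := h.hy
  tr := fun y hy => h.tr _ (col_inv hy)
  three := fun y hy => h.three _ (col_inv hy)
  red := by
    intro w hw hc
    rw [← cj_ws, mem_cj] at hw
    refine h.red _ hw fun c hc' => ?_
    have h1 := hc (g * c * g⁻¹) (by
      rw [← cj_centralizer_singleton, ← cj_o2]; exact conj_mem_cj hc')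
    calc c * (g⁻¹ * w * g) = g⁻¹ * (g * c * g⁻¹ * w) * g := by group
      _ = g⁻¹ * (w * (g * c * g⁻¹)) * g := by rw [h1]
      _ = g⁻¹ * w * g * c := by group
  rl := by
    intro w hw hp hl
    rw [← cj_ws, mem_cj] at hw
    exact conj_eq_iff.2 (h.rl _ hw (pt_inv hp) hl)
  rig := by
    intro w hw h1 hx hl k hk ht
    rw [← cj_ws, mem_cj] at hw
    have h2 := h.rig _ hw (fun e => h1 (by rw [← conj_eq_iff] at e; rw [e]; group))
      (fun e => hx (conj_eq_iff.2 e)) hl (g⁻¹ * k) (by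
        rw [conj_eq_iff] at hk
        rw [conj_eq_iff, ← hk]; group) (by
        intro t ht'
        rw [mem_cj] at ht'
        have h3 := ht (g * t * g⁻¹) (by
          rw [mem_cj]
          have e : k⁻¹ * (g * t * g⁻¹) * k = (g⁻¹ * k)⁻¹ * t * (g⁻¹ * k) := by group
          rw [e]; exact ht')
        rcases h3 with h3 | h3
        · left
          calc t * (g⁻¹ * w * g) * t⁻¹ = g⁻¹ * (g * t * g⁻¹ * w * (g * t * g⁻¹)⁻¹) * g := by group
            _ = g⁻¹ * w * g := by rw [h3]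
        · right
          calc t * (g⁻¹ * w * g) * t⁻¹ = g⁻¹ * (g * t * g⁻¹ * w * (g * t * g⁻¹)⁻¹) * g := by group
            _ = g⁻¹ * (g * x * g⁻¹ * w) * g := by rw [h3]
            _ = x * (g⁻¹ * w * g) := by group)
    intro c hc
    rw [mem_centralizer_singleton_iff] at hc ⊢
    have h3 : g⁻¹ * c * g ∈ centralizer ({x} : Set G) := h2 (by
      rw [mem_centralizer_singleton_iff]
      calc g⁻¹ * c * g * (g⁻¹ * w * g) = g⁻¹ * (c * w) * g := by group
        _ = g⁻¹ * (w * c) * g := by rw [hc]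
        _ = g⁻¹ * w * g * (g⁻¹ * c * g) := by group)
    rw [mem_centralizer_singleton_iff] at h3
    calc c * (g * x * g⁻¹) = g * (g⁻¹ * c * g * x) * g⁻¹ := by group
      _ = g * (x * (g⁻¹ * c * g)) * g⁻¹ := by rw [h3]
      _ = g * x * g⁻¹ * c := by group
  k3 := by
    intro c hc ho
    rw [← Base.cj_kq, mem_cj] at hc
    apply h.k3 _ hc
    have h1 := orderOf_injective (MulAut.conj g⁻¹).toMonoidHom (MulAut.conj g⁻¹).injective c
    have e1 : (MulAut.conj g⁻¹).toMonoidHom c = g⁻¹ * c * g := by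
      change g⁻¹ * c * g⁻¹⁻¹ = _
      rw [inv_inv]
    rw [e1, ho] at h1
    exact h1

/-- all points are alike -/
theorem At.exists {R : Rep V x M X} {J : Subgroup X} (h : At T V z x R J F) {y : G} (hy : Pt z y) :
    ∃ R' : Rep V y M X, At T V z y R' J F := by
  obtain ⟨g, rfl⟩ := h.pt.symm.trans hy
  exact ⟨_, h.conj g⟩

end Cfsg.Agent.OddCyclic.EN.NatTwo
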