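import Cfsg.Agent.OddCyclic.EN.NatTwo.Abs
import Cfsg.Agent.MinSimple.Geo

/-!
# (E1), type `(A_q)`: Sylow 2-subgroups of `L ≅ SL₂(F)`

`IsU L U F`: `U` is a Sylow 2-subgroup of `L`; frames `Fm e U`, `Fo e U`.
-/

set_option autoImplicit false
set_option linter.unusedSectionVars false
set_option linter.style.haveILetI false

namespace Cfsg.Agent.OddCyclic.EN.NatTwo

open Matrix Subgroup Cfsg.Agent.MinSimple.Geo Cfsg.Agent.OddCyclic.T1Module Cfsg.Agent.OddCyclic.T1Sl2
  Cfsg.Agent.OddCyclic.FFBasic Cfsg.Agent.OddCyclic.FFRed Cfsg.Agent.OddCyclic.FFSl2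
  Cfsg.Agent.OddCyclic.T1Defs Cfsg.Agent.OddCyclic.RedFFDefs
open Cfsg.Agent.OddCyclic.FFOuter (ac e_ac ac_coe ac_eq_iff)
open Cfsg.Agent.Classification.QDW.TypeHom
open Cfsg.Agent.Lib.SL2Mat (fieldAut)

universe u

variable {X : Type u} [Group X] [Finite X] {L U U' : Subgroup X} {F : Type} [Field F] [Fintype F] [CharP F 2]

/-- `U` is a Sylow 2-subgroup of `L ≅ SL₂(F)` -/
structure IsU (L U : Subgroup X) (F : Type) [Field F] [Fintype F] [CharP F 2] : Prop where
  le : U ≤ L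
  two : IsPGroup 2 U
  card : Nat.card U = Fintype.card F

/-- `U = e(up F)` -/
def Fm (e : SpecialLinearGroup (Fin 2) F ≃* L) (U : Subgroup X) : Prop :=
  ∀ x, x ∈ U ↔ ∃ t : F, ((e (up t) : L) : X) = x

/-- `U = e(lo F)` -/
def Fo (e : SpecialLinearGroup (Fin 2) F ≃* L) (U : Subgroup X) : Prop :=
  ∀ x, x ∈ U ↔ ∃ t : F, ((e (lo t) : L) : X) = x

theorem mem_iff_exists (e : SpecialLinearGroup (Fin 2) F ≃* L) {x : X} : x ∈ L ↔ ∃ s, ((e s : L) : X) = x := by
  constructor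
  · intro hx
    exact ⟨e.symm ⟨x, hx⟩, by rw [e.apply_symm_apply]⟩
  · rintro ⟨s, rfl⟩
    exact (e s).2

theorem e_inj (e : SpecialLinearGroup (Fin 2) F ≃* L) {s t : SpecialLinearGroup (Fin 2) F}
    (h : ((e s : L) : X) = e t) : s = t := e.injective (Subtype.ext h)

theorem exists_syl (e : SpecialLinearGroup (Fin 2) F ≃* L) (h : IsU L U F) :
    ∃ P : Sylow 2 (SpecialLinearGroup (Fin 2) F), ∀ s, s ∈ P ↔ ((e s : L) : X) ∈ U := by
  have : Fact (Nat.Prime 2) := ⟨Nat.prime_two⟩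
  let f : SpecialLinearGroup (Fin 2) F →* X := L.subtype.comp e.toMonoidHom
  have hf : Function.Injective f := L.subtype_injective.comp e.injective
  have h1 : IsPGroup 2 (U.comap f) := h.two.comap_of_injective f hf
  obtain ⟨P, hP⟩ := h1.exists_le_sylow
  have hc : Nat.card (U.comap f) = Nat.card U := by
    have h2 : (U.comap f).map f = U := by
      apply map_comap_eq_self
      intro x hx
      obtain ⟨s, hs⟩ := (mem_iff_exists e).1 (h.le hx)
      exact ⟨s, hs⟩
    rw [← h2, card_map_of_injective hf, h2]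
  have h3 : U.comap f = (P : Subgroup (SpecialLinearGroup (Fin 2) F)) := by
    apply Subgroup.eq_of_le_of_card_ge hP
    rw [hc, h.card]
    exact (T1Sl2.card_sylow P).le
  refine ⟨P, fun s => ?_⟩
  change s ∈ (P : Subgroup (SpecialLinearGroup (Fin 2) F)) ↔ _
  rw [← h3]; rfl

theorem Fm.isU {e : SpecialLinearGroup (Fin 2) F ≃* L} (h : Fm e U) : IsU L U F := by
  have hm : U = (UI F).map (L.subtype.comp e.toMonoidHom) := by
    ext x
    rw [h x]
    constructor
    · rintro ⟨t, rfl⟩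
      exact ⟨up t, up_mem t, rfl⟩
    · rintro ⟨s, hs, rfl⟩
      rw [eq_up hs]
      exact ⟨_, rfl⟩
  refine ⟨?_, ?_, ?_⟩
  · intro x hx
    obtain ⟨t, rfl⟩ := (h x).1 hx
    exact (e (up t)).2
  · rw [hm]
    exact (isPGroup_UI F).map _
  · have hf : Function.Injective (L.subtype.comp e.toMonoidHom) := L.subtype_injective.comp e.injective
    rw [hm, card_map_of_injective hf, card_UI]

/-- conjugating the isomorphism -/
noncomputable def ecj (e : SpecialLinearGroup (Fin 2) F ≃* L) (g : SpecialLinearGroup (Fin 2) F) :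
    SpecialLinearGroup (Fin 2) F ≃* L := (MulAut.conj g).trans e

theorem ecj_apply (e : SpecialLinearGroup (Fin 2) F ≃* L) (g s : SpecialLinearGroup (Fin 2) F) :
    ecj e g s = e (g * s * g⁻¹) := rfl

theorem exists_two (e₀ : SpecialLinearGroup (Fin 2) F ≃* L) (h : IsU L U F) (h' : IsU L U' F) (hne : U ≠ U') :
    ∃ e : SpecialLinearGroup (Fin 2) F ≃* L, Fm e U ∧ Fo e U' := by
  obtain ⟨P, hP⟩ := exists_syl e₀ h
  obtain ⟨P', hP'⟩ := exists_syl e₀ h'
  have hPP : P ≠ P' := by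
    rintro rfl
    apply hne
    ext x
    constructor
    · intro hx
      obtain ⟨s, rfl⟩ := (mem_iff_exists e₀).1 (h.le hx)
      exact (hP' s).1 ((hP s).2 hx)
    · intro hx
      obtain ⟨s, rfl⟩ := (mem_iff_exists e₀).1 (h'.le hx)
      exact (hP s).1 ((hP' s).2 hx)
  obtain ⟨g, hg, hg'⟩ := two_trans hPP
  refine ⟨ecj e₀ g⁻¹, ?_, ?_⟩
  · intro x
    constructor
    · intro hx
      obtain ⟨s, rfl⟩ := (mem_iff_exists e₀).1 (h.le hx)
      have h1 : g * s * g⁻¹ ∈ T1Sl2.SU F := by rw [← hg]; exact conj_mem_smul ((hP s).2 hx)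
      obtain ⟨t, ht⟩ := mem_SU_iff.1 h1
      refine ⟨t, ?_⟩
      rw [ecj_apply, ← ht]
      congr 2; group
    · rintro ⟨t, rfl⟩
      rw [ecj_apply, ← hP, inv_inv, ← mem_smul, hg]
      exact up_mem t
  · intro x
    constructor
    · intro hx
      obtain ⟨s, rfl⟩ := (mem_iff_exists e₀).1 (h'.le hx)
      have h1 : g * s * g⁻¹ ∈ ww F • T1Sl2.SU F := by rw [← hg']; exact conj_mem_smul ((hP' s).2 hx)
      obtain ⟨t, ht⟩ := mem_ww_iff.1 h1
      refine ⟨t, ?_⟩
      rw [ecj_apply, ← ht]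
      congr 2; group
    · rintro ⟨t, rfl⟩
      rw [ecj_apply, ← hP', inv_inv, ← mem_smul, hg']
      exact mem_ww_iff.2 ⟨t, rfl⟩

theorem exists_one (e₀ : SpecialLinearGroup (Fin 2) F ≃* L) (h : IsU L U F) :
    ∃ e : SpecialLinearGroup (Fin 2) F ≃* L, Fm e U := by
  obtain ⟨P, hP⟩ := exists_syl e₀ h
  obtain ⟨g, hg⟩ := MulAction.exists_smul_eq (SpecialLinearGroup (Fin 2) F) P (T1Sl2.SU F)
  refine ⟨ecj e₀ g⁻¹, ?_⟩
  intro x
  constructor
  · intro hx
    obtain ⟨s, rfl⟩ := (mem_iff_exists e₀).1 (h.le hx)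
    have h1 : g * s * g⁻¹ ∈ T1Sl2.SU F := by rw [← hg]; exact conj_mem_smul ((hP s).2 hx)
    obtain ⟨t, ht⟩ := mem_SU_iff.1 h1
    refine ⟨t, ?_⟩
    rw [ecj_apply, ← ht]
    congr 2; group
  · rintro ⟨t, rfl⟩
    rw [ecj_apply, ← hP, inv_inv, ← mem_smul, hg]
    exact up_mem t

theorem ww_mul_self : (ww F) * (ww F) = 1 := by
  apply ext2
  · rw [mul00]; simp
  · rw [mul01]; simp
  · rw [mul10]; simp
  · rw [mul11]; simp

theorem ww_inv : (ww F)⁻¹ = ww F := inv_eq_of_mul_eq_one_left ww_mul_self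

theorem ww_up (t : F) : ww F * up t * (ww F)⁻¹ = lo t := by
  rw [ww_inv]
  apply ext2
  · rw [mul00, mul00, mul01]; simp
  · rw [mul01, mul00, mul01]; simp
  · rw [mul10, mul10, mul11]; simp
  · rw [mul11, mul10, mul11]; simp

/-- the opposite Sylow -/
theorem Fm.fo {e : SpecialLinearGroup (Fin 2) F ≃* L} (h : Fm e U) : Fo e (cj ((e (ww F) : L) : X) U) := by
  intro x
  rw [mem_cj, h]
  constructor
  · rintro ⟨t, ht⟩
    refine ⟨t, ?_⟩
    rw [← ww_up, map_mul, map_mul, map_inv, coe_mul, coe_mul, ht, coe_inv]; group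
  · rintro ⟨t, rfl⟩
    refine ⟨t, ?_⟩
    rw [← ww_up, map_mul, map_mul, map_inv, coe_mul, coe_mul, coe_inv]; group

theorem IsU.cj (hL : L.Normal) (h : IsU L U F) (g : X) : IsU L (cj g U) F where
  le := by
    intro x hx
    rw [mem_cj] at hx
    have h1 := hL.conj_mem _ (h.le hx) g
    have e : g * (g⁻¹ * x * g) * g⁻¹ = x := by group
    rwa [e] at h1
  two := h.two.map _
  card := by rw [card_cj, h.card]

theorem IsU.sq (e : SpecialLinearGroup (Fin 2) F ≃* L) (h : IsU L U F) {a : X} (ha : a ∈ U) : a * a = 1 := by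
  obtain ⟨e', he'⟩ := exists_one e h
  obtain ⟨t, rfl⟩ := (he' a).1 ha
  rw [← coe_mul, ← map_mul, up_mul, CharTwo.add_self_eq_zero, up_zero, map_one, coe_one]

theorem IsU.comm (e : SpecialLinearGroup (Fin 2) F ≃* L) (h : IsU L U F) {a b : X} (ha : a ∈ U) (hb : b ∈ U) :
    a * b = b * a := by
  obtain ⟨e', he'⟩ := exists_one e h
  obtain ⟨t, rfl⟩ := (he' a).1 ha
  obtain ⟨s, rfl⟩ := (he' b).1 hb
  rw [← coe_mul, ← map_mul, ← coe_mul, ← map_mul, up_mul, up_mul, add_comm]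

/-- two Sylow 2-subgroups generate -/
theorem IsU.gen (e₀ : SpecialLinearGroup (Fin 2) F ≃* L) (h : IsU L U F) (h' : IsU L U' F) (hne : U ≠ U')
    {K : Subgroup X} (hK : U ≤ K) (hK' : U' ≤ K) : L ≤ K := by
  obtain ⟨e, he, he'⟩ := exists_two e₀ h h' hne
  have h1 := closure_top (K.comap (L.subtype.comp e.toMonoidHom)) (fun t => hK ((he _).2 ⟨t, rfl⟩))
    (fun t => hK' ((he' _).2 ⟨t, rfl⟩))
  intro x hx
  obtain ⟨s, rfl⟩ := (mem_iff_exists e).1 hx
  have : s ∈ K.comap (L.subtype.comp e.toMonoidHom) := by rw [h1]; exact mem_top _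
  exact this

theorem IsU.inf (e₀ : SpecialLinearGroup (Fin 2) F ≃* L) (h : IsU L U F) (h' : IsU L U' F) (hne : U ≠ U') {a : X}
    (ha : a ∈ U) (ha' : a ∈ U') : a = 1 := by
  obtain ⟨e, he, he'⟩ := exists_two e₀ h h' hne
  obtain ⟨t, ht⟩ := (he a).1 ha
  obtain ⟨s, hs⟩ := (he' a).1 ha'
  have h1 : up t = lo s := e_inj e (ht.trans hs.symm)
  have h2 := congrArg (fun x : SpecialLinearGroup (Fin 2) F => x 0 1) h1
  simp only [up01, lo01] at h2
  rw [← ht, h2, up_zero, map_one, coe_one]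

/-- there is another Sylow 2-subgroup -/
theorem IsU.exists_ne (e₀ : SpecialLinearGroup (Fin 2) F ≃* L) (h : IsU L U F) :
    ∃ g ∈ L, MinSimple.Geo.cj g U ≠ U := by
  obtain ⟨e, he⟩ := exists_one e₀ h
  refine ⟨(e (ww F) : L), (e (ww F)).2, fun heq => ?_⟩
  have h1 := he.fo
  rw [heq] at h1
  obtain ⟨t, ht⟩ := (he _).1 ((h1 _).2 ⟨1, rfl⟩)
  have h2 := congrArg (fun x : SpecialLinearGroup (Fin 2) F => x 1 0) (e_inj e ht)
  simp at h2

theorem IsU.eq_cj (e₀ : SpecialLinearGroup (Fin 2) F ≃* L) (h : IsU L U F) (h' : IsU L U' F) :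
    ∃ g ∈ L, MinSimple.Geo.cj g U = U' := by
  by_cases hne : U = U'
  · exact ⟨1, one_mem _, by rw [cj_one, hne]⟩
  · obtain ⟨e, he, he'⟩ := exists_two e₀ h h' hne
    refine ⟨(e (ww F) : L), (e (ww F)).2, ?_⟩
    ext x
    rw [he.fo x, he' x]

/-- a 2-subgroup of `L` lies in a Sylow 2-subgroup -/
theorem exists_isU (e : SpecialLinearGroup (Fin 2) F ≃* L) {A : Subgroup X} (hA : A ≤ L) (h2 : IsPGroup 2 A) :
    ∃ U, IsU L U F ∧ A ≤ U := by
  have : Fact (Nat.Prime 2) := ⟨Nat.prime_two⟩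
  let f : SpecialLinearGroup (Fin 2) F →* X := L.subtype.comp e.toMonoidHom
  have hf : Function.Injective f := L.subtype_injective.comp e.injective
  have h1 : IsPGroup 2 (A.comap f) := h2.comap_of_injective f hf
  obtain ⟨P, hP⟩ := h1.exists_le_sylow
  refine ⟨(P : Subgroup (SpecialLinearGroup (Fin 2) F)).map f, ⟨?_, P.isPGroup'.map _, ?_⟩, ?_⟩
  · rintro _ ⟨s, -, rfl⟩
    exact (e s).2
  · rw [card_map_of_injective hf]
    exact T1Sl2.card_sylow P
  · intro a ha
    obtain ⟨s, rfl⟩ := (mem_iff_exists e).1 (hA ha)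
    exact ⟨s, hP ha, rfl⟩

theorem card_le (e : SpecialLinearGroup (Fin 2) F ≃* L) {A : Subgroup X} (hA : A ≤ L) (h2 : IsPGroup 2 A) :
    Nat.card A ≤ Fintype.card F := by
  obtain ⟨U, hU, hAU⟩ := exists_isU e hA h2
  rw [← hU.card]
  exact Nat.card_le_card_of_injective _ (inclusion_injective hAU)

/-- an involution `a ∈ U` and a conjugate of an element of `U` with product of order five -/
theorem IsU.five (e₀ : SpecialLinearGroup (Fin 2) F ≃* L) (h : IsU L U F) (hom : ∃ w : F, w * w + w + 1 = 0) :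
    ∃ a ∈ U, ∃ g ∈ L, ∃ b ∈ U, orderOf (a * (g * b * g⁻¹)) = 5 := by
  obtain ⟨e, he⟩ := exists_one e₀ h
  obtain ⟨w, hw⟩ := hom
  refine ⟨_, (he _).2 ⟨1, rfl⟩, (e (ww F) : L), (e (ww F)).2, _, (he _).2 ⟨w, rfl⟩, ?_⟩
  have h1 : ((e (up 1) : L) : X) * (((e (ww F) : L) : X) * (e (up w) : L) * ((e (ww F) : L) : X)⁻¹) =
      ((e (up 1 * lo w) : L) : X) := by
    rw [← ww_up, map_mul, map_mul, map_mul, map_inv, coe_mul, coe_mul, coe_mul, coe_inv]
  rw [h1, Subgroup.orderOf_coe, MulEquiv.orderOf_eq]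
  have : Fact (Nat.Prime 5) := ⟨by norm_num⟩
  have h2 : (2 : F) = 0 := CharTwo.two_eq_zero
  apply orderOf_eq_prime
  · have e1 : (up 1 * lo w) ^ 5 = (up 1 * lo w) * (up 1 * lo w) * ((up 1 * lo w) * (up 1 * lo w)) * (up 1 * lo w) := by
      simp only [pow_succ, pow_zero, one_mul]; group
    have hx2 : (up 1 * lo w : SpecialLinearGroup (Fin 2) F) * (up 1 * lo w) = T1Sl2.mk 0 w (w + 1) (w + 1) (by
        linear_combination (-1 : F) * hw) := by
      apply ext2
      · rw [mul00, mul00, mul01, mul10]; simp; linear_combination hw + w * h2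
      · rw [mul01, mul00, mul01, mul11]; simp; linear_combination h2
      · rw [mul10, mul10, mul11, mul00]; simp; linear_combination hw - h2
      · rw [mul11, mul10, mul01, mul11]; simp
    have hx4 : (T1Sl2.mk 0 w (w + 1) (w + 1) (by linear_combination (-1 : F) * hw) : SpecialLinearGroup (Fin 2) F) *
        T1Sl2.mk 0 w (w + 1) (w + 1) (by linear_combination (-1 : F) * hw) = T1Sl2.mk 1 1 w (1 + w) (by ring) := by
      apply ext2
      · rw [mul00]; simp; linear_combination hw - h2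
      · rw [mul01]; simp; linear_combination hw - h2
      · rw [mul10]; simp; linear_combination hw
      · rw [mul11]; simp; linear_combination (w * w + w) * h2
    rw [e1, hx2, hx4]
    apply ext2
    · rw [mul00, mul00, mul10]; simp; linear_combination w * h2
    · rw [mul01, mul01, mul11]; simp; linear_combination h2
    · rw [mul10, mul00, mul10]; simp; linear_combination w * (1 + w) * h2
    · rw [mul11, mul01, mul11]; simp; linear_combination w * h2
  · intro h3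
    have h4 := congrArg (fun x : SpecialLinearGroup (Fin 2) F => x 0 1) h3
    simp only [mul01] at h4
    simp at h4

end Cfsg.Agent.OddCyclic.EN.NatTwo
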