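import Cfsg.Agent.OddCyclic.EN.NatTwo.Aut
import Cfsg.Agent.OddCyclic.FFOuterPerm

/-!
# (E1), type `(A_q)`: no transvections, the offender theorem

`Lam ρ L F lam`; `Lam.nt`: `4 ≤ |V~ : C_{V~}(t)|` for all involutions `t` of `X`, `V~ = V / C_V(L)`;
`Lam.off`: a quadratic... an elementary abelian `A ≠ 1` with `|V : C_V(A)| ≤ |A|` is a Sylow 2-subgroup of `L`.
-/

set_option autoImplicit false
set_option linter.unusedSectionVars false
set_option linter.style.haveILetI false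

namespace Cfsg.Agent.OddCyclic.EN.NatTwo

open Matrix Subgroup Cfsg.Agent.MinSimple.Geo Cfsg.Agent.OddCyclic.T1Module Cfsg.Agent.OddCyclic.T1Sl2
  Cfsg.Agent.OddCyclic.FFBasic Cfsg.Agent.OddCyclic.FFRed Cfsg.Agent.OddCyclic.FFSl2
  Cfsg.Agent.OddCyclic.T1Defs Cfsg.Agent.OddCyclic.RedFFDefs
open Equiv (swap)

universe u

variable {X : Type u} [Group X] [Finite X] {V : Type u} [CommGroup V] [Finite V] {ρ : X →* MulAut V}
  {L U U' : Subgroup X} {F : Type} [Field F] [Fintype F] [CharP F 2] {lam : V}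

/-- `lam` is the vector of a line: fixed by a Sylow 2-subgroup, `V` is generated by its conjugates -/
structure Lam (ρ : X →* MulAut V) (L : Subgroup X) (F : Type) [Field F] [Fintype F] [CharP F 2] (lam : V) : Prop
    extends Hy ρ L F where
  fixT : ∃ T : Sylow 2 X, ∀ t ∈ T, ρ t lam = lam
  gen : ∀ W : Subgroup V, (∀ g, ρ g lam ∈ W) → W = ⊤
  tr : ∀ g : X, ∃ l ∈ L, ρ g lam = ρ l lam
  three : ∀ g : X, orderOf g = 3 → ρ g lam ≠ lam

namespace Hy

theorem sq_qq (h : Hy ρ L F) (v : V ⧸ CS ρ L) : v * v = 1 := EmpC.quo_sq h.sq v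

/-- the quotient module -/
theorem quoHy (h : Hy ρ L F) : Hy h.qq L F where
  sq := h.sq_qq
  inj := h.inj_qq
  cyc := h.cyc
  ffc := h.ffc
  nrm := h.nrm
  four := h.four
  om := h.om
  iso := h.iso
  cent := h.cent

theorem index_qq_le (h : Hy ρ L F) (x : X) : (fx h.qq x).index ≤ (fx ρ x).index := by
  have h1 := EmpC.index_mul_le h.inv_CS x
  have h2 : 0 < (fx (EmpC.sub ρ (CS ρ L) h.inv_CS) x).index := Nat.pos_of_ne_zero index_ne_zero_of_finite
  calc (fx h.qq x).index = 1 * (fx h.qq x).index := (one_mul _).symm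
    _ ≤ (fx (EmpC.sub ρ (CS ρ L) h.inv_CS) x).index * (fx h.qq x).index := Nat.mul_le_mul_right _ h2
    _ ≤ (fx ρ x).index := h1

/-- **(M8)** `|V : C_V(a)| ≥ q` for involutions `a` of `L` -/
theorem index_ge (h : Hy ρ L F) {a : X} (ha : a ∈ L) (haa : a * a = 1) (ha1 : a ≠ 1) :
    Fintype.card F ≤ (fx ρ a).index := by
  obtain ⟨e⟩ := h.iso
  have hne : ∃ g v, FFOuter.rr ρ e g v ≠ v := by
    have hs := h.simple_sl
    obtain ⟨g, hg⟩ := exists_ne (1 : SpecialLinearGroup (Fin 2) F)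
    refine ⟨g, ?_⟩
    by_contra hcon
    push Not at hcon
    apply hg
    have h1 : ρ ((e g : L) : X) = 1 := by
      ext v; exact hcon v
    have h2 : ((e g : L) : X) = 1 := h.inj (by rw [h1, map_one])
    exact e.injective (Subtype.ext (by rw [h2, map_one]; rfl))
  obtain ⟨s, rfl⟩ := (mem_iff_exists e).1 ha
  have h1 := sl2_index h.four h.sq (FFOuter.rr ρ e) hne (a := s)
    (e.injective (Subtype.ext (by rw [map_mul, coe_mul, haa, map_one]; rfl)))
    (fun hs => ha1 (by rw [hs, map_one]; rfl))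
  exact h1

/-- elements of order three acting trivially modulo `C_V(L)` -/
theorem lift_three (h : Hy ρ L F) {y : X} (hy : y ∈ L) (h3 : orderOf y = 3) {v : V}
    (hv : ρ y v * v⁻¹ ∈ CS ρ L) : ρ y v = v := by
  obtain ⟨c, hc⟩ : ∃ c, c = ρ y v * v⁻¹ := ⟨_, rfl⟩
  rw [← hc] at hv
  have h1 : ρ y v = c * v := by rw [hc]; group
  have h2 : ρ y c = c := hv y hy
  have h4 : ρ y (ρ y v) = v := by
    rw [h1, map_mul, h2, h1, ← mul_assoc, h.sq, one_mul]
  have h5 : ρ (y ^ 3) v = ρ y v := by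
    rw [pow_succ', map_mul, MulAut.mul_apply, pow_two, map_mul, MulAut.mul_apply, h4]
  rw [← h5, ← h3, pow_orderOf_eq_one, map_one]; rfl

theorem not_le_comm (h : Hy ρ L F) {D : Subgroup X} (hD : ∀ a ∈ D, ∀ b ∈ D, a * b = b * a) : ¬ L ≤ D := by
  intro hle
  obtain ⟨a, ha, b, hb, hab⟩ := h.noncomm
  exact hab (hD a (hle ha) b (hle hb))

theorem ne_168 (h : Hy ρ L F) : Nat.card L ≠ 168 := by
  rw [h.card_L]
  exact COneXL.card_ne F h.four

theorem card_F_eq (h : Hy ρ L F) {F' : Type} [Field F'] [Fintype F'] [CharP F' 2]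
    (e : L ≃* SpecialLinearGroup (Fin 2) F') : Fintype.card F' = Fintype.card F := by
  have h1 : Nat.card (SpecialLinearGroup (Fin 2) F') = Nat.card (SpecialLinearGroup (Fin 2) F) := by
    rw [← h.card_L]
    exact (Nat.card_congr e.toEquiv).symm
  rw [T1Sl2.card_sl2, T1Sl2.card_sl2] at h1
  have h2 : 2 ≤ Fintype.card F' := Fintype.one_lt_card
  have h3 : 2 ≤ Fintype.card F := Fintype.one_lt_card
  have key : ∀ a b : ℕ, 2 ≤ a → a < b → (a + 1) * a * (a - 1) < (b + 1) * b * (b - 1) := by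
    intro a b ha hab
    obtain ⟨c, rfl⟩ : ∃ c, a = c + 1 := ⟨a - 1, by omega⟩
    obtain ⟨d, rfl⟩ : ∃ d, b = d + 1 := ⟨b - 1, by omega⟩
    rw [Nat.add_sub_cancel, Nat.add_sub_cancel]
    apply Nat.mul_lt_mul_of_le_of_lt
    · exact Nat.mul_le_mul (by omega) (by omega)
    · omega
    · positivity
  rcases lt_trichotomy (Fintype.card F') (Fintype.card F) with h4 | h4 | h4
  · have := key _ _ h2 h4
    omega
  · exact h4
  · have := key _ _ h3 h4
    omega

end Hy

/-- a best offender inside an offender -/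
theorem exists_bo (ρ : X →* MulAut V) {A : Subgroup X} (hsq : ∀ a ∈ A, a * a = 1) (hne : A ≠ ⊥)
    (hi : (CS ρ A).index ≤ Nat.card A) : ∃ B ≤ A, B ≠ ⊥ ∧ BO ρ B := by
  classical
  obtain ⟨B, hB, hmax⟩ := (Set.toFinite {B : Subgroup X | B ≤ A}).exists_maximalFor
    (fun B : Subgroup X => Nat.card B * Nat.card (CS ρ B)) _ ⟨A, le_refl A⟩
  have hmax' : ∀ C ≤ A, Nat.card C * Nat.card (CS ρ C) ≤ Nat.card B * Nat.card (CS ρ B) := by
    intro C hC
    by_contra hcon
    push Not at hcon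
    have h1 : Nat.card C * Nat.card (CS ρ C) ≤ Nat.card B * Nat.card (CS ρ B) := hmax hC hcon.le
    omega
  by_cases hB1 : B = ⊥
  · refine ⟨A, le_refl A, hne, hsq, fun C hC => (hmax' C hC).trans ?_⟩
    rw [hB1, CS_bot, Subgroup.card_bot, one_mul, Subgroup.card_top, ← (CS ρ A).card_mul_index, mul_comm]
    exact Nat.mul_le_mul_right _ hi
  · exact ⟨B, hB, hB1, fun a ha => hsq a (hB ha), fun C hC => hmax' C (hC.trans hB)⟩

set_option maxRecDepth 100000 in
/-- a Sylow 2-subgroup of `S₅` -/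
def D8 : Subgroup (Equiv.Perm (Fin 5)) where
  carrier := {g | g 4 = 4 ∧ ((g 0 = 0 ∨ g 0 = 1) ↔ (g 1 = 0 ∨ g 1 = 1))}
  one_mem' := by decide
  mul_mem' := by
    intro a b ha hb
    revert a b
    decide +kernel
  inv_mem' := by
    intro a ha
    revert a
    decide +kernel

set_option maxRecDepth 100000 in
theorem D8_pow : ∀ g : Equiv.Perm (Fin 5), (g 4 = 4 ∧ ((g 0 = 0 ∨ g 0 = 1) ↔ (g 1 = 0 ∨ g 1 = 1))) → g ^ 4 = 1 := by
  decide +kernel

theorem D8_two : IsPGroup 2 D8 := fun g => ⟨2, Subtype.ext (D8_pow g g.2)⟩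

end Cfsg.Agent.OddCyclic.EN.NatTwo
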