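import Cfsg.Agent.OddCyclic.EN.NatTwo.Off

/-!
# (E1), type `(A_q)`: the natural module
-/

set_option autoImplicit false
set_option linter.unusedSectionVars false
set_option linter.style.haveILetI false

namespace Cfsg.Agent.OddCyclic.EN.NatTwo

open Subgroup Cfsg.Agent.MinSimple.Geo Cfsg.Agent.OddCyclic.T1Module Cfsg.Agent.OddCyclic.T1Sl2
  Cfsg.Agent.OddCyclic.FFBasic Cfsg.Agent.OddCyclic.FFRed Cfsg.Agent.OddCyclic.FFSl2
  Cfsg.Agent.OddCyclic.T1Defs Cfsg.Agent.OddCyclic.RedFFDefs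
open Cfsg.Agent.OddCyclic.EmpC (CM mem_CM CM_le)

universe u

variable {X : Type u} [Group X] [Finite X] {V : Type u} [CommGroup V] [Finite V] {ρ : X →* MulAut V}
  {L U U' A : Subgroup X} {F : Type} [Field F] [Fintype F] [CharP F 2] {lam : V}

theorem card_sup_le {W : Type*} [CommGroup W] [Finite W] (H K : Subgroup W) :
    Nat.card (H ⊔ K : Subgroup W) ≤ Nat.card H * Nat.card K := by
  have h1 : Nat.card K * K.relIndex (H ⊔ K) = Nat.card (H ⊔ K : Subgroup W) := card_mul_relIndex le_sup_right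
  rw [← h1, Subgroup.relIndex_sup_right, mul_comm]
  apply Nat.mul_le_mul_right
  rw [Subgroup.relIndex]
  exact Nat.le_of_dvd Nat.card_pos (index_dvd_card _)

theorem relIndex_of_disj {W : Type*} [CommGroup W] [Finite W] {H K : Subgroup W} (h : H ⊓ K = ⊥) :
    K.relIndex (H ⊔ K) = Nat.card H := by
  rw [Subgroup.relIndex_sup_right, ← Subgroup.inf_relIndex_right, inf_comm, h, Subgroup.relIndex_bot_left]

namespace NatA

theorem sq (h : Hy ρ L F) (n : NatA ρ L F A) {a : X} (ha : a ∈ A) : a * a = 1 := by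
  obtain ⟨e⟩ := h.iso
  exact n.toIsU.sq e ha

theorem exists_ne (h : Hy ρ L F) (n : NatA ρ L F A) : ∃ a ∈ A, a ≠ 1 := by
  have h1 : 1 < Nat.card A := by rw [n.card]; exact Fintype.one_lt_card
  have : Nontrivial A := Finite.one_lt_card_iff_nontrivial.1 h1
  obtain ⟨a, ha⟩ := _root_.exists_ne (1 : A)
  exact ⟨a, a.2, fun h2 => ha (Subtype.ext h2)⟩

theorem card_range (h : Hy ρ L F) (n : NatA ρ L F A) {a : X} (ha : a ∈ A) (ha1 : a ≠ 1) :
    Nat.card (cm ρ a).range = Fintype.card F := by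
  rw [card_range_cm, n.fix a ha ha1, n.idx]

theorem range_le (h : Hy ρ L F) (n : NatA ρ L F A) {a : X} (ha : a ∈ A) (ha1 : a ≠ 1) :
    (cm ρ a).range ≤ CS ρ A := by
  rw [← n.fix a ha ha1]
  rintro _ ⟨v, rfl⟩
  rw [mem_fx, cm_apply, map_mul, ← MulAut.mul_apply, ← map_mul, n.sq h ha, map_one, map_inv, mul_comm,
    MulAut.one_apply, ← inv_eq_self h.sq (ρ a v), inv_inv]
  rw [inv_eq_self h.sq, inv_eq_self h.sq]

/-- `[V, a] ∩ C_V(L) = 1` -/
theorem disj (h : Hy ρ L F) (n : NatA ρ L F A) {a : X} (ha : a ∈ A) (ha1 : a ≠ 1) :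
    (cm ρ a).range ⊓ CS ρ L = ⊥ := by
  have h1 := h.quoHy.index_ge (n.le ha) (n.sq h ha) ha1
  rw [← card_range_cm] at h1
  let f : (cm ρ a).range → (cm h.qq a).range := fun v => ⟨((v : V) : V ⧸ CS ρ L), by
    obtain ⟨w, hw⟩ := v.2
    exact ⟨(w : V ⧸ CS ρ L), by rw [← hw]; rfl⟩⟩
  have hf : Function.Surjective f := by
    rintro ⟨_, w, rfl⟩
    obtain ⟨w, rfl⟩ := QuotientGroup.mk_surjective w
    exact ⟨⟨_, w, rfl⟩, rfl⟩
  have h2 := (hf.bijective_of_nat_card_le (by rw [n.card_range h ha ha1]; exact h1)).1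
  rw [eq_bot_iff]
  rintro v ⟨hv, hv2⟩
  have h3 : f ⟨v, hv⟩ = f 1 := by
    apply Subtype.ext
    change ((v : V) : V ⧸ CS ρ L) = ((1 : V) : V ⧸ CS ρ L)
    rw [QuotientGroup.mk_one, QuotientGroup.eq_one_iff]
    exact hv2
  exact congrArg Subtype.val (h2 h3)

theorem relIndex_CS (n : NatA ρ L F A) : (CS ρ L).relIndex (CS ρ A) = Fintype.card F := by
  have h1 := Subgroup.relIndex_mul_index (CS_anti (ρ := ρ) n.le)
  rw [n.idx, n.idxL, pow_two] at h1
  exact Nat.eq_of_mul_eq_mul_right Fintype.card_pos h1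

/-- `C_V(A) = [V, a] × C_V(L)` -/
theorem sup_eq (h : Hy ρ L F) (n : NatA ρ L F A) {a : X} (ha : a ∈ A) (ha1 : a ≠ 1) :
    CS ρ A = (cm ρ a).range ⊔ CS ρ L := by
  have hle : (cm ρ a).range ⊔ CS ρ L ≤ CS ρ A := sup_le (n.range_le h ha ha1) (CS_anti n.le)
  refine (eq_of_index_le hle ?_).symm
  have h1 := Subgroup.relIndex_mul_index (le_sup_right (a := (cm ρ a).range) (b := CS ρ L))
  rw [relIndex_of_disj (n.disj h ha ha1), n.card_range h ha ha1, n.idxL, pow_two] at h1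
  rw [n.idx]
  exact (Nat.eq_of_mul_eq_mul_left Fintype.card_pos h1).le

theorem CM_le_CS (h : Hy ρ L F) (n : NatA ρ L F A) : CM ρ A ≤ CS ρ A := by
  refine CM_le fun a ha v => ?_
  by_cases ha1 : a = 1
  · rw [ha1, map_one]
    have : (1 : MulAut V) v * v⁻¹ = 1 := mul_inv_cancel v
    rw [this]; exact one_mem _
  · exact n.range_le h ha ha1 ⟨v, rfl⟩

/-- conjugates -/
theorem cj (h : Hy ρ L F) (n : NatA ρ L F A) (g : X) : NatA ρ L F (MinSimple.Geo.cj g A) := by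
  have hCS : CS ρ (MinSimple.Geo.cj g A) = (CS ρ A).map (ρ g : V ≃* V).toMonoidHom := by
    ext v
    constructor
    · intro hv
      refine ⟨ρ g⁻¹ v, ?_, ?_⟩
      · intro a ha
        have h1 := hv _ (conj_mem_cj (g := g) ha)
        calc ρ a (ρ g⁻¹ v) = ρ g⁻¹ (ρ (g * a * g⁻¹) v) := by
              rw [← MulAut.mul_apply, ← MulAut.mul_apply, ← map_mul, ← map_mul]; congr 2; group
          _ = ρ g⁻¹ v := by rw [h1]
      · change ρ g (ρ g⁻¹ v) = v
        rw [← MulAut.mul_apply, ← map_mul, mul_inv_cancel, map_one]; rfl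
    · rintro ⟨w, hw, rfl⟩ _ ⟨a, ha, rfl⟩
      change ρ (g * a * g⁻¹) (ρ g w) = ρ g w
      calc ρ (g * a * g⁻¹) (ρ g w) = ρ g (ρ a w) := by
            rw [← MulAut.mul_apply, ← MulAut.mul_apply, ← map_mul, ← map_mul]; congr 2; group
        _ = ρ g w := by rw [hw a ha]
  refine ⟨n.toIsU.cj h.nrm g, ?_, n.idxL, ?_⟩
  · rw [hCS, FFBasic.index_map, n.idx]
  · rintro _ ⟨a, ha, rfl⟩ ha1
    change fx ρ (g * a * g⁻¹) = _
    rw [fx_conj, hCS, n.fix a ha]
    rintro rfl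
    apply ha1
    exact map_one _

/-- **(N3)** `lam ∈ [V, A]`, `[V, A] ∩ C_V(L) = 1`: then `C_V(L) = 1` -/
theorem bot_of_mem (h : Lam ρ L F lam) (n : NatA ρ L F A) (hd : CM ρ A ⊓ CS ρ L = ⊥) (hl : lam ∈ CM ρ A) :
    CS ρ L = ⊥ := by
  obtain ⟨e⟩ := h.iso
  obtain ⟨g, hg, hgA⟩ := n.toIsU.exists_ne e
  have n' := n.cj h.toHy g
  -- `|[V, A]| ≤ q`
  have key : Nat.card (CM ρ A) ≤ Fintype.card F := by
    rw [← relIndex_of_disj hd, ← n.relIndex_CS]
    exact Subgroup.relIndex_le_of_le_right (sup_le (n.CM_le_CS h.toHy) (CS_anti n.le)) (by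
      rw [n.relIndex_CS]; exact Fintype.card_pos.ne')
  have hmap : CM ρ (MinSimple.Geo.cj g A) = (CM ρ A).map (ρ g : V ≃* V).toMonoidHom := by
    apply le_antisymm
    · refine CM_le ?_
      rintro _ ⟨a, ha, rfl⟩ v
      obtain ⟨w, rfl⟩ := (ρ g).surjective v
      refine ⟨_, mem_CM ha w, ?_⟩
      change ρ g (ρ a w * w⁻¹) = ρ (g * a * g⁻¹) (ρ g w) * (ρ g w)⁻¹
      rw [map_mul, map_inv]
      congr 1
      rw [← MulAut.mul_apply, ← MulAut.mul_apply, ← map_mul, ← map_mul]; congr 2; group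
    · rintro _ ⟨w, hw, rfl⟩
      have : CM ρ A ≤ (CM ρ (MinSimple.Geo.cj g A)).comap (ρ g : V ≃* V).toMonoidHom := by
        refine CM_le fun a ha v => ?_
        change ρ g (ρ a v * v⁻¹) ∈ CM ρ (MinSimple.Geo.cj g A)
        have h1 : ρ g (ρ a v * v⁻¹) = ρ (g * a * g⁻¹) (ρ g v) * (ρ g v)⁻¹ := by
          rw [map_mul, map_inv]
          congr 1
          rw [← MulAut.mul_apply, ← MulAut.mul_apply, ← map_mul, ← map_mul]; congr 2; group
        rw [h1]
        exact mem_CM (conj_mem_cj ha) _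
      exact this hw
  have key' : Nat.card (CM ρ (MinSimple.Geo.cj g A)) ≤ Fintype.card F := by
    rw [hmap, card_map_of_injective (ρ g : V ≃* V).injective]
    exact key
  obtain ⟨N, hN⟩ : ∃ N, N = CM ρ A ⊔ CM ρ (MinSimple.Geo.cj g A) := ⟨_, rfl⟩
  have hNi : ∀ {B : Subgroup X}, CM ρ B ≤ N → ∀ b ∈ B, ∀ w ∈ N, ρ b w ∈ N := by
    intro B hB b hb w hw
    have h1 : ρ b w = (ρ b w * w⁻¹) * w := by group
    rw [h1]
    exact mul_mem (hB (mem_CM hb w)) hw
  let S : Subgroup X :=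
    { carrier := {x | (∀ w ∈ N, ρ x w ∈ N) ∧ ∀ w ∈ N, ρ x⁻¹ w ∈ N}
      mul_mem' := by
        rintro a b ⟨ha, ha'⟩ ⟨hb, hb'⟩
        refine ⟨fun w hw => ?_, fun w hw => ?_⟩
        · rw [map_mul, MulAut.mul_apply]; exact ha _ (hb _ hw)
        · rw [_root_.mul_inv_rev, map_mul, MulAut.mul_apply]; exact hb' _ (ha' _ hw)
      one_mem' := ⟨fun w hw => by rw [map_one]; exact hw, fun w hw => by rw [inv_one, map_one]; exact hw⟩
      inv_mem' := by
        rintro a ⟨ha, ha'⟩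
        exact ⟨ha', fun w hw => by rw [inv_inv]; exact ha w hw⟩ }
  have hS : L ≤ S := by
    refine n.toIsU.gen e n'.toIsU (Ne.symm hgA) ?_ ?_
    · intro a ha
      exact ⟨hNi (by rw [hN]; exact le_sup_left) a ha, hNi (by rw [hN]; exact le_sup_left) _ (inv_mem ha)⟩
    · intro a ha
      exact ⟨hNi (by rw [hN]; exact le_sup_right) a ha, hNi (by rw [hN]; exact le_sup_right) _ (inv_mem ha)⟩
  have hlN : lam ∈ N := by rw [hN]; exact le_sup_left (a := CM ρ A) hl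
  have hNtop : N = ⊤ := by
    apply h.gen
    intro x
    obtain ⟨l, hl, e1⟩ := h.tr x
    rw [e1]
    exact (hS hl).1 _ hlN
  have hc : Nat.card V ≤ Fintype.card F * Fintype.card F := by
    rw [← Subgroup.card_top (G := V), ← hNtop, hN]
    exact (card_sup_le _ _).trans (Nat.mul_le_mul key key')
  have hc2 := (CS ρ L).card_mul_index
  rw [n.idxL, pow_two] at hc2
  rw [← Subgroup.card_eq_one]
  have hq : 0 < Fintype.card F * Fintype.card F := Nat.mul_pos Fintype.card_pos Fintype.card_pos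
  have hc3 : Nat.card (CS ρ L) * (Fintype.card F * Fintype.card F) ≤ 1 * (Fintype.card F * Fintype.card F) := by
    rw [hc2, one_mul]; exact hc
  have h4 := Nat.le_of_mul_le_mul_right hc3 hq
  have h5 : 0 < Nat.card (CS ρ L) := Nat.card_pos
  omega

end NatA

end Cfsg.Agent.OddCyclic.EN.NatTwo
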