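import Cfsg.Agent.OddCyclic.EN.NatTwo.Nat

/-!
# (E1), type `(A_q)`: the natural module, `C_V(L) = 1`
-/

set_option autoImplicit false
set_option linter.unusedSectionVars false
set_option linter.style.haveILetI false

namespace Cfsg.Agent.OddCyclic.EN.NatTwo

open Subgroup Cfsg.Agent.MinSimple.Geo Cfsg.Agent.OddCyclic.T1Module Cfsg.Agent.OddCyclic.T1Sl2
  Cfsg.Agent.OddCyclic.FFBasic Cfsg.Agent.OddCyclic.FFRed Cfsg.Agent.OddCyclic.FFSl2
  Cfsg.Agent.OddCyclic.T1Defs Cfsg.Agent.OddCyclic.RedFFDefs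
open Matrix (SpecialLinearGroup)
open Cfsg.Agent.OddCyclic.EmpC (CM mem_CM CM_le)

universe u

variable {X : Type u} [Group X] [Finite X] {V : Type u} [CommGroup V] [Finite V] {ρ : X →* MulAut V}
  {L U U' A : Subgroup X} {F : Type} [Field F] [Fintype F] [CharP F 2] {lam : V}

theorem Lam.ne_one (h : Lam ρ L F lam) : lam ≠ 1 := by
  rintro rfl
  obtain ⟨e⟩ := h.iso
  obtain ⟨U, hU, -⟩ := exists_isU e (A := ⊥) bot_le (IsPGroup.of_bot)
  obtain ⟨g, -, hg3, -⟩ := hU.torus e h.om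
  exact h.three g hg3 (map_one _)

namespace NatA

theorem isNat (h : Hy ρ L F) (n : NatA ρ L F A) (e : SpecialLinearGroup (Fin 2) F ≃* L) :
    IsNat (ρ.comp (L.subtype.comp e.toMonoidHom)) := by
  have h1 := COneXL.isNat_of_lin h.sq h.inj (fun a ha => n.sq h ha) n.le h.four e.symm n.card n.idx
  rwa [MulEquiv.symm_symm] at h1

theorem fpf (h : Hy ρ L F) (n : NatA ρ L F A) {y : X} (hy : y ∈ L) (ho : Odd (orderOf y)) (hy1 : y ≠ 1) {v : V}
    (hv : ρ y v = v) : v ∈ CS ρ L := by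
  obtain ⟨e⟩ := h.iso
  have h1 := n.isNat h e
  have h2 : IsNat (ρ.comp (L.subtype.comp e.symm.symm.toMonoidHom)) := by rwa [MulEquiv.symm_symm]
  exact COneXL.fpf_of_nat e.symm h2 hy ho hy1 hv

theorem cover (h : Hy ρ L F) (n : NatA ρ L F A) (v : V) : ∃ U, IsU L U F ∧ v ∈ CS ρ U := by
  obtain ⟨e⟩ := h.iso
  obtain ⟨P, hP⟩ := (n.isNat h e).cover v
  let f : SpecialLinearGroup (Fin 2) F →* X := L.subtype.comp e.toMonoidHom
  have hf : Function.Injective f := L.subtype_injective.comp e.injective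
  refine ⟨(P : Subgroup (SpecialLinearGroup (Fin 2) F)).map f, ⟨?_, P.isPGroup'.map _, ?_⟩, ?_⟩
  · rintro _ ⟨s, -, rfl⟩
    exact (e s).2
  · rw [card_map_of_injective hf]
    exact T1Sl2.card_sylow P
  · rintro _ ⟨s, hs, rfl⟩
    exact hP s hs

theorem card_V (n : NatA ρ L F A) (h0 : CS ρ L = ⊥) : Nat.card V = Fintype.card F ^ 2 := by
  rw [← n.idxL, h0, Subgroup.index_bot]

/-- `L` is transitive on `V#` -/
theorem trans (h : Lam ρ L F lam) (n : NatA ρ L F A) (h0 : CS ρ L = ⊥) {v : V} (hv : v ≠ 1) :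
    ∃ l ∈ L, ρ l lam = v := by
  classical
  obtain ⟨e⟩ := h.iso
  letI act : MulAction L V := MulAction.compHom V (ρ.comp L.subtype)
  have hact : ∀ (l : L) (w : V), l • w = ρ (l : X) w := fun _ _ => rfl
  obtain ⟨S, hS⟩ : ∃ S : Subgroup L, S = MulAction.stabilizer L lam := ⟨_, rfl⟩
  have hSmem : ∀ l : L, l ∈ S ↔ ρ (l : X) lam = lam := by
    intro l
    rw [hS, MulAction.mem_stabilizer_iff, hact]
  have hS2 : IsPGroup 2 (S.map L.subtype) := by
    refine IsPGroup.map ?_ _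
    intro s
    obtain ⟨k, m, hm, e1⟩ := Nat.exists_eq_two_pow_mul_odd (orderOf_pos ((s : L) : X)).ne'
    refine ⟨k, ?_⟩
    apply Subtype.ext
    apply Subtype.ext
    change ((s : L) : X) ^ 2 ^ k = 1
    by_contra hne
    have h1 : orderOf (((s : L) : X) ^ 2 ^ k) = m := by
      rw [orderOf_pow_of_dvd (by positivity) (by rw [e1]; exact dvd_mul_right _ _), e1,
        Nat.mul_div_cancel_left _ (by positivity)]
    have h2 := n.fpf h.toHy (y := ((s : L) : X) ^ 2 ^ k) (pow_mem (s : L).2 _) (by rw [h1]; exact hm) hne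
      (v := lam) (fx_pow ρ ((hSmem s).1 s.2) _)
    rw [h0, mem_bot] at h2
    exact h.ne_one h2
  have hSc : Nat.card S ≤ Fintype.card F := by
    have h1 := card_le e (A := S.map L.subtype) (by rintro _ ⟨l, -, rfl⟩; exact l.2) hS2
    rwa [card_map_of_injective L.subtype_injective] at h1
  have h1 := S.card_mul_index
  rw [hS, MulAction.index_stabilizer, ← hS, h.card_L, T1Sl2.card_sl2] at h1
  have hq : 1 < Fintype.card F := Fintype.one_lt_card
  have h2 : (Fintype.card F + 1) * (Fintype.card F - 1) ≤ (MulAction.orbit L lam).ncard := by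
    by_contra hcon
    push Not at hcon
    have h3 : Nat.card S * (MulAction.orbit L lam).ncard <
        Fintype.card F * ((Fintype.card F + 1) * (Fintype.card F - 1)) := by
      apply Nat.mul_lt_mul_of_le_of_lt hSc hcon
      omega
    rw [h1] at h3
    have : (Fintype.card F + 1) * Fintype.card F * (Fintype.card F - 1) =
      Fintype.card F * ((Fintype.card F + 1) * (Fintype.card F - 1)) := by ring
    omega
  have h3 : MulAction.orbit L lam = {w : V | w ≠ 1} := by
    apply Set.eq_of_subset_of_ncard_le (ht := Set.toFinite _)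
    · rintro _ ⟨l, rfl⟩
      change ρ (l : X) lam ≠ 1
      intro h4
      exact h.ne_one ((map_eq_one_iff _ (ρ (l : X)).injective).1 h4)
    · have h4 : {w : V | w ≠ 1} = ({1} : Set V)ᶜ := by ext; simp
      have h5 := Set.ncard_add_ncard_compl ({1} : Set V)
      rw [← h4, Set.ncard_singleton, n.card_V h0] at h5
      have h6 : (Fintype.card F + 1) * (Fintype.card F - 1) + 1 = Fintype.card F ^ 2 := by
        obtain ⟨r, hr⟩ : ∃ r, Fintype.card F = r + 1 := ⟨Fintype.card F - 1, by omega⟩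
        rw [hr, Nat.add_sub_cancel]; ring
      omega
  have h4 : v ∈ MulAction.orbit L lam := by rw [h3]; exact hv
  obtain ⟨l, hl⟩ := h4
  exact ⟨l, l.2, hl⟩

theorem range_eq (h : Hy ρ L F) (n : NatA ρ L F A) (h0 : CS ρ L = ⊥) {a : X} (ha : a ∈ A) (ha1 : a ≠ 1) :
    (cm ρ a).range = CS ρ A := by
  rw [n.sup_eq h ha ha1, h0, sup_bot_eq]

theorem card_CS (n : NatA ρ L F A) (h0 : CS ρ L = ⊥) : Nat.card (CS ρ A) = Fintype.card F := by
  have h1 := n.relIndex_CS
  rwa [h0, relIndex_bot_left] at h1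

/-- an element of order three mapping `v` into `C_V(A)` -/
theorem three (h : Hy ρ L F) (n : NatA ρ L F A) (h0 : CS ρ L = ⊥) {v : V} (hv : v ∉ CS ρ A) :
    ∃ g ∈ L, orderOf g = 3 ∧ ρ g v ∈ CS ρ A ∧ ρ g (ρ g v) = v * ρ g v := by
  obtain ⟨e⟩ := h.iso
  obtain ⟨U', hU', hvU⟩ := n.cover h v
  have hne : A ≠ U' := by
    rintro rfl
    exact hv hvU
  obtain ⟨g, hg, hg3, hgU⟩ := n.toIsU.three e hU' hne
  refine ⟨g, hg, hg3, ?_, ?_⟩
  · intro a ha
    rw [← hgU, mem_cj] at ha
    calc ρ a (ρ g v) = ρ g (ρ (g⁻¹ * a * g) v) := by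
          rw [← MulAut.mul_apply, ← MulAut.mul_apply, ← map_mul, ← map_mul]; congr 2; group
      _ = ρ g v := by rw [hvU _ ha]
  · have h1 : ρ g (ρ g (ρ g v)) = v := by
      have : g * g * g = 1 := by
        have h2 := pow_orderOf_eq_one g
        rw [hg3, pow_succ, pow_two] at h2
        exact h2
      rw [← MulAut.mul_apply, ← MulAut.mul_apply, ← map_mul, ← map_mul, this, map_one]; rfl
    have h2 : ρ g (v * ρ g v * ρ g (ρ g v)) = v * ρ g v * ρ g (ρ g v) := by
      rw [map_mul, map_mul, h1, mul_comm, mul_assoc]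
    have h3 := n.fpf h hg (by rw [hg3]; decide) (by
      rintro rfl
      rw [orderOf_one] at hg3
      omega) h2
    rw [h0, mem_bot] at h3
    have h4 := eq_of_mul_eq_one h.sq h3
    exact h4.symm

end NatA

end Cfsg.Agent.OddCyclic.EN.NatTwo
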