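import Cfsg.Agent.OddCyclic.EN.NatTwo.NT

/-!
# (E1), type `(A_q)`: no transvections, the offender theorem (2)
-/

set_option autoImplicit false
set_option linter.unusedSectionVars false
set_option linter.style.haveILetI false

namespace Cfsg.Agent.OddCyclic.EN.NatTwo

open Matrix Subgroup Cfsg.Agent.MinSimple.Geo Cfsg.Agent.OddCyclic.T1Module Cfsg.Agent.OddCyclic.T1Sl2
  Cfsg.Agent.OddCyclic.FFBasic Cfsg.Agent.OddCyclic.FFRed Cfsg.Agent.OddCyclic.FFSl2
  Cfsg.Agent.OddCyclic.T1Defs Cfsg.Agent.OddCyclic.RedFFDefs Cfsg.Agent.OddCyclic.FFOuterPerm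
open Equiv (swap)
open scoped Pointwise

universe u

variable {X : Type u} [Group X] [Finite X] {V : Type u} [CommGroup V] [Finite V] {ρ : X →* MulAut V}
  {L U U' : Subgroup X} {F : Type} [Field F] [Fintype F] [CharP F 2] {lam : V}

/-- in a module for `S₅` generated by transvections a vector fixed by `D8` is fixed by a 3-cycle -/
theorem ev_three {W : Type u} [CommGroup W] {σ : Equiv.Perm (Fin 5) →* MulAut W} {c : Fin 5 → Fin 5 → W}
    (h : Ev σ c) (hW : ∀ w : W, w * w = 1) {v : W} (hv : ∀ g ∈ D8, σ g v = v) :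
    σ (swap 0 1 * swap 1 2) v = v := by
  have h01 : σ (swap 0 1) v = v := hv _ (by
    change (swap (0 : Fin 5) 1) 4 = 4 ∧ _
    decide)
  have h03 : σ (swap 0 3) (σ (swap 1 2) v) = v := by
    rw [← MulAut.mul_apply, ← map_mul]
    exact hv _ (by
      change (swap (0 : Fin 5) 3 * swap 1 2 : Equiv.Perm (Fin 5)) 4 = 4 ∧ _
      decide)
  rw [map_mul, MulAut.mul_apply]
  rcases h.tv 1 2 (by decide) v with h1 | h1
  · rw [h1, h01]
  · exfalso
    rw [h1, map_mul, h.act] at h03
    have e1 : (swap (0 : Fin 5) 3) 1 = 1 := by decide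
    have e2 : (swap (0 : Fin 5) 3) 2 = 2 := by decide
    rw [e1, e2] at h03
    have h2 : σ (swap 0 3) v = v * c 1 2 := by
      calc σ (swap 0 3) v = σ (swap 0 3) v * c 1 2 * c 1 2 := by rw [mul_assoc, hW, mul_one]
        _ = v * c 1 2 := by rw [h03]
    rcases h.tv 0 3 (by decide) v with h3 | h3
    · rw [h3] at h2
      exact h.ne 1 2 (by decide) (mul_left_cancel (h2.symm.trans (mul_one v).symm))
    · rw [h3] at h2
      have h4 : c 0 3 = c 1 2 := mul_left_cancel h2
      have h5 := congrArg (σ (swap 1 4)) h4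
      rw [h.act, h.act] at h5
      have e3 : (swap (1 : Fin 5) 4) 0 = 0 := by decide
      have e4 : (swap (1 : Fin 5) 4) 3 = 3 := by decide
      have e5 : (swap (1 : Fin 5) 4) 1 = 4 := by decide
      have e6 : (swap (1 : Fin 5) 4) 2 = 2 := by decide
      rw [e3, e4, e5, e6, h4, h.symm 1 2] at h5
      have h6 := h.add 1 2 4
      rw [h.symm 1 2, h5, h.symm 4 2, hW] at h6
      exact h.ne 1 4 (by decide) h6.symm

namespace Lam

/-- the case `S₅` of the offender theorem on `V~` is impossible -/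
theorem not_five (h : Lam ρ L F lam) {A : Subgroup X} (ho : OutFive h.qq A) : False := by
  obtain ⟨K, -, e, hn, hsw, -⟩ := ho
  have hf2 : Fact (Nat.Prime 2) := ⟨Nat.prime_two⟩
  have haL : L = ((alternatingGroup (Fin 5)).comap e.toMonoidHom).map K.subtype := by
    refine h.eq_of_normal hn ?_
    have h1 : IsSimpleGroup (alternatingGroup (Fin 5)) := alternatingGroup.isSimpleGroup (by simp)
    have e1 : (alternatingGroup (Fin 5)) ≃* (((alternatingGroup (Fin 5)).comap e.toMonoidHom).map K.subtype : Subgroup X) := by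
      refine MulEquiv.trans ?_ (Subgroup.equivMapOfInjective _ _ K.subtype_injective)
      have h2 : (alternatingGroup (Fin 5)).comap e.toMonoidHom = (alternatingGroup (Fin 5)).map e.symm.toMonoidHom := by
        ext x
        constructor
        · intro hx
          exact ⟨e x, hx, e.symm_apply_apply x⟩
        · rintro ⟨y, hy, rfl⟩
          change e (e.symm y) ∈ alternatingGroup (Fin 5)
          rw [e.apply_symm_apply]; exact hy
      rw [h2]
      exact Subgroup.equivMapOfInjective _ _ e.symm.injective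
    exact e1.symm.isSimpleGroup
  obtain ⟨σ, hσ⟩ : ∃ σ : Equiv.Perm (Fin 5) →* MulAut (V ⧸ CS ρ L), σ = h.qq.comp (K.subtype.comp e.symm.toMonoidHom) :=
    ⟨_, rfl⟩
  have hσa : ∀ g w, σ g w = h.qq ((e.symm g : K) : X) w := fun g w => by rw [hσ]; rfl
  have hσfx : ∀ g, fx σ g = fx h.qq ((e.symm g : K) : X) := fun g => by rw [hσ]; rfl
  obtain ⟨c, hc⟩ : ∃ c, Ev σ c := by
    refine exists_ev h.sq_qq ?_ ?_
    · intro g _ hg1
      by_contra hcon
      push Not at hcon
      apply hg1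
      have h1 : h.qq ((e.symm g : K) : X) = 1 := by
        ext1 w
        rw [← hσa, hcon]; rfl
      have h2 : ((e.symm g : K) : X) = 1 := h.inj_qq (by rw [h1, map_one])
      exact e.symm.injective (Subtype.ext (by rw [h2, map_one]; rfl))
    · intro i j hij
      rw [hσfx]
      exact hsw i j hij
  -- the `D8` of `K` fixes a conjugate of `lam`
  obtain ⟨T, hT⟩ := h.fixT
  obtain ⟨D, hD⟩ : ∃ D : Subgroup X, D = D8.map (K.subtype.comp e.symm.toMonoidHom) := ⟨_, rfl⟩
  have hD2 : IsPGroup 2 D := by rw [hD]; exact D8_two.map _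
  obtain ⟨P, hP⟩ := hD2.exists_le_sylow
  obtain ⟨g, hg⟩ := MulAction.exists_smul_eq X T P
  have hfix : ∀ d ∈ D8, ρ ((e.symm d : K) : X) (ρ g lam) = ρ g lam := by
    intro d hd
    have h1 : ((e.symm d : K) : X) ∈ P := hP (by rw [hD]; exact ⟨d, hd, rfl⟩)
    rw [← hg] at h1
    have h2 : g⁻¹ * ((e.symm d : K) : X) * g ∈ T := by
      have h3 : ((e.symm d : K) : X) ∈ MulAut.conj g • (T : Subgroup X) := by
        rw [← Sylow.coe_subgroup_smul]; exact h1
      rw [Subgroup.mem_pointwise_smul_iff_inv_smul_mem, ← map_inv, MulAut.smul_def, MulAut.conj_apply, inv_inv] at h3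
      exact h3
    have h3 := hT _ h2
    calc ρ ((e.symm d : K) : X) (ρ g lam) = ρ g (ρ (g⁻¹ * ((e.symm d : K) : X) * g) lam) := by
          rw [← MulAut.mul_apply, ← MulAut.mul_apply, ← map_mul, ← map_mul]; congr 2; group
      _ = ρ g lam := by rw [h3]
  have hq : ∀ d ∈ D8, σ d ((ρ g lam : V) : V ⧸ CS ρ L) = ((ρ g lam : V) : V ⧸ CS ρ L) := by
    intro d hd
    rw [hσa, h.qq_apply, hfix d hd]
  have h3 := ev_three hc h.sq_qq hq
  rw [hσa, h.qq_eq_iff] at h3
  obtain ⟨y, hy⟩ : ∃ y : K, y = e.symm (swap 0 1 * swap 1 2) := ⟨_, rfl⟩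
  rw [← hy] at h3
  have hyL : (y : X) ∈ L := by
    rw [haL]
    refine ⟨y, ?_, rfl⟩
    change e y ∈ alternatingGroup (Fin 5)
    rw [hy, e.apply_symm_apply, Equiv.Perm.mem_alternatingGroup, map_mul, Equiv.Perm.sign_swap (by decide),
      Equiv.Perm.sign_swap (by decide)]
    rfl
  have hy3 : orderOf (y : X) = 3 := by
    rw [Subgroup.orderOf_coe, hy, MulEquiv.orderOf_eq]
    exact orderOf_eq_prime (p := 3) (by decide) (by decide)
  have h4 := h.lift_three hyL hy3 h3
  apply h.three (g⁻¹ * (y : X) * g)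
  · have := orderOf_injective (MulAut.conj g⁻¹).toMonoidHom (MulAut.conj g⁻¹).injective (y : X)
    have e1 : (MulAut.conj g⁻¹).toMonoidHom (y : X) = g⁻¹ * y * g := by
      change g⁻¹ * (y : X) * g⁻¹⁻¹ = _
      rw [inv_inv]
    rw [e1, hy3] at this
    exact this
  · calc ρ (g⁻¹ * (y : X) * g) lam = ρ g⁻¹ (ρ (y : X) (ρ g lam)) := by
          rw [← MulAut.mul_apply, ← MulAut.mul_apply, ← map_mul, ← map_mul, mul_assoc]
      _ = ρ g⁻¹ (ρ g lam) := by rw [h4]
      _ = lam := by rw [← MulAut.mul_apply, ← map_mul, inv_mul_cancel, map_one]; rfl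

/-- the common part: `OutS3`, `OutSeven` -/
theorem not_s3 (h : Hy ρ L F) {W : Type u} [CommGroup W] {σ : X →* MulAut W} {A : Subgroup X} (ho : OutS3 σ A) : False := by
  obtain ⟨y, hy3, hy, -⟩ := ho
  have h1 : zpowers y ≠ ⊥ := by
    intro h1
    rw [zpowers_eq_bot] at h1
    rw [h1, orderOf_one] at hy3
    omega
  refine h.not_le_comm ?_ (h.le_of_normal hy h1)
  rintro _ ⟨m, rfl⟩ _ ⟨n, rfl⟩
  exact (Commute.refl y).zpow_zpow m n

theorem not_seven (h : Hy ρ L F) {A : Subgroup X} (ho : OutSeven A) : False := by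
  obtain ⟨K, hK, -, hs, hc⟩ := ho
  have := h.eq_of_normal hK hs
  rw [← this] at hc
  exact h.ne_168 hc

/-- **(NT)** -/
theorem nt (h : Lam ρ L F lam) {t : X} (ht : t * t = 1) (ht1 : t ≠ 1) : 4 ≤ (fx h.qq t).index := by
  by_contra hcon
  push Not at hcon
  have hle : (fx h.qq t).index ≤ 2 := by
    obtain ⟨d, hd⟩ := index_pow h.sq_qq (fx h.qq t)
    rw [hd] at hcon ⊢
    rcases Nat.lt_or_ge d 2 with h1 | h1
    · interval_cases d <;> norm_num
    · have := Nat.pow_le_pow_right (n := 2) (by norm_num) h1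
      omega
  have hCS : CS h.qq (zpowers t) = fx h.qq t := by
    ext v
    constructor
    · intro hv
      exact hv t (mem_zpowers t)
    · rintro hv _ ⟨n, rfl⟩
      have h1 : zpowers t ≤ stb h.qq v := by
        rw [zpowers_le]; exact hv
      exact h1 ⟨n, rfl⟩
  have ho2 : orderOf t = 2 := orderOf_eq_prime (by rw [pow_two]; exact ht) ht1
  have hc : Nat.card (zpowers t) = 2 := by rw [Nat.card_zpowers, ho2]
  have hsq : ∀ a ∈ zpowers t, a * a = 1 := by
    rintro _ ⟨n, rfl⟩
    change t ^ n * t ^ n = 1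
    rw [← (Commute.refl t).mul_zpow, ht, _root_.one_zpow]
  obtain ⟨B, hB, hB1, hBO⟩ := exists_bo h.qq hsq (by
    intro h1
    rw [zpowers_eq_bot] at h1
    exact ht1 h1) (by rw [hCS, hc]; exact hle)
  have hBc : Nat.card B ≤ 2 := by
    rw [← hc]
    exact Nat.card_le_card_of_injective _ (inclusion_injective hB)
  rcases h.ffc _ h.sq_qq h.qq h.inj_qq h.o2_bot B hBO hB1 with ho | ho | ho | ho
  · exact not_s3 h.toHy ho
  · obtain ⟨L', -, -, F', _, _, hch, h4, -, hcard, -⟩ := ho
    omega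
  · exact h.not_five ho
  · exact not_seven h.toHy ho

theorem nt' (h : Lam ρ L F lam) {t : X} (ht : t * t = 1) (ht1 : t ≠ 1) : 4 ≤ (fx ρ t).index :=
  (h.nt ht ht1).trans (h.index_qq_le t)

end Lam

/-- `A` is a Sylow 2-subgroup of `L`, `V / C_V(L)` is natural -/
structure NatA (ρ : X →* MulAut V) (L : Subgroup X) (F : Type) [Field F] [Fintype F] [CharP F 2] (A : Subgroup X) :
    Prop extends IsU L A F where
  idx : (CS ρ A).index = Fintype.card F
  idxL : (CS ρ L).index = Fintype.card F ^ 2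
  fix : ∀ a ∈ A, a ≠ 1 → fx ρ a = CS ρ A

/-- **(M2)** the offender theorem -/
theorem Lam.off (h : Lam ρ L F lam) {A : Subgroup X} (hsq : ∀ a ∈ A, a * a = 1) (hne : A ≠ ⊥)
    (hi : (CS ρ A).index ≤ Nat.card A) : NatA ρ L F A := by
  obtain ⟨B, hB, hB1, hBO⟩ := exists_bo ρ hsq hne hi
  rcases h.ffc _ h.sq ρ h.inj h.o2_bot B hBO hB1 with ho | ho | ho | ho
  · exact (Lam.not_s3 h.toHy ho).elim
  · obtain ⟨L', hL', hBL, F', _, _, hch, h4, ⟨e⟩, hcard, hidx, hiB, hfx⟩ := ho
    have hLL : L = L' := by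
      refine h.eq_of_normal hL' ?_
      have := isSimpleGroup_sl2 (F := F') h4
      exact e.isSimpleGroup
    subst hLL
    have hF := h.card_F_eq e
    rw [hF] at hcard hidx hiB
    have hU : IsU L B F := ⟨hBL, fun b => ⟨1, by
      rw [pow_one, pow_two]; exact Subtype.ext (hBO.sq b b.2)⟩, hcard⟩
    have hAB : A = B := by
      refine le_antisymm (fun a ha => h.cent_U hU fun b hb => ?_) hB
      exact comm_of_sq hsq ha (hB hb)
    rw [hAB]
    exact ⟨hU, hiB, hidx, hfx⟩
  · exfalso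
    obtain ⟨K, -, e, -, hsw, -⟩ := ho
    have h1 := hsw 0 1 (by decide)
    have h2 : ((e.symm (swap 0 1) : K) : X) * (e.symm (swap 0 1) : K) = 1 := by
      rw [← coe_mul, ← map_mul, Equiv.swap_mul_self, map_one]; rfl
    have h3 : ((e.symm (swap 0 1) : K) : X) ≠ 1 := by
      intro h3
      have h4 : e.symm (swap (0 : Fin 5) 1) = 1 := Subtype.ext h3
      rw [MulEquiv.map_eq_one_iff] at h4
      exact absurd h4 (by decide)
    have h4 := h.nt' h2 h3
    omega
  · exact (Lam.not_seven h.toHy ho).elim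

end Cfsg.Agent.OddCyclic.EN.NatTwo
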