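import Cfsg.Agent.OddCyclic.EN.NatTwo.Count

/-!
# (E1), type `(A_q)`, distance at least two: case 1 (`q ∉ ws V p`, `p ∉ ws V q`)

`C1.nat`: the images are Sylow 2-subgroups of `J`, `M / C_M(J)` is natural; `C1.exists_y`: (*);
`C1.bot`: `C_M(J) = 0`.
-/

set_option autoImplicit false
set_option linter.unusedSectionVars false
set_option linter.style.haveILetI false

namespace Cfsg.Agent.OddCyclic.EN.NatTwo

open Subgroup Cfsg Cfsg.Agent.ZN Cfsg.Agent.MinSimple.Geo Cfsg.Agent.OddCyclic.GeoC Cfsg.Agent.OddCyclic.BTwoA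
  Cfsg.Agent.OddCyclic.EN.Line Cfsg.Agent.OddCyclic.EN.Base Cfsg.Agent.MinSimple.SecRep
  Cfsg.Agent.OddCyclic.EN.RepM Cfsg.Agent.OddCyclic.EN.Perm Cfsg.Agent.OddCyclic.EN.OneCount
open Cfsg.Agent.OddCyclic.T1Module Cfsg.Agent.OddCyclic.FFBasic
open Cfsg.Agent.ZN.Block (conj_mem_of_normalizer conj_mem_of_normalizer' le_normalizer_of_forall
  mem_normalizer_of)
open Multiplicative (ofAdd toAdd)
open Cfsg.Agent.OddCyclic.EmpC (CM mem_CM CM_le)

universe u

variable {G : Type u} [Group G] [Finite G] {T V : Subgroup G} {z x y p q : G} {n : ℕ}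
  {M X : Type u} [AddCommGroup M] [Group X] [DistribMulAction X M] [Finite M] [Finite X]
  {F : Type} [Field F] [Fintype F] [CharP F 2] {J : Subgroup X}

/-- an element of `kq V x` moves an element of `ws V x` at most by `x` -/
theorem kq_move (h : Ab T V z) (hx : Pt z x) {k w : G} (hk : k ∈ kq V x) (hw : w ∈ ws V x) :
    k * w * k⁻¹ = w ∨ k * w * k⁻¹ = x * w := by
  obtain ⟨g, _, h'⟩ := exists_odd h hx
  refine Line.kq_ws h'.toGeoC (by rw [Base.kq_cj_left]; exact hk) (by rw [ws_cj]; exact hw)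

/-- case 1 -/
structure C1 (V : Subgroup G) (z : G) (n : ℕ) (p q : G) : Prop where
  crit : Crit V z n p q
  hqp : q ∉ ws V p
  hpq : p ∉ ws V q

namespace C1

theorem symm (h : AbN T V z n) (c : C1 V z n p q) : C1 V z n q p := ⟨c.crit.symm h.toAb, c.hpq, c.hqp⟩

theorem pt (c : C1 V z n p q) : Pt z p := c.crit.pt

theorem pt' (h : AbN T V z n) (c : C1 V z n p q) : Pt z q := c.crit.pt' h.toGeoC

/-- `W_q ≤ C(p)` -/
theorem le (h : AbN T V z n) (c : C1 V z n p q) : ws V q ≤ centralizer ({p} : Set G) := c.crit.ws_le_centralizer h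

theorem le' (h : AbN T V z n) (c : C1 V z n p q) : ws V p ≤ centralizer ({q} : Set G) := (c.symm h).le h

theorem mem_kq_iff (h : AbN T V z n) (c : C1 V z n p q) {w : G} (hw : w ∈ ws V p) :
    w ∈ kq V q ↔ ∀ v ∈ ws V q, w * v = v * w := by
  constructor
  · intro hk v hv
    rcases kq_move h.toAb (c.pt' h) hk hv with e | e
    · exact mul_inv_eq_iff_eq_mul.1 e
    · exfalso
      apply c.hqp
      have h1 := (c.crit.comm_mem h hw hv).1
      have e2 : w * v * w⁻¹ * v⁻¹ = q := by rw [e]; group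
      rwa [e2] at h1
  · intro h1
    refine ⟨c.le' h hw, fun v hv => ?_, fun v hv => ?_⟩
    · rw [h1 v hv, mul_inv_cancel_right, mul_inv_cancel]; exact one_mem _
    · have : w⁻¹ * v * w = v := by rw [mul_assoc, ← h1 v hv]; group
      rw [this, mul_inv_cancel]; exact one_mem _

variable {Rp : Rep V p M X} {Rq : Rep V q M X}

/-- `|M_p : C(A)| = |A'|` -/
theorem index_eq (h : AbN T V z n) (c : C1 V z n p q) (Rp : Rep V p M X) (Rq : Rep V q M X) :
    (CS (hm X M) (Rp.img (ws V q))).index = Nat.card (Rq.img (ws V p)) := by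
  rw [← relIndex_pw Rp, card_img Rq (c.le' h), ← inf_relIndex_right (kq V q)]
  congr 1
  ext w
  rw [mem_pw_CS h.toAb c.pt (c.le h), mem_inf, and_comm]
  refine and_congr_left fun hw => ?_
  rw [c.mem_kq_iff h hw]
  refine forall₂_congr fun v hv => ?_
  constructor
  · rintro (e | e)
    · exact (mul_inv_eq_iff_eq_mul.1 e).symm
    · exfalso
      apply c.hpq
      have h1 := (c.crit.comm_mem h hw hv).2
      have hp1 : p⁻¹ = p := inv_eq_of_mul_eq_one_left (Base.Pt.sq h.toGeoC c.pt)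
      have e2 : w * v * w⁻¹ * v⁻¹ = p := by
        have e3 : v * w * v⁻¹ * w⁻¹ = p := by rw [e]; group
        have e4 : w * v * w⁻¹ * v⁻¹ = (v * w * v⁻¹ * w⁻¹)⁻¹ := by group
        rw [e4, e3, hp1]
      rwa [e2] at h1
  · intro e
    left
    rw [← e, mul_inv_cancel_right]

theorem ne_bot (h : AbN T V z n) (c : C1 V z n p q) (Rq : Rep V q M X) : Rq.img (ws V p) ≠ ⊥ := by
  rw [img_ne_bot Rq (c.le' h)]
  intro hle
  obtain ⟨-, -, a, ha, b, hb, hab⟩ := c.crit
  exact hab ((c.mem_kq_iff h ha).1 (hle ha) b hb)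

/-- the offender theorem: both images are Sylow 2-subgroups of `J` -/
theorem nat_aux (h : AbN T V z n) (c : C1 V z n p q) (ap : At T V z p Rp J F) (aq : At T V z q Rq J F)
    (hle : Nat.card (Rq.img (ws V p)) ≤ Nat.card (Rp.img (ws V q))) :
    NatA (hm X M) J F (Rp.img (ws V q)) ∧ NatA (hm X M) J F (Rq.img (ws V p)) := by
  obtain ⟨p₁, hp₁, -⟩ := c.crit.head h
  obtain ⟨q₁, hq₁, -⟩ := (c.symm h).crit.head h
  have h1 : NatA (hm X M) J F (Rp.img (ws V q)) :=
    (ap.lam h.toAb hp₁).off (img_sq Rp (c.le h) fun d hd => Base.ws_sq h.toAb (c.pt' h) hd) ((c.symm h).ne_bot h Rp)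
      (by rw [c.index_eq h Rp Rq]; exact hle)
  refine ⟨h1, ?_⟩
  have h2 : Nat.card (Rq.img (ws V p)) = Fintype.card F := by rw [← c.index_eq h Rp Rq, h1.idx]
  refine (aq.lam h.toAb hq₁).off (img_sq Rq (c.le' h) fun d hd => Base.ws_sq h.toAb c.pt hd) (c.ne_bot h Rq) ?_
  rw [(c.symm h).index_eq h Rq Rp, h2, h1.card]

theorem nat (h : AbN T V z n) (c : C1 V z n p q) (ap : At T V z p Rp J F) (aq : At T V z q Rq J F) :
    NatA (hm X M) J F (Rp.img (ws V q)) := by
  rcases le_total (Nat.card (Rq.img (ws V p))) (Nat.card (Rp.img (ws V q))) with h1 | h1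
  · exact (c.nat_aux h ap aq h1).1
  · exact ((c.symm h).nat_aux h aq ap h1).2

/-- **(*)** -/
theorem exists_y (h : AbN T V z n) (hn : 2 ≤ n) (c : C1 V z n p q) (ap : At T V z p Rp J F)
    (aq : At T V z q Rq J F) : ∃ y, Col V q y ∧ ¬ ws V y ≤ centralizer ({p} : Set G) := by
  by_contra hcon
  push Not at hcon
  have hnat := c.nat h ap aq
  have hnat' := (c.symm h).nat h aq ap
  obtain ⟨U, hU⟩ : ∃ U, U = tt V 1 q := ⟨_, rfl⟩
  have hn1 : 1 < n := by omega
  have hUp : U ≤ centralizer ({p} : Set G) := by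
    rw [hU]
    refine tt_le fun w hw => ?_
    rcases walk_one.1 hw with rfl | h1
    · exact c.le h
    · exact hcon w h1
  have hUW : U ≤ centralizer (ws V q : Set G) := by
    rw [hU]; exact tt_le_centralizer_ws h hn1 (c.pt' h)
  have hWU : ws V q ≤ U := by rw [hU]; exact ws_le_tt (Walk.refl V 1 q)
  have hUo : U ≤ o2 (centralizer ({q} : Set G)) := by rw [hU]; exact tt_le_o2 h hn1 (c.pt' h)
  have hU2 : IsPGroup 2 U := (isPGroup_o2 _).to_le hUo
  have hUC : U ≤ centralizer ({q} : Set G) := hUo.trans (o2_le _)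
  have hUn : centralizer ({q} : Set G) ≤ normalizer (U : Set G) := by
    rw [hU]; exact centralizer_le_normalizer_tt 1 q
  have hUy : ∀ y, Col V q y → ws V y ≤ U := fun y hy => by
    rw [hU]; exact ws_le_tt hy.walk
  -- (i)
  have key : ∀ w ∈ ws V p, ∀ u ∈ U, w * u * w⁻¹ * u⁻¹ ∈ ws V q ∨ ∃ r ∈ ws V q, w * u * w⁻¹ * u⁻¹ = r * p := by
    intro w hw u hu
    have h1 : Rp.rho u ∈ Rp.img (ws V q) := by
      refine ap.hy.cent_U hnat.toIsU fun a ha => ?_
      obtain ⟨v, hv, rfl⟩ := (Rp.mem_img (c.le h)).1 ha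
      rw [← Rp.rho_mul _ (hUp hu) _ (c.le h hv), ← Rp.rho_mul _ (c.le h hv) _ (hUp hu),
        (mem_centralizer_iff.1 (hUW hu) v hv)]
    obtain ⟨v, hv, hvu⟩ := (Rp.mem_img (c.le h)).1 h1
    obtain ⟨k, hk⟩ : ∃ k, k = v⁻¹ * u := ⟨_, rfl⟩
    have hkK : k ∈ kq V p := by
      rw [← Rep.rho_eq_one Rp (by rw [hk]; exact mul_mem (inv_mem (c.le h hv)) (hUp hu)), hk,
        Rp.rho_mul _ (inv_mem (c.le h hv)) _ (hUp hu), Rp.rho_inv (c.le h hv), hvu, inv_mul_cancel]
    have huv : u = v * k := by rw [hk]; group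
    have hvp : v * p = p * v := mem_centralizer_singleton_iff.1 (c.le h hv)
    have hcom := (c.crit.comm_mem h hw hv).2
    rcases kq_move h.toAb c.pt hkK (inv_mem hw) with e | e
    · left
      have e2 : w * u * w⁻¹ * u⁻¹ = w * v * (k * w⁻¹ * k⁻¹) * v⁻¹ := by rw [huv]; group
      rw [e2, e]
      exact hcom
    · right
      refine ⟨_, hcom, ?_⟩
      have hwp : p * w⁻¹ = w⁻¹ * p := ws_comm h.toAb c.pt (self_mem_ws h.toGeoC c.pt) (inv_mem hw)
      have e2 : w * u * w⁻¹ * u⁻¹ = w * v * (k * w⁻¹ * k⁻¹) * v⁻¹ := by rw [huv]; group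
      have hvp' : p * v⁻¹ = v⁻¹ * p := by
        calc p * v⁻¹ = v⁻¹ * (v * p) * v⁻¹ := by group
          _ = v⁻¹ * (p * v) * v⁻¹ := by rw [hvp]
          _ = v⁻¹ * p := by group
      rw [e2, e, hwp]
      calc w * v * (w⁻¹ * p) * v⁻¹ = w * v * w⁻¹ * (p * v⁻¹) := by group
        _ = w * v * w⁻¹ * (v⁻¹ * p) := by rw [hvp']
        _ = w * v * w⁻¹ * v⁻¹ * p := by group
  -- an element `w` of `W_p` inducing an involution
  obtain ⟨a, ha, ha1⟩ := hnat'.exists_ne aq.hy
  obtain ⟨w, hw, rfl⟩ := (Rq.mem_img (c.le' h)).1 ha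
  have hwq := c.le' h hw
  have hww := Base.ws_sq h.toAb c.pt hw
  have h1 := aq.count h.toAb hU2 hUn hUC hWU hUy hwq (hnat'.le ha)
    (fun h2 => ha1 ((Rep.rho_eq_one Rq hwq).2 h2)) (by rw [hww]; exact one_mem _)
  have h2 : (dv U (ws V q) w).relIndex U ≤ 2 := by
    have hWn : centralizer ({q} : Set G) ≤ normalizer ((ws V q : Subgroup G) : Set G) :=
      Cfsg.Agent.MinSimple.Geo.centralizer_le_normalizer_ws V q
    obtain ⟨D, hD⟩ : ∃ D, D = dv U (ws V q) w := ⟨_, rfl⟩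
    have hDm : ∀ u, u ∈ D ↔ u ∈ U ∧ w * u * w⁻¹ * u⁻¹ ∈ ws V q := by
      intro u
      rw [hD, mem_dv]
      constructor
      · rintro ⟨h3, -, h4⟩
        refine ⟨h3, ?_⟩
        have e : w * u * w⁻¹ * u⁻¹ = (u * w * u⁻¹ * w⁻¹)⁻¹ := by group
        rw [e]; exact inv_mem h4
      · rintro ⟨h3, h4⟩
        refine ⟨h3, hWn (hUC h3), ?_⟩
        have e : u * w * u⁻¹ * w⁻¹ = (w * u * w⁻¹ * u⁻¹)⁻¹ := by group
        rw [e]; exact inv_mem h4
    rw [← hD]
    have hpp : p * p = 1 := Base.Pt.sq h.toGeoC c.pt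
    have hmul : ∀ u ∈ U, ∀ v ∈ U, u ∉ D → v ∉ D → u⁻¹ * v ∈ D := by
      intro u hu v hv huD hvD
      rw [hDm]
      refine ⟨mul_mem (inv_mem hu) hv, ?_⟩
      rcases key w hw u hu with h3 | ⟨r, hr, h3⟩
      · exact absurd ((hDm u).2 ⟨hu, h3⟩) huD
      rcases key w hw v hv with h4 | ⟨s, hs, h4⟩
      · exact absurd ((hDm v).2 ⟨hv, h4⟩) hvD
      have hup : u * p = p * u := mem_centralizer_singleton_iff.1 (hUp hu)
      have hur : u * r = r * u := (mem_centralizer_iff.1 (hUW hu) r hr).symm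
      have hus : u * s = s * u := (mem_centralizer_iff.1 (hUW hu) s hs).symm
      have hps : p * s = s * p := (mem_centralizer_singleton_iff.1 (c.le h hs)).symm
      have hpr : p * r = r * p := (mem_centralizer_singleton_iff.1 (c.le h hr)).symm
      have e1 : w * (u⁻¹ * v) * w⁻¹ * (u⁻¹ * v)⁻¹ = (u⁻¹ * (w * u * w⁻¹ * u⁻¹) * u)⁻¹ *
          (u⁻¹ * (w * v * w⁻¹ * v⁻¹) * u) := by group
      have e2 : u⁻¹ * (r * p) * u = r * p := by
        calc u⁻¹ * (r * p) * u = u⁻¹ * (r * (p * u)) := by group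
          _ = u⁻¹ * (r * u * p) := by rw [← hup]; group
          _ = r * p := by rw [← hur]; group
      have e3 : u⁻¹ * (s * p) * u = s * p := by
        calc u⁻¹ * (s * p) * u = u⁻¹ * (s * (p * u)) := by group
          _ = u⁻¹ * (s * u * p) := by rw [← hup]; group
          _ = s * p := by rw [← hus]; group
      rw [e1, h3, h4, e2, e3]
      have e4 : (r * p)⁻¹ * (s * p) = r⁻¹ * s := by
        rw [← hpr, ← hps, mul_inv_rev]
        group
      rw [e4]
      exact mul_mem (inv_mem hr) hs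
    by_cases hDU : U ≤ D
    · rw [relIndex_eq_one.2 hDU]; norm_num
    · obtain ⟨u, hu, huD⟩ := SetLike.not_le_iff_exists.1 hDU
      rw [Subgroup.relIndex, Subgroup.index]
      classical
      have hinj : Function.Injective (fun s : U ⧸ D.subgroupOf U => (decide ((s.out : G) ∈ D))) := by
        intro s t hst
        have h3 : ((s.out : G) ∈ D) ↔ ((t.out : G) ∈ D) := by
          simpa using hst
        rw [← Quotient.out_eq' s, ← Quotient.out_eq' t, QuotientGroup.eq, mem_subgroupOf]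
        by_cases h4 : (s.out : G) ∈ D
        · exact mul_mem (inv_mem h4) (h3.1 h4)
        · exact hmul _ s.out.2 _ t.out.2 h4 (fun h5 => h4 (h3.2 h5))
      have h5 := Nat.card_le_card_of_injective _ hinj
      simpa using h5
  have h4 := aq.hy.four
  omega

end C1

end Cfsg.Agent.OddCyclic.EN.NatTwo
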