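import Cfsg.Agent.OddCyclic.EN.NatTwo.One

/-!
# (E1), type `(A_q)`, distance at least two: case 1, `C_M(J) = 0`
-/

set_option autoImplicit false
set_option linter.unusedSectionVars false
set_option linter.style.haveILetI false

namespace Cfsg.Agent.OddCyclic.EN.NatTwo

open Subgroup Cfsg Cfsg.Agent.ZN Cfsg.Agent.MinSimple.Geo Cfsg.Agent.OddCyclic.GeoC Cfsg.Agent.OddCyclic.BTwoA
  Cfsg.Agent.OddCyclic.EN.Line Cfsg.Agent.OddCyclic.EN.Base Cfsg.Agent.MinSimple.SecRep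
  Cfsg.Agent.OddCyclic.EN.RepM Cfsg.Agent.OddCyclic.EN.Perm Cfsg.Agent.OddCyclic.EN.OneCount
open Cfsg.Agent.OddCyclic.T1Module Cfsg.Agent.OddCyclic.FFBasic
open Cfsg.Agent.ZN.Block (conj_mem_of_normalizer conj_mem_of_normalizer' le_normalizer_of_forall
  mem_normalizer_of)
open Multiplicative (ofAdd toAdd)
open Cfsg.Agent.OddCyclic.EmpC (CM mem_CM CM_le)

universe u

variable {G : Type u} [Group G] [Finite G] {T V : Subgroup G} {z x y p q : G} {n : ℕ}
  {M X : Type u} [AddCommGroup M] [Group X] [DistribMulAction X M] [Finite M] [Finite X]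
  {F : Type} [Field F] [Fintype F] [CharP F 2] {J : Subgroup X}
  {Rp : Rep V p M X} {Rq : Rep V q M X}

namespace C1

/-- elements of `[M_p, W_q]` come from `W_p ∩ W_q` -/
theorem exists_of_mem_CM (h : AbN T V z n) (c : C1 V z n p q) {m : Multiplicative M}
    (hm' : m ∈ CM (hm X M) (Rp.img (ws V q))) : ∃ a ∈ ws V p ⊓ ws V q, ofAdd (Rp.pi a) = m := by
  have hle : CM (hm X M) (Rp.img (ws V q)) ≤ ((ws V p ⊓ ws V q).subgroupOf (ws V p)).map (piH Rp) := by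
    refine CM_le fun k hk v => ?_
    obtain ⟨u, hu, rfl⟩ := (Rp.mem_img (c.le h)).1 hk
    obtain ⟨w, rfl⟩ := piH_surj Rp v
    have hc := c.crit.comm_mem h w.2 hu
    have e : (u * w * u⁻¹ * (w : G)⁻¹) = ((w : G) * u * (w : G)⁻¹ * u⁻¹)⁻¹ := by group
    have hc' : u * w * u⁻¹ * (w : G)⁻¹ ∈ ws V p ⊓ ws V q := by rw [e]; exact inv_mem hc
    refine ⟨⟨_, hc'.1⟩, hc', ?_⟩
    change ofAdd (Rp.pi (u * w * u⁻¹ * (w : G)⁻¹)) = hm X M (Rp.rho u) (ofAdd (Rp.pi w)) * (ofAdd (Rp.pi w))⁻¹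
    rw [hm_ofAdd, Rp.smul_pi u (c.le h hu) w w.2,
      Rp.pi_mul _ (Rp.conj_mem (c.le h hu) w.2) _ (inv_mem w.2), Rp.pi_inv w.2]
    rfl
  obtain ⟨a, ha, e⟩ := hle hm'
  exact ⟨a, ha, e⟩

/-- `W_y`, `y ~ q`, centralizes the neighbour `p₁` of `p` -/
theorem comm_head (h : AbN T V z n) (hn : 2 ≤ n) {p₁ y : G} (hp₁ : Pt z p₁) (hw : Walk V (n - 1) p₁ q)
    (hy : Col V q y) : ws V y ≤ centralizer ({p₁} : Set G) := by
  obtain ⟨m, hm⟩ : ∃ m, n = m + 2 := ⟨n - 2, by omega⟩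
  have e1 : n - 1 = m + 1 := by omega
  rw [e1] at hw
  obtain ⟨p₂, h1, h2⟩ := hw.head
  have hp₂ : Pt z p₂ := by
    rcases h1 with rfl | h1
    · exact hp₁
    · exact h1.pt h.toGeoC
  have h3 : p₁ ∈ ws V p₂ := by
    rcases h1 with rfl | h1
    · exact self_mem_ws h.toGeoC hp₁
    · exact h1.symm.mem_ws
  have h4 : Walk V (m + 1) p₂ y := h2.step hy
  refine (comm_of_walk h hp₂ (by omega) h4).trans (centralizer_le ?_)
  rintro _ rfl
  exact h3

/-- **`C_M(J) = 0`** -/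
theorem bot (h : AbN T V z n) (hn : 2 ≤ n) (c : C1 V z n p q) (ap : At T V z p Rp J F)
    (aq : At T V z q Rq J F) : CS (hm X M) J = ⊥ := by
  by_contra hne
  obtain ⟨y, hqy, hy⟩ := c.exists_y h hn ap aq
  obtain ⟨p₁, hpp₁, hw₁⟩ := c.crit.head h
  have hp₁ : Pt z p₁ := hpp₁.pt h.toGeoC
  have hnat := c.nat h ap aq
  have hlam := ap.lam h.toAb hpp₁
  have hHy := ap.hy
  have hyp₁ : ws V y ≤ centralizer ({p₁} : Set G) := comm_head h hn hp₁ hw₁ hqy
  have hyq : ws V y ≤ centralizer (ws V q : Set G) := comm_of_walk h (c.pt' h) (by omega) hqy.walk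
  obtain ⟨g, hg, hp₁V, h', hD⟩ := exists_frame h.toAb hpp₁ (Base.ws_isPGroup h.toAb (c.pt' h)) (c.le h)
    (Crit.ws_comm_head h hpp₁ hw₁ |>.trans (centralizer_le (by
      rintro _ rfl; exact self_mem_ws h.toGeoC hp₁)))
  obtain ⟨A, hA⟩ : ∃ A, A = Rp.img (ws V q) := ⟨_, rfl⟩
  obtain ⟨S, hS⟩ : ∃ S, S = Rp.img (cj g T) := ⟨_, rfl⟩
  rw [← hA] at hnat
  have hAS : A ≤ S := by rw [hA, hS]; exact img_mono Rp hD
  have hS2 : IsPGroup 2 S := by rw [hS]; exact img_isPGroup Rp h'.two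
  have hSmem : ∀ s, s ∈ S ↔ ∃ t ∈ cj g T, Rp.rho t = s := fun s => by rw [hS, Rp.mem_img h'.T_le]
  -- `S` fixes `lam`
  have hSlam : ∀ s ∈ S, hm X M s (ofAdd (Rp.pi p₁)) = ofAdd (Rp.pi p₁) := by
    intro s hs
    obtain ⟨d, hd, rfl⟩ := (hSmem s).1 hs
    rw [hm_ofAdd, Rp.smul_pi d (h'.T_le hd) p₁ hpp₁.mem_ws]
    congr 1
    rw [Rep.pi_eq_pi h.toAb ap.pt Rp (Rp.conj_mem (h'.T_le hd) hpp₁.mem_ws) hpp₁.mem_ws]
    exact frame_move h' hp₁V hpp₁.2.1 (Ne.symm hpp₁.2.2.1) hd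
  -- `S` normalizes `A`
  have hSA : ∀ s ∈ S, ∀ a ∈ A, s * a * s⁻¹ ∈ A := by
    obtain ⟨e⟩ := hHy.iso
    have h1 : A = S ⊓ J := by
      apply Subgroup.eq_of_le_of_card_ge (le_inf hAS hnat.le)
      rw [hnat.card]
      exact card_le e inf_le_right (hS2.to_le inf_le_left)
    intro s hs a ha
    rw [h1] at ha ⊢
    exact ⟨S.mul_mem (S.mul_mem hs ha.1) (S.inv_mem hs), hHy.nrm.conj_mem a ha.2 s⟩
  have hSCM : ∀ s ∈ S, ∀ v ∈ CM (hm X M) A, hm X M s v ∈ CM (hm X M) A := by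
    intro s hs v hv
    have : CM (hm X M) A ≤ (CM (hm X M) A).comap (hm X M s : Multiplicative M →* Multiplicative M) := by
      refine CM_le fun k hk w => ?_
      change hm X M s (hm X M k w * w⁻¹) ∈ CM (hm X M) A
      have e : hm X M s (hm X M k w * w⁻¹) = hm X M (s * k * s⁻¹) (hm X M s w) * (hm X M s w)⁻¹ := by
        rw [map_mul, map_inv]
        congr 1
        rw [← MulAut.mul_apply, ← MulAut.mul_apply, ← map_mul, ← map_mul]; congr 2; group
      rw [e]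
      exact mem_CM (hSA s hs k hk) _
    exact this hv
  -- the contradiction
  have key : ∀ a ∈ ws V p, (∀ l ∈ J, l • Rp.pi a = Rp.pi a) → Rp.pi a ≠ 0 →
      (∀ s ∈ S, s • Rp.pi a = Rp.pi a) → ws V y ≤ centralizer ({a} : Set G) → False := by
    intro a ha haJ ha0 haS hya
    have ha1 : a ≠ 1 ∧ a ≠ p := by
      constructor
      · rintro rfl
        exact ha0 Rp.pi_one
      · rintro rfl
        exact ha0 (Rep.pi_self h.toAb ap.pt Rp)
    apply hy
    refine hya.trans (ap.rig a ha ha1.1 ha1.2 haJ g hg fun t ht => ?_)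
    have h2 := haS _ ((hSmem _).2 ⟨t, ht, rfl⟩)
    rw [Rp.smul_pi t (h'.T_le ht) a ha, Rep.pi_eq_pi h.toAb ap.pt Rp (Rp.conj_mem (h'.T_le ht) ha) ha] at h2
    exact h2
  have hyR : ∀ a ∈ ws V q, ws V y ≤ centralizer ({a} : Set G) := fun a ha w hw => by
    rw [mem_centralizer_singleton_iff]
    exact (mem_centralizer_iff.1 (hyq hw) a ha).symm
  by_cases hd : CM (hm X M) A ⊓ CS (hm X M) J = ⊥
  · obtain ⟨b, hb, hb1⟩ := hnat.exists_ne hHy
    have h1 : ofAdd (Rp.pi p₁) ∈ CS (hm X M) A := fun a ha => hSlam a (hAS ha)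
    rw [hnat.sup_eq hHy hb hb1, mem_sup] at h1
    obtain ⟨m, hm', r, hr, e⟩ := h1
    have hmCM : m ∈ CM (hm X M) A := by
      obtain ⟨v, rfl⟩ := hm'
      exact mem_CM hb v
    by_cases hr1 : r = 1
    · rw [hr1, mul_one] at e
      rw [e] at hmCM
      exact hne (hnat.bot_of_mem hlam hd hmCM)
    · rw [hA] at hmCM
      obtain ⟨a₀, ha₀, ea₀⟩ := c.exists_of_mem_CM h hmCM
      rw [← hA] at hmCM
      have hpa : ofAdd (Rp.pi (p₁ * a₀)) = r := by
        rw [Rp.pi_mul _ hpp₁.mem_ws _ ha₀.1]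
        change ofAdd (Rp.pi p₁) * ofAdd (Rp.pi a₀) = r
        rw [ea₀, ← e, mul_comm, ← mul_assoc, hHy.sq, one_mul]
      refine key (p₁ * a₀) (mul_mem hpp₁.mem_ws ha₀.1) ?_ ?_ ?_ ?_
      · intro l hl
        have h2 := hr l hl
        rw [← hpa] at h2
        exact ofAdd.injective h2
      · intro h2
        rw [h2] at hpa
        exact hr1 hpa.symm
      · intro s hs
        have h2 : hm X M s r = r := by
          have h3 := hSlam s hs
          rw [← e, map_mul] at h3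
          have h4 : hm X M s m * m⁻¹ = r * (hm X M s r)⁻¹ := by
            rw [eq_mul_inv_iff_mul_eq, mul_assoc, mul_comm m⁻¹, ← mul_assoc, h3, mul_comm m r, mul_inv_cancel_right]
          have h5 : hm X M s m * m⁻¹ ∈ CM (hm X M) A ⊓ CS (hm X M) J := by
            refine ⟨Subgroup.mul_mem _ (hSCM s hs m hmCM) (Subgroup.inv_mem _ hmCM), ?_⟩
            rw [h4]
            exact Subgroup.mul_mem _ hr (Subgroup.inv_mem _ (hHy.inv_CS s r hr))
          rw [hd, mem_bot, h4, mul_inv_eq_one] at h5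
          exact h5.symm
        rw [← hpa] at h2
        exact ofAdd.injective h2
      · intro w hw
        rw [mem_centralizer_singleton_iff]
        have h2 := mem_centralizer_singleton_iff.1 (hyp₁ hw)
        have h3 := mem_centralizer_singleton_iff.1 (hyR a₀ ha₀.2 hw)
        rw [← mul_assoc, h2, mul_assoc, h3, mul_assoc]
  · have hinv : ∀ s ∈ S, ∀ w ∈ CM (hm X M) A ⊓ CS (hm X M) J, hm X M s w ∈ CM (hm X M) A ⊓ CS (hm X M) J :=
      fun s hs w hw => ⟨hSCM s hs w hw.1, hHy.inv_CS s w hw.2⟩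
    obtain ⟨w, hw, hw1, hwS⟩ := EmpC.exists_fixed hHy.sq hS2 hinv hd
    have hw2 := hw.1
    rw [hA] at hw2
    obtain ⟨a₀, ha₀, ea₀⟩ := c.exists_of_mem_CM h hw2
    refine key a₀ ha₀.1 ?_ ?_ ?_ (hyR a₀ ha₀.2)
    · intro l hl
      have h2 := hw.2 l hl
      rw [← ea₀] at h2
      exact ofAdd.injective h2
    · intro h2
      rw [h2] at ea₀
      exact hw1 ea₀.symm
    · intro s hs
      have h2 := hwS s hs
      rw [← ea₀] at h2
      exact ofAdd.injective h2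

end C1

end Cfsg.Agent.OddCyclic.EN.NatTwo
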