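import Cfsg.Agent.OddCyclic.EN.NatTwo.Adj
import Cfsg.Agent.OddCyclic.CycConj

/-!
# (E1), type `(A_q)`, distance at least two: the end of case 1
-/

set_option autoImplicit false
set_option linter.unusedSectionVars false
set_option linter.style.haveILetI false

namespace Cfsg.Agent.OddCyclic.EN.NatTwo

open Subgroup Cfsg Cfsg.Agent.ZN Cfsg.Agent.MinSimple.Geo Cfsg.Agent.OddCyclic.GeoC Cfsg.Agent.OddCyclic.BTwoA
  Cfsg.Agent.OddCyclic.EN.Line Cfsg.Agent.OddCyclic.EN.Base Cfsg.Agent.MinSimple.SecRep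
  Cfsg.Agent.OddCyclic.EN.RepM Cfsg.Agent.OddCyclic.EN.Perm Cfsg.Agent.OddCyclic.EN.OneCount
open Cfsg.Agent.OddCyclic.T1Module Cfsg.Agent.OddCyclic.FFBasic
open Cfsg.Agent.ZN.Block (conj_mem_of_normalizer conj_mem_of_normalizer' le_normalizer_of_forall
  mem_normalizer_of)
open Multiplicative (ofAdd toAdd)
open Cfsg.Agent.OddCyclic.EmpC (CM mem_CM CM_le)

universe u

/-- the four-group generated by two commuting involutions -/
def ff {G : Type u} [Group G] (y r : G) (hy : y * y = 1) (hr : r * r = 1) (hyr : y * r = r * y) : Subgroup G where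
  carrier := {s | s = 1 ∨ s = y ∨ s = r ∨ s = y * r}
  one_mem' := Or.inl rfl
  mul_mem' := by
    have e1 : ∀ s, y * (y * s) = s := fun s => by rw [← mul_assoc, hy, one_mul]
    have e4 : r * (y * r) = y := by rw [hyr, ← mul_assoc, hr, one_mul]
    rintro a b (ha | ha | ha | ha) (hb | hb | hb | hb) <;> rw [ha, hb] <;>
      simp only [Set.mem_ofPred_eq, mul_assoc, one_mul, mul_one, hy, hr, e1, e4, hyr.symm, true_or, or_true]
  inv_mem' := by
    have h1 : y⁻¹ = y := inv_eq_of_mul_eq_one_left hy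
    have h2 : r⁻¹ = r := inv_eq_of_mul_eq_one_left hr
    rintro a (ha | ha | ha | ha) <;> rw [ha]
    · left; exact inv_one
    · right; left; exact h1
    · right; right; left; exact h2
    · right; right; right
      rw [mul_inv_rev, h1, h2, hyr]

theorem mem_ff {G : Type u} [Group G] {y r : G} {hy : y * y = 1} {hr : r * r = 1} {hyr : y * r = r * y} {s : G} :
    s ∈ ff y r hy hr hyr ↔ s = 1 ∨ s = y ∨ s = r ∨ s = y * r := Iff.rfl

variable {G : Type u} [Group G] [Finite G] {T V : Subgroup G} {z x y p q : G} {n : ℕ}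
  {M X : Type u} [AddCommGroup M] [Group X] [DistribMulAction X M] [Finite M] [Finite X]
  {F : Type} [Field F] [Fintype F] [CharP F 2] {J : Subgroup X}
  {R : Rep V x M X} {Rp : Rep V p M X} {Rq : Rep V q M X}

theorem mem_normalizer_fin {S : Subgroup G} {c : G} (h : ∀ s ∈ S, c * s * c⁻¹ ∈ S) :
    c ∈ normalizer (S : Set G) := by
  refine mem_normalizer_of h fun s hs => ?_
  have h1 : cj c S = S := by
    refine Subgroup.eq_of_le_of_card_ge ?_ (card_cj c S).ge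
    intro s hs
    rw [mem_cj] at hs
    have := h _ hs
    have e : c * (c⁻¹ * s * c) * c⁻¹ = s := by group
    rwa [e] at this
  rw [← h1, mem_cj] at hs
  exact hs

theorem mem_normalizer_fin' {S : Subgroup G} {c : G} (h : S ≤ cj c S) : c ∈ normalizer (S : Set G) := by
  have h1 : S = cj c S := Subgroup.eq_of_le_of_card_ge h (card_cj c S).le
  refine mem_normalizer_fin fun s hs => ?_
  rw [h1]; exact conj_mem_cj hs

theorem col_mul (h : GeoC T V z) (hc : Col V x y) : Col V x (x * y) := by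
  have hxx := Base.Pt.sq h (hc.pt_left h)
  obtain ⟨h1, h2, h3, L, hL, hy⟩ := hc
  refine ⟨h1, fun e => h3 ?_, fun e => h2 ?_, L, hL, mul_mem hL.2 hy⟩
  · exact (mul_left_cancel (hxx.trans e.symm))
  · exact (mul_eq_left.1 e.symm)

theorem exists_col (h : Ab T V z) (hx : Pt z x) : ∃ y, Col V x y := by
  obtain ⟨g, rfl⟩ := hx
  obtain ⟨y, hy, hy1, hyz⟩ := h.toGeoC.exists_y
  exact ⟨_, (col_of_mem h.toGeoC h.z_mem hy h.z_ne hy1 (Ne.symm hyz)).conj g⟩

/-- every involution of `ws V x` is on a line through `x` -/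
theorem At.col (h : Ab T V z) (a : At T V z x R J F) {A : Subgroup X} (hn : NatA (hm X M) J F A)
    (h0 : CS (hm X M) J = ⊥) {w : G} (hw : w ∈ ws V x) (hw1 : w ≠ 1) (hwx : w ≠ x) : Col V x w := by
  obtain ⟨y, hy⟩ := exists_col h a.pt
  have hlam := a.lam h hy
  have hv : ofAdd (R.pi w) ≠ 1 := by
    intro e
    have e1 : R.pi w = 0 := ofAdd.injective e
    rw [Rep.pi_eq_zero' h a.pt R hw] at e1
    exact e1.elim hw1 hwx
  obtain ⟨l, hl, e⟩ := hn.trans hlam h0 hv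
  obtain ⟨c, hc, rfl⟩ := R.rho_surj l
  rw [hm_ofAdd, R.smul_pi c hc y hy.mem_ws] at e
  have e1 : R.pi (c * y * c⁻¹) = R.pi w := ofAdd.injective e
  have hcx : c * x * c⁻¹ = x := by
    rw [mem_centralizer_singleton_iff.1 hc, mul_inv_cancel_right]
  have h1 : Col V x (c * y * c⁻¹) := by
    have := hy.conj c
    rwa [hcx] at this
  rw [Rep.pi_eq_pi h a.pt R h1.mem_ws hw] at e1
  rcases e1 with e1 | e1
  · rwa [e1] at h1
  · have e2 : w = x * (c * y * c⁻¹) := by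
      rw [e1, ← mul_assoc, Base.Pt.sq h.toGeoC a.pt, one_mul]
    rw [e2]; exact col_mul h.toGeoC h1

namespace C1

theorem exists_of_mem_CS (h : AbN T V z n) (c : C1 V z n p q) (ap : At T V z p Rp J F)
    (aq : At T V z q Rq J F) (h0 : CS (hm X M) J = ⊥) {m : Multiplicative M}
    (hm' : m ∈ CS (hm X M) (Rp.img (ws V q))) : ∃ a ∈ ws V p ⊓ ws V q, ofAdd (Rp.pi a) = m := by
  have hnat := c.nat h ap aq
  obtain ⟨b, hb, hb1⟩ := hnat.exists_ne ap.hy
  rw [← hnat.range_eq ap.hy h0 hb hb1] at hm'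
  refine c.exists_of_mem_CM h ?_
  obtain ⟨w, rfl⟩ := hm'
  exact mem_CM hb w

/-- **case 1** -/
theorem false (h : AbN T V z n) (hn : 2 ≤ n) (hall : ∀ p q, Crit V z n p q → q ∉ ws V p)
    (a : At T V z x R J F) : False := by
  obtain ⟨p, q, hp, hw, hab⟩ := h.crit
  have hC1 : ∀ {p q}, Crit V z n p q → C1 V z n p q := fun hc => ⟨hc, hall _ _ hc, hall _ _ (hc.symm h.toAb)⟩
  have c : C1 V z n p q := hC1 ⟨hp, hw, hab⟩
  have cs := c.symm h
  obtain ⟨Rp, ap⟩ := a.exists c.pt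
  obtain ⟨Rq, aq⟩ := a.exists (c.pt' h)
  have h0 := c.bot h hn ap aq
  have hnat0 := c.nat h ap aq
  have hcol : ∀ {x w : G}, Pt z x → w ∈ ws V x → w ≠ 1 → w ≠ x → Col V x w := by
    intro x w hx hw hw1 hwx
    obtain ⟨R', a'⟩ := a.exists hx
    exact a'.col h.toAb hnat0 h0 hw hw1 hwx
  have hself : ∀ {x}, Pt z x → x ∈ ws V x := fun hx => self_mem_ws h.toGeoC hx
  have hRp : ∀ {r}, r ∈ ws V p ⊓ ws V q → r ≠ 1 → Col V p r := fun hr hr1 =>
    hcol hp hr.1 hr1 (fun e => c.hpq (by rw [← e]; exact hr.2))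
  have hRq : ∀ {r}, r ∈ ws V p ⊓ ws V q → r ≠ 1 → Col V q r := fun hr hr1 =>
    hcol (c.pt' h) hr.2 hr1 (fun e => c.hqp (by rw [← e]; exact hr.1))
  -- n = 2
  have hn2 : n = 2 := by
    obtain ⟨u, hu, v, hv, huv⟩ := hab
    have hr := c.crit.comm_mem h hu hv
    have hr1 : u * v * u⁻¹ * v⁻¹ ≠ 1 := fun e => huv (by
      calc u * v = (u * v * u⁻¹ * v⁻¹) * (v * u) := by group
        _ = v * u := by rw [e, one_mul])
    by_contra hne
    have h2n : 2 < n := by omega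
    exact c.crit.not_walk h h2n ((hRp hr hr1).walk.step (hRq hr hr1).symm)
  subst hn2
  obtain ⟨y, hqy, hy⟩ := c.exists_y h hn ap aq
  have hpy : Pt z y := hqy.pt h.toGeoC
  have hyr : ∀ r ∈ ws V p ⊓ ws V q, r ≠ 1 → C1 V z 2 y r := by
    intro r hr hr1
    refine hC1 ⟨hpy, hqy.symm.walk.step (hRq hr hr1), ?_⟩
    obtain ⟨w, hw, hwp⟩ := SetLike.not_le_iff_exists.1 hy
    exact ⟨w, hw, p, (hRp hr hr1).symm.mem_ws, fun e => hwp (mem_centralizer_singleton_iff.2 e)⟩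
  have hyW : y ∈ ws V q := hqy.mem_ws
  have hqWy : q ∈ ws V y := hqy.symm.mem_ws
  have hqq := Base.Pt.sq h.toGeoC (c.pt' h)
  have hqy' : ∀ r ∈ ws V p ⊓ ws V q, r ≠ 1 → r ≠ q * y := by
    intro r hr hr1 e
    exact (hyr r hr hr1).hqp (by rw [e]; exact mul_mem hqWy (hself hpy))
  have hnat := cs.nat h aq ap
  have hyA : ofAdd (Rq.pi y) ∉ CS (hm X M) (Rq.img (ws V p)) := by
    intro h1
    obtain ⟨s, hs, e⟩ := cs.exists_of_mem_CS h aq ap h0 h1
    have e1 := ofAdd.injective e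
    rw [Rep.pi_eq_pi h.toAb aq.pt Rq hs.1 hyW] at e1
    rcases e1 with e1 | e1
    · exact (hyr s ⟨hs.2, hs.1⟩ (by rw [e1]; exact hqy.2.1)).hqp (by rw [e1]; exact hself hpy)
    · exact hqy' s ⟨hs.2, hs.1⟩ (by rw [e1]; exact (col_mul h.toGeoC hqy).2.1) e1
  obtain ⟨g, hgJ, hg3, hgv, hgg⟩ := hnat.three aq.hy h0 hyA
  obtain ⟨r, hr, er⟩ := cs.exists_of_mem_CS h aq ap h0 hgv
  obtain ⟨c0, hc0, rfl⟩ := Rq.rho_surj g
  have hrW : r ∈ ws V q := hr.1
  have hyrW : y * r ∈ ws V q := mul_mem hyW hrW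
  have ey : Rq.pi (c0 * y * c0⁻¹) = Rq.pi r := by
    rw [hm_ofAdd, Rq.smul_pi c0 hc0 y hyW] at er
    exact (ofAdd.injective er).symm
  have eyr : Rq.pi (c0 * r * c0⁻¹) = Rq.pi (y * r) := by
    rw [← er, hm_ofAdd, Rq.smul_pi c0 hc0 r hrW] at hgg
    have := ofAdd.injective (hgg.trans (ofAdd_add _ _).symm)
    rw [this, Rq.pi_mul y hyW r hrW]
  have hr1 : r ≠ 1 := by
    rintro rfl
    rw [Rq.pi_one, Rep.pi_eq_zero' h.toAb aq.pt Rq (Rq.conj_mem hc0 hyW)] at ey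
    rcases ey with e | e
    · apply hqy.2.1
      calc y = c0⁻¹ * (c0 * y * c0⁻¹) * c0 := by group
        _ = 1 := by rw [e]; group
    · apply hqy.2.2.1
      have e0 : c0 * q = q * c0 := mem_centralizer_singleton_iff.1 hc0
      have e1 : c0⁻¹ * q * c0 = q := by rw [mul_assoc, ← e0]; group
      calc q = c0⁻¹ * q * c0 := e1.symm
        _ = c0⁻¹ * (c0 * y * c0⁻¹) * c0 := by rw [e]
        _ = y := by group
  have hrR : r ∈ ws V p ⊓ ws V q := ⟨hr.2, hr.1⟩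
  have cyr := hyr r hrR hr1
  have hyy := Base.Pt.sq h.toGeoC hpy
  have hrr := Base.ws_sq h.toAb aq.pt hrW
  have hyrc : y * r = r * y := ws_comm h.toAb aq.pt hyW hrW
  obtain ⟨S1, hS1⟩ : ∃ S1, S1 = ff y r hyy hrr hyrc := ⟨_, rfl⟩
  have hS1m : ∀ s, s ∈ S1 ↔ s = 1 ∨ s = y ∨ s = r ∨ s = y * r := fun s => by rw [hS1, mem_ff]
  have hS1W : S1 ≤ ws V q := by
    intro s hs
    rcases (hS1m s).1 hs with rfl | rfl | rfl | rfl
    · exact one_mem _
    · exact hyW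
    · exact hrW
    · exact hyrW
  have hqS1 : q ∉ S1 := by
    intro hq
    rcases (hS1m q).1 hq with e | e | e | e
    · exact hqy.1 e
    · exact hqy.2.2.1 e
    · exact (hRq hrR hr1).2.2.1 e
    · refine hqy' r hrR hr1 ?_
      rw [e]
      calc r = y * y * r := by rw [hyy, one_mul]
        _ = y * (y * r) := by rw [mul_assoc]
        _ = y * (r * y) := by rw [hyrc]
        _ = y * r * y := by rw [mul_assoc]
  have hcq : ∀ s ∈ S1, c0 * s * c0⁻¹ ∈ S1 ∨ q * (c0 * s * c0⁻¹) ∈ S1 := by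
    have h1 : c0 * y * c0⁻¹ ∈ S1 ∨ q * (c0 * y * c0⁻¹) ∈ S1 := by
      rw [Rep.pi_eq_pi h.toAb aq.pt Rq (Rq.conj_mem hc0 hyW) hrW] at ey
      rcases ey with e | e
      · left; rw [e, hS1m]; right; right; left; rfl
      · right; rw [e, ← mul_assoc, hqq, one_mul, hS1m]; right; right; left; rfl
    have h2 : c0 * r * c0⁻¹ ∈ S1 ∨ q * (c0 * r * c0⁻¹) ∈ S1 := by
      rw [Rep.pi_eq_pi h.toAb aq.pt Rq (Rq.conj_mem hc0 hrW) hyrW] at eyr
      rcases eyr with e | e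
      · left; rw [e, hS1m]; right; right; right; rfl
      · right; rw [e, ← mul_assoc, hqq, one_mul, hS1m]; right; right; right; rfl
    intro s hs
    rcases (hS1m s).1 hs with rfl | rfl | rfl | rfl
    · left; rw [mul_one, mul_inv_cancel]; exact one_mem _
    · exact h1
    · exact h2
    · have e : c0 * (y * r) * c0⁻¹ = (c0 * y * c0⁻¹) * (c0 * r * c0⁻¹) := by group
      have hc1 : ∀ {w}, w ∈ ws V q → q * w = w * q := fun hw =>
        ws_comm h.toAb aq.pt (hself aq.pt) hw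
      have hcy : q * (c0 * y * c0⁻¹) = (c0 * y * c0⁻¹) * q := hc1 (Rq.conj_mem hc0 hyW)
      rw [e]
      rcases h1 with h1 | h1 <;> rcases h2 with h2 | h2
      · left; exact mul_mem h1 h2
      · right
        rw [← mul_assoc, hcy, mul_assoc]
        exact mul_mem h1 h2
      · right
        rw [← mul_assoc]
        exact mul_mem h1 h2
      · left
        have := mul_mem h1 h2
        have e2 : q * (c0 * y * c0⁻¹) * (q * (c0 * r * c0⁻¹)) = (c0 * y * c0⁻¹) * (c0 * r * c0⁻¹) := by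
          rw [hcy, mul_assoc, ← mul_assoc q q, hqq, one_mul]
        rwa [e2] at this
  obtain ⟨k, hk, hkS⟩ := aq.adjust h.toAb h0 hS1W hqS1 hc0 hcq
  have hkC : k ∈ centralizer ({q} : Set G) := (mem_kq'.1 hk).1
  obtain ⟨c1, hc1⟩ : ∃ c1, c1 = k * c0 := ⟨_, rfl⟩
  rw [← hc1] at hkS
  have hc1C : c1 ∈ centralizer ({q} : Set G) := by rw [hc1]; exact mul_mem hkC hc0
  have hc1r : Rq.rho c1 = Rq.rho c0 := by
    rw [hc1, Rq.rho_mul _ hkC _ hc0, (Rep.rho_eq_one Rq hkC).2 hk, one_mul]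
  obtain ⟨m, hm3, -, -⟩ := aq.three_part hc1C (by rw [hc1r]; exact hg3)
  -- `S`
  obtain ⟨S, hS⟩ : ∃ S, S = ws V y ⊓ ws V r := ⟨_, rfl⟩
  have hSm : ∀ s, s ∈ S ↔ s ∈ ws V y ∧ s ∈ ws V r := fun s => by rw [hS, mem_inf]
  have hpr : Pt z r := cyr.pt' h
  have hSW : ∀ w ∈ S1, w ≠ 1 → S ≤ ws V w := by
    intro w hw hw1 s hs
    rw [hSm] at hs
    by_cases hs1 : s = 1
    · rw [hs1]; exact one_mem _
    have hsy : Col V y s := hcol hpy hs.1 hs1 (fun e => cyr.hpq (by rw [← e]; exact hs.2))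
    have hsr : Col V r s := hcol hpr hs.2 hs1 (fun e => cyr.hqp (by rw [← e]; exact hs.1))
    rcases (hS1m w).1 hw with e | e | e | e
    · exact absurd e hw1
    · rw [e]; exact hs.1
    · rw [e]; exact hs.2
    · refine (hcol (hsy.pt h.toGeoC) (w := w) ?_ hw1 ?_).symm.mem_ws
      · rw [e]; exact mul_mem hsy.symm.mem_ws hsr.symm.mem_ws
      · intro e2
        apply cyr.hqp
        have e3 : r = y * s := by rw [← e2, e, ← mul_assoc, hyy, one_mul]
        rw [e3]; exact mul_mem (hself hpy) hs.1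
  have hyS1 : y ∈ S1 := (hS1m y).2 (Or.inr (Or.inl rfl))
  have hrS1 : r ∈ S1 := (hS1m r).2 (Or.inr (Or.inr (Or.inl rfl)))
  have hc1N : c1 ∈ normalizer (S : Set G) := by
    refine mem_normalizer_fin' ?_
    intro s hs
    rw [mem_cj, hSm]
    have e1 := hSW _ (hkS y hyS1) (conj_ne_one hqy.2.1) hs
    have e2 := hSW _ (hkS r hrS1) (conj_ne_one hr1) hs
    rw [← cj_ws, mem_cj] at e1 e2
    exact ⟨e1, e2⟩
  have hg'N : c1 ^ m ∈ normalizer (S : Set G) := pow_mem hc1N m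
  have hg'q : c1 ^ m ∈ centralizer ({q} : Set G) := pow_mem hc1C m
  have hqS : q ∈ S := (hSm q).2 ⟨hqWy, (hRq hrR hr1).symm.mem_ws⟩
  -- the torus at `y`
  obtain ⟨Ry, ay⟩ := a.exists hpy
  obtain ⟨Rr, ar⟩ := a.exists hpr
  have hnY := cyr.nat h ay ar
  obtain ⟨e⟩ := ay.hy.iso
  obtain ⟨t, htJ, ht3, htA⟩ := hnY.toIsU.torus e ay.hy.om
  obtain ⟨c2, hc2, rfl⟩ := Ry.rho_surj t
  have hyS : y ∉ S := fun h1 => cyr.hpq ((hSm y).1 h1).2
  have hSy : S ≤ ws V y := by rw [hS]; exact inf_le_left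
  have hc2S : ∀ s ∈ S, c2 * s * c2⁻¹ ∈ S ∨ y * (c2 * s * c2⁻¹) ∈ S := by
    intro s hs
    have hs' := (hSm s).1 hs
    have h1 : ofAdd (Ry.pi s) ∈ CS (hm X M) (Ry.img (ws V r)) := by
      intro b hb
      obtain ⟨u, hu, rfl⟩ := (Ry.mem_img (cyr.le h)).1 hb
      rw [hm_ofAdd, Ry.smul_pi u (cyr.le h hu) s hs'.1, ws_comm h.toAb hpr hu hs'.2, mul_inv_cancel_right]
    have h2 : hm X M (Ry.rho c2) (ofAdd (Ry.pi s)) ∈ CS (hm X M) (Ry.img (ws V r)) := by
      intro b hb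
      have hb' : (Ry.rho c2)⁻¹ * b * Ry.rho c2 ∈ Ry.img (ws V r) := by
        rw [← htA, mem_cj] at hb
        exact hb
      have h3 := h1 _ hb'
      calc hm X M b (hm X M (Ry.rho c2) (ofAdd (Ry.pi s))) =
            hm X M (Ry.rho c2) (hm X M ((Ry.rho c2)⁻¹ * b * Ry.rho c2) (ofAdd (Ry.pi s))) := by
              rw [← MulAut.mul_apply, ← MulAut.mul_apply, ← map_mul, ← map_mul]; congr 2; group
        _ = _ := by rw [h3]
    rw [hm_ofAdd, Ry.smul_pi c2 hc2 s hs'.1] at h2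
    obtain ⟨s', hs'', e'⟩ := cyr.exists_of_mem_CS h ay ar h0 h2
    have e1 := ofAdd.injective e'
    rw [Rep.pi_eq_pi h.toAb ay.pt Ry hs''.1 (Ry.conj_mem hc2 hs'.1)] at e1
    rcases e1 with e1 | e1
    · left; rw [← e1, hSm]; exact hs''
    · right; rw [← e1, hSm]; exact hs''
  obtain ⟨k2, hk2, hk2S⟩ := ay.adjust h.toAb h0 hSy hyS hc2 hc2S
  have hk2C : k2 ∈ centralizer ({y} : Set G) := (mem_kq'.1 hk2).1
  obtain ⟨c3, hc3⟩ : ∃ c3, c3 = k2 * c2 := ⟨_, rfl⟩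
  rw [← hc3] at hk2S
  have hc3C : c3 ∈ centralizer ({y} : Set G) := by rw [hc3]; exact mul_mem hk2C hc2
  have hc3r : Ry.rho c3 = Ry.rho c2 := by
    rw [hc3, Ry.rho_mul _ hk2C _ hc2, (Rep.rho_eq_one Ry hk2C).2 hk2, one_mul]
  obtain ⟨m2, hm23, hm23', -⟩ := ay.three_part hc3C (by rw [hc3r]; exact ht3)
  have ht'N : c3 ^ m2 ∈ normalizer (S : Set G) := pow_mem (mem_normalizer_fin hk2S) m2
  -- `c3 ^ m2` is fixed point free on `S`
  have hfpf : ∀ s ∈ S, s ≠ 1 → c3 ^ m2 * s * (c3 ^ m2)⁻¹ ≠ s := by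
    intro s hs hs1 e1
    have hs' := (hSm s).1 hs
    have hC := pow_mem hc3C m2
    have h1 : hm X M (Ry.rho (c3 ^ m2)) (ofAdd (Ry.pi s)) = ofAdd (Ry.pi s) := by
      rw [hm_ofAdd, Ry.smul_pi _ hC s hs'.1, e1]
    have h2 : Ry.rho (c3 ^ m2) ∈ J := by
      have : Ry.rho (c3 ^ m2) = Ry.rho c3 ^ m2 := map_pow Ry.hom ⟨c3, hc3C⟩ m2
      rw [this, hc3r]
      exact pow_mem htJ m2
    have h3 := hnY.fpf ay.hy h2 (by rw [hm23']; decide) (by
      intro e2
      rw [e2, orderOf_one] at hm23'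
      norm_num at hm23') h1
    rw [h0, mem_bot] at h3
    have h4 : Ry.pi s = 0 := ofAdd.injective h3
    rw [Rep.pi_eq_zero' h.toAb ay.pt Ry hs'.1] at h4
    rcases h4 with h4 | h4
    · exact hs1 h4
    · exact hyS (by rw [← h4]; exact hs)
  obtain ⟨w, hw, hwz⟩ := CycConj.zpowers_conj h.cyc 3 (normalizer (S : Set G)) _ _ ht'N hg'N hm23 hm3 (by decide)
  have hwq : w * q * w⁻¹ ∈ S := conj_mem_of_normalizer le_rfl hw hqS
  refine hfpf _ hwq (conj_ne_one hqy.1) ?_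
  have h1 : c3 ^ m2 ∈ zpowers (w * c1 ^ m * w⁻¹) := by rw [hwz]; exact mem_zpowers _
  have h2 : w * c1 ^ m * w⁻¹ ∈ centralizer ({w * q * w⁻¹} : Set G) := by
    rw [mem_centralizer_singleton_iff] at hg'q ⊢
    calc w * c1 ^ m * w⁻¹ * (w * q * w⁻¹) = w * (c1 ^ m * q) * w⁻¹ := by group
      _ = w * (q * c1 ^ m) * w⁻¹ := by rw [hg'q]
      _ = w * q * w⁻¹ * (w * c1 ^ m * w⁻¹) := by group
  have h3 : c3 ^ m2 ∈ centralizer ({w * q * w⁻¹} : Set G) := (zpowers_le.2 h2) h1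
  rw [mem_centralizer_singleton_iff] at h3
  rw [h3, mul_inv_cancel_right]

end C1

end Cfsg.Agent.OddCyclic.EN.NatTwo
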