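import Cfsg.Agent.OddCyclic.EN.NatTwo.Defs

/-!
# (E1), type `(A_q)`, distance at least two: sections

`pw R U`: the preimage in `ws V x` of a subgroup `U` of `M = ws V x / ⟨x⟩`.
-/

set_option autoImplicit false
set_option linter.unusedSectionVars false
set_option linter.style.haveILetI false

namespace Cfsg.Agent.OddCyclic.EN.NatTwo

open Subgroup Cfsg Cfsg.Agent.ZN Cfsg.Agent.MinSimple.Geo Cfsg.Agent.OddCyclic.GeoC Cfsg.Agent.OddCyclic.BTwoA
  Cfsg.Agent.OddCyclic.EN.Line Cfsg.Agent.OddCyclic.EN.Base Cfsg.Agent.MinSimple.SecRep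
  Cfsg.Agent.OddCyclic.EN.RepM Cfsg.Agent.OddCyclic.EN.Perm
open Cfsg.Agent.OddCyclic.T1Module Cfsg.Agent.OddCyclic.FFBasic
open Cfsg.Agent.ZN.Block (conj_mem_of_normalizer conj_mem_of_normalizer' le_normalizer_of_forall
  mem_normalizer_of)
open Multiplicative (ofAdd toAdd)

universe u

variable {G : Type u} [Group G] [Finite G] {T V : Subgroup G} {z x y : G}
  {M X : Type u} [AddCommGroup M] [Group X] [DistribMulAction X M] {F : Type} [Field F] [Fintype F] [CharP F 2]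
  {R : Rep V x M X} {J : Subgroup X}

/-- `π` as a homomorphism -/
def piH (R : Rep V x M X) : ws V x →* Multiplicative M where
  toFun w := ofAdd (R.pi w)
  map_one' := by
    change ofAdd (R.pi 1) = 1
    rw [R.pi_one]; rfl
  map_mul' a b := by
    change ofAdd (R.pi (a * b)) = ofAdd (R.pi a) * ofAdd (R.pi b)
    rw [R.pi_mul a a.2 b b.2]; rfl

theorem piH_surj (R : Rep V x M X) : Function.Surjective (piH R) := by
  intro m
  obtain ⟨w, hw, h⟩ := R.pi_surj m.toAdd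
  exact ⟨⟨w, hw⟩, congrArg ofAdd h⟩

/-- the preimage in `ws V x` of a subgroup of `M` -/
def pw (R : Rep V x M X) (U : Subgroup (Multiplicative M)) : Subgroup G := (U.comap (piH R)).map (ws V x).subtype

theorem mem_pw {U : Subgroup (Multiplicative M)} {w : G} : w ∈ pw R U ↔ w ∈ ws V x ∧ ofAdd (R.pi w) ∈ U := by
  constructor
  · rintro ⟨a, ha, rfl⟩
    exact ⟨a.2, ha⟩
  · rintro ⟨hw, h⟩
    exact ⟨⟨w, hw⟩, h, rfl⟩

theorem pw_le (R : Rep V x M X) (U : Subgroup (Multiplicative M)) : pw R U ≤ ws V x := fun _ h => (mem_pw.1 h).1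

theorem relIndex_pw (R : Rep V x M X) (U : Subgroup (Multiplicative M)) : (pw R U).relIndex (ws V x) = U.index := by
  have h1 : (pw R U).subgroupOf (ws V x) = U.comap (piH R) := by
    ext w
    rw [mem_subgroupOf, mem_pw]
    exact ⟨fun h => h.2, fun h => ⟨w.2, h⟩⟩
  rw [Subgroup.relIndex, h1, index_comap_of_surjective _ (piH_surj R)]

theorem comap_relIndex_pw (R : Rep V x M X) {U U' : Subgroup (Multiplicative M)} :
    (pw R U).relIndex (pw R U') = U.relIndex U' := by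
  rw [pw, pw, relIndex_map_map_of_injective _ _ (ws V x).subtype_injective, relIndex_comap,
    map_comap_eq_self_of_surjective (piH_surj R)]

theorem pw_mono {U U' : Subgroup (Multiplicative M)} (h : U ≤ U') : pw R U ≤ pw R U' := fun _ hw =>
  mem_pw.2 ⟨(mem_pw.1 hw).1, h (mem_pw.1 hw).2⟩

theorem zpowers_le_pw (h : Ab T V z) (hx : Pt z x) (R : Rep V x M X) (U : Subgroup (Multiplicative M)) :
    zpowers x ≤ pw R U := by
  rw [zpowers_le, mem_pw]
  refine ⟨self_mem_ws h.toGeoC hx, ?_⟩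
  rw [Rep.pi_self h hx R]
  exact one_mem U

/-- the vectors fixed by the image of `D` -/
theorem mem_pw_CS (h : Ab T V z) (hx : Pt z x) {D : Subgroup G} (hD : D ≤ centralizer ({x} : Set G)) {w : G} :
    w ∈ pw R (CS (hm X M) (R.img D)) ↔ w ∈ ws V x ∧ ∀ d ∈ D, d * w * d⁻¹ = w ∨ d * w * d⁻¹ = x * w := by
  rw [mem_pw]
  refine and_congr_right fun hw => ?_
  constructor
  · intro h1 d hd
    have h2 := h1 _ (R.rho_mem_img hD hd)
    rw [hm_ofAdd] at h2
    have h3 : R.rho d • R.pi w = R.pi w := ofAdd.injective h2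
    rw [R.smul_pi d (hD hd) w hw, Rep.pi_eq_pi h hx R (R.conj_mem (hD hd) hw) hw] at h3
    exact h3
  · intro h1 a ha
    obtain ⟨d, hd, rfl⟩ := (R.mem_img hD).1 ha
    rw [hm_ofAdd]
    congr 1
    rw [R.smul_pi d (hD hd) w hw, Rep.pi_eq_pi h hx R (R.conj_mem (hD hd) hw) hw]
    exact h1 d hd

theorem mem_pw_CS' (h : Ab T V z) (hx : Pt z x) {A : Subgroup X} {w : G} :
    w ∈ pw R (CS (hm X M) A) ↔ w ∈ ws V x ∧ ∀ l ∈ A, l • R.pi w = R.pi w := by
  rw [mem_pw]
  refine and_congr_right fun _ => ?_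
  constructor
  · intro h1 l hl
    exact ofAdd.injective (h1 l hl)
  · intro h1 l hl
    exact congrArg ofAdd (h1 l hl)

/-- the order of the image -/
theorem card_img (R : Rep V x M X) {D : Subgroup G} (hD : D ≤ centralizer ({x} : Set G)) :
    Nat.card (R.img D) = (kq V x).relIndex D := by
  have h1 : (R.hom.comp (inclusion hD)).ker = (kq V x).subgroupOf D := by
    ext d
    rw [MonoidHom.mem_ker, mem_subgroupOf]
    exact Rep.rho_eq_one R (hD d.2)
  have h2 : R.img D = (R.hom.comp (inclusion hD)).range := by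
    ext a
    rw [R.mem_img hD]
    constructor
    · rintro ⟨d, hd, rfl⟩
      exact ⟨⟨d, hd⟩, rfl⟩
    · rintro ⟨d, rfl⟩
      exact ⟨d, d.2, rfl⟩
  rw [h2, ← index_ker, h1]; rfl

theorem img_isPGroup (R : Rep V x M X) {D : Subgroup G} (hD : IsPGroup 2 D) : IsPGroup 2 (R.img D) := by
  have h1 : IsPGroup 2 (D.subgroupOf (centralizer ({x} : Set G))) := hD.comap_of_injective _ (subtype_injective _)
  exact h1.map _

theorem img_mono (R : Rep V x M X) {D D' : Subgroup G} (h : D ≤ D') : R.img D ≤ R.img D' :=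
  map_mono (fun _ hd => mem_subgroupOf.2 (h (mem_subgroupOf.1 hd)))

theorem img_ne_bot (R : Rep V x M X) {D : Subgroup G} (hD : D ≤ centralizer ({x} : Set G)) :
    R.img D ≠ ⊥ ↔ ¬ D ≤ kq V x := by
  rw [Ne, not_iff_not]
  constructor
  · intro h d hd
    have h1 := R.rho_mem_img hD hd
    rw [h, mem_bot, Rep.rho_eq_one R (hD hd)] at h1
    exact h1
  · intro h
    rw [eq_bot_iff]
    intro a ha
    obtain ⟨d, hd, rfl⟩ := (R.mem_img hD).1 ha
    rw [mem_bot, Rep.rho_eq_one R (hD hd)]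
    exact h hd

theorem img_sq (R : Rep V x M X) {D : Subgroup G} (hD : D ≤ centralizer ({x} : Set G)) (h : ∀ d ∈ D, d * d = 1) :
    ∀ a ∈ R.img D, a * a = 1 := by
  intro a ha
  obtain ⟨d, hd, rfl⟩ := (R.mem_img hD).1 ha
  rw [← R.rho_mul d (hD hd) d (hD hd), h d hd, R.rho_one]

/-! ### Sylow subgroups -/

theorem exists_cj_le {T C U : Subgroup G} (hT : IsPGroup 2 T)
    (hs : ¬ 2 ∣ T.relIndex C) (hU : U ≤ C) (hU2 : IsPGroup 2 U) : ∃ c ∈ C, cj c U ≤ T := by
  haveI : Fact (Nat.Prime 2) := ⟨Nat.prime_two⟩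
  have hT' : IsPGroup 2 (T.subgroupOf C) := hT.comap_of_injective _ C.subtype_injective
  have hU' : IsPGroup 2 (U.subgroupOf C) := hU2.comap_of_injective _ C.subtype_injective
  obtain ⟨Q, hQ⟩ := hU'.exists_le_sylow
  obtain ⟨c, hc⟩ := MulAction.exists_smul_eq C Q (hT'.toSylow hs)
  refine ⟨c, c.2, ?_⟩
  rintro _ ⟨u, hu, rfl⟩
  have h1 : (⟨u, hU hu⟩ : C) ∈ Q := hQ (by rw [mem_subgroupOf]; exact hu)
  have h2 : c * (⟨u, hU hu⟩ : C) * c⁻¹ ∈ ((c • Q : Sylow 2 C) : Subgroup C) := by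
    rw [Sylow.coe_subgroup_smul]
    exact ⟨_, h1, rfl⟩
  rw [hc] at h2
  exact h2

theorem relIndex_of_le {T C D : Subgroup G} (hTC : T ≤ C) (hCD : C ≤ D) (hs : ¬ 2 ∣ T.relIndex D) :
    ¬ 2 ∣ T.relIndex C := fun h => hs (h.trans (by
      rw [← Subgroup.relIndex_mul_relIndex T C D hTC hCD]; exact Dvd.intro _ rfl))

/-- the line through two collinear points, with a Sylow 2-subgroup over `D` -/
theorem exists_frame (h : Ab T V z) (hxy : Col V x y) {D : Subgroup G} (hD : IsPGroup 2 D)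
    (hDx : D ≤ centralizer ({x} : Set G)) (hDy : D ≤ centralizer ({y} : Set G)) :
    ∃ g : G, x = g * z * g⁻¹ ∧ y ∈ cj g V ∧ Ab (cj g T) (cj g V) x ∧ D ≤ cj g T := by
  obtain ⟨g, hg, hy, h'⟩ := exists_odd_col h hxy
  obtain ⟨C, hC⟩ : ∃ C, C = centralizer ({x} : Set G) ⊓ normalizer ((cj g V : Subgroup G) : Set G) := ⟨_, rfl⟩
  have hTC : cj g T ≤ C := by rw [hC]; exact le_inf h'.T_le h'.T_norm
  have hs : ¬ 2 ∣ (cj g T).relIndex C := relIndex_of_le hTC (by rw [hC]; exact inf_le_left) h'.T_syl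
  have hDC : D ≤ C := by
    rw [hC]
    refine le_inf hDx fun d hd => centralizer_le_normalizer _ (mem_centralizer_iff.2 fun v hv => ?_)
    have h1 := mem_centralizer_singleton_iff.1 (hDx hd)
    have h2 := mem_centralizer_singleton_iff.1 (hDy hd)
    rcases h'.four h'.z_mem hy h'.z_ne hxy.2.1 hxy.2.2.1 hv with rfl | rfl | rfl | rfl
    · simp
    · exact h1.symm
    · exact h2.symm
    · rw [mul_assoc, ← h2, ← mul_assoc, ← h1, mul_assoc]
  obtain ⟨c, hc, hcD⟩ := exists_cj_le h'.two hs hDC hD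
  rw [hC] at hc
  have hcx : c * x = x * c := mem_centralizer_singleton_iff.1 hc.1
  have e1 : c⁻¹ * x * c = x := by rw [mul_assoc, ← hcx]; group
  have e2 : cj (c⁻¹ * g) V = cj g V := by
    rw [← cj_cj, cj_eq_of_mem_normalizer (inv_mem hc.2)]
  have e3 : x = c⁻¹ * g * z * (c⁻¹ * g)⁻¹ := by
    calc x = c⁻¹ * x * c := e1.symm
      _ = c⁻¹ * (g * z * g⁻¹) * c := by rw [← hg]
      _ = c⁻¹ * g * z * (c⁻¹ * g)⁻¹ := by group
  refine ⟨c⁻¹ * g, e3, by rw [e2]; exact hy, ?_, ?_⟩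
  · have h1 := h.conj (c⁻¹ * g)
    rwa [← e3] at h1
  · rw [← cj_cj, ← cj_le_iff]; exact hcD

/-- an element of the Sylow 2-subgroup moves the line vector at most by `x` -/
theorem frame_move (h' : Ab T V x) (hy : y ∈ V) (hy1 : y ≠ 1) (hyx : y ≠ x) {t : G} (ht : t ∈ T) :
    t * y * t⁻¹ = y ∨ t * y * t⁻¹ = x * y :=
  h'.conj_cases h'.z_mem hy h'.z_ne (h'.z_comm (h'.T_le ht)) (h'.T_norm ht)

/-- **bridge** -/
theorem At.lam (h : Ab T V z) (a : At T V z x R J F) (hxy : Col V x y) :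
    Lam (hm X M) J F (ofAdd (R.pi y)) := by
  have : Fact (Nat.Prime 2) := ⟨Nat.prime_two⟩
  refine ⟨a.hy, ?_, ?_, ?_, ?_⟩
  · obtain ⟨g, hg, hy, h', -⟩ := exists_frame h hxy (D := ⊥) IsPGroup.of_bot bot_le bot_le
    have h1 : IsPGroup 2 (R.img (cj g T)) := img_isPGroup R h'.two
    have h2 : ¬ 2 ∣ (R.img (cj g T)).index := by
      intro h2
      apply h'.T_syl
      exact h2.trans (Subgroup.index_map_dvd (H := (cj g T).subgroupOf (centralizer ({x} : Set G))) (f := R.hom)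
        R.hom_surj)
    refine ⟨h1.toSylow h2, fun t ht => ?_⟩
    have ht' : t ∈ R.img (cj g T) := ht
    obtain ⟨d, hd, rfl⟩ := (R.mem_img h'.T_le).1 ht'
    rw [hm_ofAdd, R.smul_pi d (h'.T_le hd) y hxy.mem_ws]
    congr 1
    rw [Rep.pi_eq_pi h a.pt R (R.conj_mem (h'.T_le hd) hxy.mem_ws) hxy.mem_ws]
    exact frame_move h' hy hxy.2.1 (Ne.symm hxy.2.2.1) hd
  · intro W hW
    have h1 := Rep.eq_top_of_line h a.pt R hxy (Subgroup.toAddSubgroup' W) (fun g => hW g)
    rw [eq_top_iff]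
    intro m _
    have h2 : m.toAdd ∈ Subgroup.toAddSubgroup' W := by rw [h1]; exact AddSubgroup.mem_top _
    exact h2
  · intro g
    obtain ⟨l, hl, e⟩ := a.tr y hxy g
    exact ⟨l, hl, congrArg ofAdd e⟩
  · intro g hg e
    exact a.three y hxy g hg (ofAdd.injective e)

end Cfsg.Agent.OddCyclic.EN.NatTwo
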