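import Cfsg.Agent.OddCyclic.EN.NatTwo.One
import Cfsg.Agent.OddCyclic.EN.NotThreeG
import Cfsg.Agent.OddCyclic.EN.PiSec

/-!
# (E1), type `(A_q)`, distance at least two: case 2 (`q ∈ ws V p`), counting

* `Crit.img_ne_bot`: both images are nontrivial;
* `D1 V p q = {k ∈ O₂(C(p)) : [k, ws V q] ≤ ws V p}`; `tfc`: `|A'| |O₂(C(p)) : D1| ≤ 2 |B|`;
* `dual_le`: `|M~ : C(β)| ≤ |O₂(C(p)) : E|`, `E = C([ws V p, v])`; `D1_le_E`, `C_le_E`;
* `mul_le`: `|M~ : C(β)| |C : D1 ∩ C| ≤ |O₂(C(p)) : D1|`.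
-/

set_option autoImplicit false
set_option linter.unusedSectionVars false
set_option linter.style.haveILetI false
set_option linter.unusedVariables false

namespace Cfsg.Agent.OddCyclic.EN.NatTwo

open Subgroup Cfsg Cfsg.Agent.ZN Cfsg.Agent.MinSimple.Geo Cfsg.Agent.OddCyclic.GeoC Cfsg.Agent.OddCyclic.BTwoA
  Cfsg.Agent.OddCyclic.EN.Line Cfsg.Agent.OddCyclic.EN.Base Cfsg.Agent.MinSimple.SecRep
  Cfsg.Agent.OddCyclic.EN.RepM Cfsg.Agent.OddCyclic.EN.Perm Cfsg.Agent.OddCyclic.EN.OneCount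
open Cfsg.Agent.OddCyclic.T1Module Cfsg.Agent.OddCyclic.FFBasic
open Cfsg.Agent.ZN.Block (conj_mem_of_normalizer conj_mem_of_normalizer' le_normalizer_of_forall
  mem_normalizer_of)
open Multiplicative (ofAdd toAdd)

universe u

variable {G : Type u} [Group G] [Finite G] {T V : Subgroup G} {z x y p q : G} {n : ℕ}
  {M X : Type u} [AddCommGroup M] [Group X] [DistribMulAction X M] [Finite M] [Finite X]
  {F : Type} [Field F] [Fintype F] [CharP F 2] {J : Subgroup X}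

/-- index at most two -/
theorem relIndex_le_two {D W : Subgroup G} (h : ∀ a ∈ W, ∀ b ∈ W, a ∉ D → b ∉ D → a * b ∈ D) : D.relIndex W ≤ 2 := by
  by_cases hW : W ≤ D
  · rw [relIndex_eq_one.2 hW]; norm_num
  · obtain ⟨a, ha, haD⟩ := SetLike.not_le_iff_exists.1 hW
    refine (relIndex_eq_two_iff.2 ⟨a, ha, fun b hb => ?_⟩).le
    by_cases hbD : b ∈ D
    · right
      refine ⟨hbD, fun h1 => haD ?_⟩
      have e : a = b⁻¹ * (b * a) := by group
      rw [e]; exact mul_mem (inv_mem hbD) h1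
    · left
      exact ⟨h b hb a ha hbD haD, hbD⟩

/-- an element of `O₂(C(x))` moves an element of `ws V x` at most by `x` -/
theorem o2_move (h : Ab T V z) (hx : Pt z x) {k w : G} (hk : k ∈ o2 (centralizer ({x} : Set G))) (hw : w ∈ ws V x) :
    k * w * k⁻¹ = w ∨ k * w * k⁻¹ = x * w := by
  obtain ⟨g, _, h'⟩ := exists_odd h hx
  have hw' : w ∈ ws (cj g V) x := by rw [ws_cj]; exact hw
  have h1 := h'.toGeoC.comm_mem hw' hk
  rw [mem_zpowers_iff_of_mul_self h'.zz] at h1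
  rcases h1 with e | e
  · left
    calc k * w * k⁻¹ = (w * k * w⁻¹ * k⁻¹)⁻¹ * w := by group
      _ = w := by rw [e]; group
  · right
    calc k * w * k⁻¹ = (w * k * w⁻¹ * k⁻¹)⁻¹ * w := by group
      _ = x * w := by rw [e, inv_eq_self h'.zz]

theorem index_fx_le (h : Ab T V z) (hp : Pt z p) (R : Rep V p M X) {v : G} (hv : v ∈ centralizer ({p} : Set G)) :
    (fx (hm X M) (R.rho v)).index ≤ (ws V p ⊓ centralizer ({v} : Set G)).relIndex (ws V p) := by
  rw [← relIndex_pw R]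
  refine relIndex_le_of_le_left ?_ (by rw [Subgroup.relIndex]; exact index_ne_zero_of_finite)
  intro w hw
  rw [mem_pw]
  refine ⟨hw.1, ?_⟩
  change hm X M (R.rho v) (ofAdd (R.pi w)) = ofAdd (R.pi w)
  rw [hm_ofAdd, R.smul_pi v hv w hw.1]
  have h1 := mem_centralizer_singleton_iff.1 hw.2
  rw [← h1, mul_inv_cancel_right]

theorem Crit.ne (h : AbN T V z n) (c : Crit V z n p q) : p ≠ q := by
  rintro rfl
  obtain ⟨hp, -, a, ha, b, hb, hab⟩ := c
  exact hab (ws_comm h.toAb hp ha hb)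

/-- both images are nontrivial -/
theorem Crit.img_ne_bot (h : AbN T V z n) (c : Crit V z n p q) {Rp : Rep V p M X} (ap : At T V z p Rp J F)
    (Rq : Rep V q M X) : Rq.img (ws V p) ≠ ⊥ := by
  have hle := c.ws_le_centralizer h
  have hle' := (c.symm h.toAb).ws_le_centralizer h
  rw [NatTwo.img_ne_bot Rq hle']
  intro hk
  obtain ⟨p₁, hp₁, -⟩ := c.head h
  obtain ⟨hp, -, a, ha, b, hb, hab⟩ := id c
  have hq := c.pt' h.toGeoC
  have hpq := Crit.ne h c
  have hqq : q * q = 1 := Base.Pt.sq h.toGeoC hq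
  have hpp : p * p = 1 := Base.Pt.sq h.toGeoC hp
  have hmv : ∀ w ∈ ws V p, w * b * w⁻¹ = b ∨ w * b * w⁻¹ = q * b := fun w hw => kq_move h.toAb hq (hk hw) hb
  have hab2 : a * b * a⁻¹ = q * b := by
    rcases hmv a ha with e | e
    · exact absurd (mul_inv_eq_iff_eq_mul.1 e) hab
    · exact e
  by_cases hbk : b ∈ kq V p
  · rcases kq_move h.toAb hp hbk ha with e | e
    · exact hab (mul_inv_eq_iff_eq_mul.1 e).symm
    · apply hpq
      have e1 : q = a * b * a⁻¹ * b⁻¹ := by rw [hab2]; group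
      have e2 : p = (a * b * a⁻¹ * b⁻¹)⁻¹ := by
        calc p = b * a * b⁻¹ * a⁻¹ := by rw [e]; group
          _ = (a * b * a⁻¹ * b⁻¹)⁻¹ := by group
      rw [e2, ← e1, inv_eq_self hqq]
  · have hbC := hle hb
    have hb1 : Rp.rho b ≠ 1 := fun e => hbk ((Rep.rho_eq_one Rp hbC).1 e)
    have hb2 : Rp.rho b * Rp.rho b = 1 := by
      rw [← Rp.rho_mul b hbC b hbC, Base.ws_sq h.toAb hq hb, Rp.rho_one]
    have h1 := (ap.lam h.toAb hp₁).nt' hb2 hb1
    have h2 := index_fx_le h.toAb hp Rp hbC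
    have h3 : (ws V p ⊓ centralizer ({b} : Set G)).relIndex (ws V p) ≤ 2 := by
      refine relIndex_le_two fun w1 hw1 w2 hw2 hn1 hn2 =>
        mem_inf.2 ⟨mul_mem hw1 hw2, mem_centralizer_singleton_iff.2 ?_⟩
      have e1 : w1 * b * w1⁻¹ = q * b := by
        rcases hmv w1 hw1 with e | e
        · exact absurd ⟨hw1, mem_centralizer_singleton_iff.2 (mul_inv_eq_iff_eq_mul.1 e)⟩ hn1
        · exact e
      have e2 : w2 * b * w2⁻¹ = q * b := by
        rcases hmv w2 hw2 with e | e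
        · exact absurd ⟨hw2, mem_centralizer_singleton_iff.2 (mul_inv_eq_iff_eq_mul.1 e)⟩ hn2
        · exact e
      have e3 : w1 * q * w1⁻¹ = q := by
        rw [mem_centralizer_singleton_iff.1 (hle' hw1), mul_inv_cancel_right]
      refine mul_inv_eq_iff_eq_mul.1 ?_
      calc w1 * w2 * b * (w1 * w2)⁻¹ = w1 * (w2 * b * w2⁻¹) * w1⁻¹ := by group
        _ = (w1 * q * w1⁻¹) * (w1 * b * w1⁻¹) := by rw [e2]; group
        _ = q * q * b := by rw [e1, e3, mul_assoc]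
        _ = b := by rw [hqq, one_mul]
    omega

/-! ### the counting argument (TFC) -/

/-- the elements of `O₂(C(p))` centralizing `(ws V p) (ws V q) / ws V p` -/
def D1 (V : Subgroup G) (p q : G) : Subgroup G where
  carrier := {k | k ∈ o2 (centralizer ({p} : Set G)) ∧ ∀ v ∈ ws V q, k * v * k⁻¹ * v⁻¹ ∈ ws V p}
  mul_mem' := by
    rintro a b ⟨ha, ha'⟩ ⟨hb, hb'⟩
    refine ⟨mul_mem ha hb, fun v hv => ?_⟩
    have h1 : a ∈ normalizer ((ws V p : Subgroup G) : Set G) :=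
      Cfsg.Agent.MinSimple.Geo.centralizer_le_normalizer_ws V p (o2_le _ ha)
    have e : a * b * v * (a * b)⁻¹ * v⁻¹ = (a * (b * v * b⁻¹ * v⁻¹) * a⁻¹) * (a * v * a⁻¹ * v⁻¹) := by group
    rw [e]
    exact mul_mem (conj_mem_of_normalizer le_rfl h1 (hb' v hv)) (ha' v hv)
  one_mem' := ⟨one_mem _, fun v _ => by simp⟩
  inv_mem' := by
    rintro a ⟨ha, ha'⟩
    refine ⟨inv_mem ha, fun v hv => ?_⟩
    have h1 : a ∈ normalizer ((ws V p : Subgroup G) : Set G) :=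
      Cfsg.Agent.MinSimple.Geo.centralizer_le_normalizer_ws V p (o2_le _ ha)
    have e : a⁻¹ * v * a⁻¹⁻¹ * v⁻¹ = a⁻¹ * (a * v * a⁻¹ * v⁻¹)⁻¹ * a := by group
    rw [e]
    exact conj_mem_of_normalizer' le_rfl h1 (inv_mem (ha' v hv))

theorem mem_D1 {k : G} : k ∈ D1 V p q ↔ k ∈ o2 (centralizer ({p} : Set G)) ∧
    ∀ v ∈ ws V q, k * v * k⁻¹ * v⁻¹ ∈ ws V p := Iff.rfl

theorem D1_le : D1 V p q ≤ o2 (centralizer ({p} : Set G)) := fun _ hk => hk.1

theorem ws_le_D1 (h : AbN T V z n) (c : Crit V z n p q) : ws V p ≤ D1 V p q := fun w hw =>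
  ⟨Base.ws_le_o2 h.toAb c.pt hw, fun v hv => (c.comm_mem h hw hv).1⟩

theorem kq_le_D1 (hqp : q ∈ ws V p) : o2 (centralizer ({p} : Set G)) ⊓ kq V q ≤ D1 V p q := fun k hk =>
  ⟨hk.1, fun v hv => (zpowers_le.2 hqp) ((mem_kq'.1 hk.2).2.1 v hv)⟩

theorem card_relIndex {A B : Subgroup G} (h : A ≤ B) : Nat.card B = A.relIndex B * Nat.card A := by
  rw [← Subgroup.card_mul_index (A.subgroupOf B), Subgroup.relIndex, mul_comm,
    Nat.card_congr (Subgroup.subgroupOfEquivOfLe h).toEquiv]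

/-- **(TFC)** -/
theorem tfc (h : AbN T V z n) (c : Crit V z n p q) (hqp : q ∈ ws V p) (Rq : Rep V q M X) :
    Nat.card (Rq.img (ws V p)) * (D1 V p q).relIndex (o2 (centralizer ({p} : Set G))) ≤
      2 * Nat.card (Rq.img (o2 (centralizer ({p} : Set G)) ⊓ centralizer ({q} : Set G))) := by
  obtain ⟨Q, hQ⟩ : ∃ Q, Q = o2 (centralizer ({p} : Set G)) := ⟨_, rfl⟩
  obtain ⟨D, hD⟩ : ∃ D, D = D1 V p q := ⟨_, rfl⟩
  obtain ⟨Q₀, hQ₀⟩ : ∃ Q₀, Q₀ = Q ⊓ centralizer ({q} : Set G) := ⟨_, rfl⟩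
  obtain ⟨D₀, hD₀⟩ : ∃ D₀, D₀ = D ⊓ centralizer ({q} : Set G) := ⟨_, rfl⟩
  obtain ⟨N, hN⟩ : ∃ N, N = Q ⊓ kq V q := ⟨_, rfl⟩
  have hDQ : D ≤ Q := by rw [hD, hQ]; exact D1_le
  rw [← hQ, ← hD, ← hQ₀]
  have hpp : p * p = 1 := Base.Pt.sq h.toGeoC c.pt
  have hkC : kq V q ≤ centralizer ({q} : Set G) := Cfsg.Agent.OddCyclic.BTwoB.kq_le V q
  -- `|Q : Q₀| ≤ 2`
  have h1 : Nat.card Q ≤ 2 * Nat.card Q₀ := by
    rw [card_relIndex (A := Q₀) (B := Q) (by rw [hQ₀]; exact inf_le_left)]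
    refine Nat.mul_le_mul_right _ (relIndex_le_two fun a ha b hb hna hnb => ?_)
    rw [hQ₀]
    refine mem_inf.2 ⟨mul_mem ha hb, mem_centralizer_singleton_iff.2 ?_⟩
    have hmv : ∀ k ∈ Q, k ∉ Q₀ → k * q * k⁻¹ = p * q := by
      intro k hk hn
      rcases o2_move h.toAb c.pt (by rw [← hQ]; exact hk) hqp with e | e
      · exfalso
        apply hn
        rw [hQ₀]
        exact ⟨hk, mem_centralizer_singleton_iff.2 (mul_inv_eq_iff_eq_mul.1 e)⟩
      · exact e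
    have e1 := hmv a ha hna
    have e2 := hmv b hb hnb
    have e3 : a * p * a⁻¹ = p := by
      rw [hQ] at ha
      rw [mem_centralizer_singleton_iff.1 (o2_le _ ha), mul_inv_cancel_right]
    refine mul_inv_eq_iff_eq_mul.1 ?_
    calc a * b * q * (a * b)⁻¹ = a * (b * q * b⁻¹) * a⁻¹ := by group
      _ = (a * p * a⁻¹) * (a * q * a⁻¹) := by rw [e2]; group
      _ = p * p * q := by rw [e1, e3, mul_assoc]
      _ = q := by rw [hpp, one_mul]
  have hNQ : N ≤ Q₀ := by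
    rw [hN, hQ₀]; exact inf_le_inf_left _ hkC
  have hND : N ≤ D₀ := by
    rw [hN, hD₀]
    refine le_inf ?_ (inf_le_right.trans hkC)
    rw [hD, hQ]; exact kq_le_D1 hqp
  have h2 : Nat.card Q₀ = Nat.card (Rq.img Q₀) * Nat.card N := by
    have hQC : Q₀ ≤ centralizer ({q} : Set G) := by rw [hQ₀]; exact inf_le_right
    have hQQ : Q₀ ≤ Q := by rw [hQ₀]; exact inf_le_left
    have e : kq V q ⊓ Q₀ = N ⊓ Q₀ := by
      rw [hN]
      exact le_antisymm (le_inf (le_inf (inf_le_right.trans hQQ) inf_le_left) inf_le_right)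
        (le_inf (inf_le_left.trans inf_le_right) inf_le_right)
    rw [card_img Rq hQC, card_relIndex hNQ, ← inf_relIndex_right (kq V q), e, inf_relIndex_right]
  have h3 : Nat.card D₀ = Nat.card (Rq.img D₀) * Nat.card N := by
    have hQC : D₀ ≤ centralizer ({q} : Set G) := by rw [hD₀]; exact inf_le_right
    have hQQ : D₀ ≤ Q := by rw [hD₀]; exact inf_le_left.trans hDQ
    have e : kq V q ⊓ D₀ = N ⊓ D₀ := by
      rw [hN]
      exact le_antisymm (le_inf (le_inf (inf_le_right.trans hQQ) inf_le_left) inf_le_right)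
        (le_inf (inf_le_left.trans inf_le_right) inf_le_right)
    rw [card_img Rq hQC, card_relIndex hND, ← inf_relIndex_right (kq V q), e, inf_relIndex_right]
  have h4 : Nat.card (Rq.img (ws V p)) ≤ Nat.card (Rq.img D₀) := by
    refine Subgroup.card_le_of_le (img_mono Rq ?_)
    rw [hD₀, hD]
    exact le_inf (ws_le_D1 h c) ((c.symm h.toAb).ws_le_centralizer h)
  have h5 : Nat.card Q = D.relIndex Q * Nat.card D := card_relIndex hDQ
  have h6 : Nat.card D₀ ≤ Nat.card D := Subgroup.card_le_of_le (by rw [hD₀]; exact inf_le_left)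
  have hpos : 0 < Nat.card N := Nat.card_pos
  have h7 : (Nat.card (Rq.img (ws V p)) * D.relIndex Q) * Nat.card N ≤ (2 * Nat.card (Rq.img Q₀)) * Nat.card N := by
    calc (Nat.card (Rq.img (ws V p)) * D.relIndex Q) * Nat.card N
        ≤ (Nat.card (Rq.img D₀) * D.relIndex Q) * Nat.card N :=
          Nat.mul_le_mul_right _ (Nat.mul_le_mul_right _ h4)
      _ = D.relIndex Q * Nat.card D₀ := by rw [h3]; ring
      _ ≤ D.relIndex Q * Nat.card D := Nat.mul_le_mul_left _ h6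
      _ = Nat.card Q := h5.symm
      _ ≤ 2 * Nat.card Q₀ := h1
      _ = _ := by rw [h2]; ring
  exact Nat.le_of_mul_le_mul_right h7 hpos

/-! ### the lower bound -/

/-- `w ↦ [w, v]` on `ws V p` -/
def cmv (h : Ab T V z) (hp : Pt z p) {v : G} (hv : v ∈ centralizer ({p} : Set G)) : ws V p →* G where
  toFun w := w * v * (w : G)⁻¹ * v⁻¹
  map_one' := by simp
  map_mul' a b := by
    have h1 : v * (a : G)⁻¹ * v⁻¹ ∈ ws V p :=
      conj_mem_of_normalizer (Cfsg.Agent.MinSimple.Geo.centralizer_le_normalizer_ws V p) hv (inv_mem a.2)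
    have h2 : (b : G) * v * (b : G)⁻¹ * v⁻¹ ∈ ws V p := by
      have e : (b : G) * v * (b : G)⁻¹ * v⁻¹ = b * (v * (b : G)⁻¹ * v⁻¹) := by group
      rw [e]
      exact mul_mem b.2 (conj_mem_of_normalizer (Cfsg.Agent.MinSimple.Geo.centralizer_le_normalizer_ws V p) hv
        (inv_mem b.2))
    have h3 := ws_comm h hp h1 h2
    calc (a : G) * b * v * (a * b : G)⁻¹ * v⁻¹
        = a * (((b : G) * v * (b : G)⁻¹ * v⁻¹) * (v * (a : G)⁻¹ * v⁻¹)) := by group
      _ = a * ((v * (a : G)⁻¹ * v⁻¹) * ((b : G) * v * (b : G)⁻¹ * v⁻¹)) := by rw [h3]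
      _ = (a * v * (a : G)⁻¹ * v⁻¹) * (b * v * (b : G)⁻¹ * v⁻¹) := by group

theorem cmv_range_le (h : Ab T V z) (hp : Pt z p) {v : G} (hv : v ∈ centralizer ({p} : Set G)) :
    (cmv h hp hv).range ≤ ws V p := by
  rintro _ ⟨w, rfl⟩
  have e : (cmv h hp hv) w = w * (v * (w : G)⁻¹ * v⁻¹) := by
    change (w : G) * v * (w : G)⁻¹ * v⁻¹ = _
    group
  rw [e]
  exact mul_mem w.2 (conj_mem_of_normalizer (Cfsg.Agent.MinSimple.Geo.centralizer_le_normalizer_ws V p) hv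
    (inv_mem w.2))

/-- `D1` centralizes `[ws V p, v]` -/
theorem D1_le_cent (h : AbN T V z n) (c : Crit V z n p q) {v : G} (hv : v ∈ ws V q) :
    D1 V p q ≤ centralizer (((cmv h.toAb c.pt (c.ws_le_centralizer h hv)).range : Subgroup G) : Set G) := by
  intro k hk
  rw [mem_centralizer_iff]
  rintro _ ⟨w, rfl⟩
  change (w : G) * v * (w : G)⁻¹ * v⁻¹ * k = k * (w * v * (w : G)⁻¹ * v⁻¹)
  obtain ⟨w, hw⟩ := w
  change w * v * w⁻¹ * v⁻¹ * k = k * (w * v * w⁻¹ * v⁻¹)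
  obtain ⟨m, hm⟩ : ∃ m, m = k * v * k⁻¹ * v⁻¹ := ⟨_, rfl⟩
  have hmW : m ∈ ws V p := by rw [hm]; exact hk.2 v hv
  have e1 : k * v * k⁻¹ = m * v := by rw [hm]; group
  obtain ⟨e, he, e2⟩ : ∃ e, (e = 1 ∨ e = p) ∧ k * w * k⁻¹ = e * w := by
    rcases o2_move h.toAb c.pt hk.1 hw with e | e
    · exact ⟨1, Or.inl rfl, by rw [e, one_mul]⟩
    · exact ⟨p, Or.inr rfl, e⟩
  have hcv : e * v = v * e := by
    rcases he with rfl | rfl
    · rw [one_mul, mul_one]
    · exact (mem_centralizer_singleton_iff.1 (c.ws_le_centralizer h hv)).symm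
  have heW : e ∈ ws V p := by
    rcases he with rfl | rfl
    · exact one_mem _
    · exact self_mem_ws h.toGeoC c.pt
  have hcW : w * v * w⁻¹ * v⁻¹ ∈ ws V p := cmv_range_le h.toAb c.pt (c.ws_le_centralizer h hv) ⟨⟨w, hw⟩, rfl⟩
  have c1 := ws_comm h.toAb c.pt heW hw
  have c2 := ws_comm h.toAb c.pt heW hmW
  have c3 := ws_comm h.toAb c.pt hw hmW
  have c4 := ws_comm h.toAb c.pt hmW hcW
  have e3 : k * (w * v * w⁻¹ * v⁻¹) * k⁻¹ = w * v * w⁻¹ * v⁻¹ := by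
    calc k * (w * v * w⁻¹ * v⁻¹) * k⁻¹
        = (k * w * k⁻¹) * (k * v * k⁻¹) * (k * w * k⁻¹)⁻¹ * (k * v * k⁻¹)⁻¹ := by group
      _ = e * w * (m * v) * (e * w)⁻¹ * (m * v)⁻¹ := by rw [e1, e2]
      _ = w * m * (e * v) * w⁻¹ * e⁻¹ * v⁻¹ * m⁻¹ := by
          rw [c1]
          calc w * e * (m * v) * (w * e)⁻¹ * (m * v)⁻¹ = w * (e * m) * v * e⁻¹ * w⁻¹ * v⁻¹ * m⁻¹ := by group
            _ = w * m * (e * v) * (w * e)⁻¹ * v⁻¹ * m⁻¹ := by rw [c2]; group
            _ = w * m * (e * v) * w⁻¹ * e⁻¹ * v⁻¹ * m⁻¹ := by rw [← c1]; group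
      _ = w * m * v * (e * w⁻¹ * e⁻¹) * v⁻¹ * m⁻¹ := by rw [hcv]; group
      _ = w * m * v * w⁻¹ * v⁻¹ * m⁻¹ := by
          have : e * w⁻¹ * e⁻¹ = w⁻¹ := by
            rw [ws_comm h.toAb c.pt heW (inv_mem hw), mul_inv_cancel_right]
          rw [this]
      _ = m * (w * v * w⁻¹ * v⁻¹) * m⁻¹ := by rw [c3]; group
      _ = w * v * w⁻¹ * v⁻¹ := by rw [c4, mul_inv_cancel_right]
  exact (mul_inv_eq_iff_eq_mul.1 e3).symm

/-- the dual bound -/
theorem dual_le (h : AbN T V z n) (c : Crit V z n p q) {Rp : Rep V p M X} (ap : At T V z p Rp J F) {v : G}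
    (hv : v ∈ ws V q) : (fx ap.hy.qq (Rp.rho v)).index ≤
      (o2 (centralizer ({p} : Set G)) ⊓
        centralizer (((cmv h.toAb c.pt (c.ws_le_centralizer h hv)).range : Subgroup G) : Set G)).relIndex
        (o2 (centralizer ({p} : Set G))) := by
  have hvC := c.ws_le_centralizer h hv
  obtain ⟨f, hf⟩ : ∃ f, f = cmv h.toAb c.pt hvC := ⟨_, rfl⟩
  rw [← hf]
  obtain ⟨Q, hQ⟩ : ∃ Q, Q = o2 (centralizer ({p} : Set G)) := ⟨_, rfl⟩
  rw [← hQ]
  obtain ⟨S, hS⟩ : ∃ S, S = CS (hm X M) J := ⟨_, rfl⟩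
  have hfle : f.range ≤ ws V p := by rw [hf]; exact cmv_range_le h.toAb c.pt hvC
  have hpp : p * p = 1 := Base.Pt.sq h.toGeoC c.pt
  -- the index of the fixed points
  have h1 : (fx ap.hy.qq (Rp.rho v)).index = (pw Rp S).relIndex f.range := by
    rw [← index_comap, ← index_comap_of_surjective (fx ap.hy.qq (Rp.rho v))
      (f := (QuotientGroup.mk' (CS (hm X M) J)).comp (piH Rp))
      ((QuotientGroup.mk'_surjective _).comp (piH_surj Rp))]
    congr 1
    ext w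
    rw [mem_comap, mem_comap, mem_pw]
    change ap.hy.qq (Rp.rho v) ((ofAdd (Rp.pi w) : Multiplicative M) : Multiplicative M ⧸ CS (hm X M) J) = _ ↔ _
    change ap.hy.qq (Rp.rho v) ((ofAdd (Rp.pi w) : Multiplicative M) : Multiplicative M ⧸ CS (hm X M) J) =
      ((ofAdd (Rp.pi w) : Multiplicative M) : Multiplicative M ⧸ CS (hm X M) J) ↔ _
    rw [ap.hy.qq_eq_iff, hm_ofAdd, hS]
    have e1 : f w = w * v * (w : G)⁻¹ * v⁻¹ := by rw [hf]; rfl
    have e2 : ofAdd (Rp.pi (f w)) = (ofAdd (Rp.rho v • Rp.pi w) * (ofAdd (Rp.pi w))⁻¹)⁻¹ := by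
      rw [e1]
      have e3 : (w : G) * v * (w : G)⁻¹ * v⁻¹ = w * (v * (w : G)⁻¹ * v⁻¹) := by group
      rw [e3, Rp.pi_mul w w.2 _ (Rp.conj_mem hvC (inv_mem w.2)), ← Rp.smul_pi v hvC _ (inv_mem w.2), Rp.pi_inv w.2,
        smul_neg, mul_inv_rev, inv_inv]
      rfl
    rw [e2, inv_mem_iff]
    exact ⟨fun h3 => ⟨hfle ⟨w, rfl⟩, h3⟩, fun h3 => h3.2⟩
  -- the pairing
  have h2 := Cfsg.Agent.OddCyclic.EN.PiSec.card_pair (B := Q) (e := p) hpp (D := f.range) (B₀ := Q ⊓ centralizer (f.range : Set G))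
    inf_le_left (fun d hd b hb => by
      rw [hQ] at hb
      rcases o2_move h.toAb c.pt hb (hfle hd) with e | e
      · left
        rw [← mul_inv_eq_iff_eq_mul.1 e]; group
      · right
        have e4 : d * b * d⁻¹ * b⁻¹ = (b * d * b⁻¹ * d⁻¹)⁻¹ := by group
        rw [e4, e, mul_inv_cancel_right, inv_eq_self hpp])
    (fun d hd => ws_comm h.toAb c.pt (hfle hd) (self_mem_ws h.toGeoC c.pt))
    (fun d hd b hb => (mem_centralizer_iff.1 hb.2) d hd)
  have h3 : f.range ⊓ centralizer (Q : Set G) ≤ pw Rp S ⊓ f.range := by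
    intro w hw
    refine mem_inf.2 ⟨?_, hw.1⟩
    rw [hS, mem_pw_CS' h.toAb c.pt]
    refine ⟨hfle hw.1, ap.red w (hfle hw.1) fun b hb => ?_⟩
    rw [← hQ] at hb
    exact (mem_centralizer_iff.1 hw.2) b hb
  have h4 : Nat.card f.range = (pw Rp S).relIndex f.range * Nat.card ↥(pw Rp S ⊓ f.range) := by
    rw [← inf_relIndex_right (pw Rp S), card_relIndex (A := pw Rp S ⊓ f.range) (B := f.range) inf_le_right]
  have h5 : Nat.card Q = (Q ⊓ centralizer (f.range : Set G)).relIndex Q *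
      Nat.card ↥(Q ⊓ centralizer (f.range : Set G)) := card_relIndex inf_le_left
  rw [h1]
  have hpos1 : 0 < Nat.card ↥(pw Rp S ⊓ f.range) := Nat.card_pos
  have hpos2 : 0 < Nat.card ↥(Q ⊓ centralizer (f.range : Set G)) := Nat.card_pos
  have h6 : Nat.card ↥(f.range ⊓ centralizer (Q : Set G)) ≤ Nat.card ↥(pw Rp S ⊓ f.range) :=
    Subgroup.card_le_of_le h3
  set a := (pw Rp S).relIndex f.range
  set b := (Q ⊓ centralizer (f.range : Set G)).relIndex Q
  set s := Nat.card ↥(pw Rp S ⊓ f.range)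
  set t := Nat.card ↥(Q ⊓ centralizer (f.range : Set G))
  have h7 : (a * t) * s ≤ (b * t) * s := by
    calc (a * t) * s = Nat.card f.range * t := by rw [h4]; ring
      _ ≤ Nat.card ↥(f.range ⊓ centralizer (Q : Set G)) * Nat.card Q := h2
      _ ≤ s * Nat.card Q := Nat.mul_le_mul_right _ h6
      _ = (b * t) * s := by rw [h5]; ring
  exact Nat.le_of_mul_le_mul_right (Nat.le_of_mul_le_mul_right h7 hpos1) hpos2

end Cfsg.Agent.OddCyclic.EN.NatTwo
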