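import Cfsg.Agent.OddCyclic.EN.NatTwo.TwoA
import Cfsg.Agent.OddCyclic.EN.NatTwo.Adj

/-!
# (E1), type `(A_q)`, distance at least two: case 2 (`q ∈ ws V p`), both images have order two

* `mul_le`: `|M~ : C(β)| |C : D1 ∩ C| ≤ |O₂(C(p)) : D1|`, `C = C0 V p = C_{O₂(C(p))}(ws V p)`;
* `two_le`, `card_le_rel`: lower bounds of the second factor;
* `img_inf_bot`: `A ∩ J = 1`, `A` the image of `ws V q`; `img_card`: `|A| = 2`; `mem_symm`: `p ∈ ws V q`.
-/

set_option autoImplicit false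
set_option linter.unusedSectionVars false
set_option linter.style.haveILetI false

namespace Cfsg.Agent.OddCyclic.EN.NatTwo

open Subgroup Cfsg Cfsg.Agent.ZN Cfsg.Agent.MinSimple.Geo Cfsg.Agent.OddCyclic.GeoC Cfsg.Agent.OddCyclic.BTwoA
  Cfsg.Agent.OddCyclic.EN.Line Cfsg.Agent.OddCyclic.EN.Base Cfsg.Agent.MinSimple.SecRep
  Cfsg.Agent.OddCyclic.EN.RepM Cfsg.Agent.OddCyclic.EN.Perm Cfsg.Agent.OddCyclic.EN.OneCount
open Cfsg.Agent.OddCyclic.T1Module Cfsg.Agent.OddCyclic.FFBasic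
open Cfsg.Agent.ZN.Block (conj_mem_of_normalizer conj_mem_of_normalizer' le_normalizer_of_forall
  mem_normalizer_of)
open Multiplicative (ofAdd toAdd)

universe u

variable {G : Type u} [Group G] [Finite G] {T V : Subgroup G} {z x y p q : G} {n : ℕ}
  {M X : Type u} [AddCommGroup M] [Group X] [DistribMulAction X M] [Finite M] [Finite X]
  {F : Type} [Field F] [Fintype F] [CharP F 2] {J : Subgroup X}

theorem relIndex_ne_zero' (A B : Subgroup G) : A.relIndex B ≠ 0 := by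
  rw [Subgroup.relIndex]; exact index_ne_zero_of_finite

/-- `C_{O₂(C(p))}(ws V p)` -/
def C0 (V : Subgroup G) (p : G) : Subgroup G := o2 (centralizer ({p} : Set G)) ⊓ centralizer (ws V p : Set G)

theorem C0_le : C0 V p ≤ o2 (centralizer ({p} : Set G)) := inf_le_left

theorem C0_isPGroup : IsPGroup 2 (C0 V p) := (isPGroup_o2 _).to_le inf_le_left

theorem C0_norm : centralizer ({p} : Set G) ≤ normalizer ((C0 V p : Subgroup G) : Set G) := by
  refine le_normalizer_of_forall fun g hg c hc => ?_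
  refine mem_inf.2 ⟨conj_mem_of_normalizer (le_normalizer_o2 _) hg hc.1, mem_centralizer_iff.2 fun w hw => ?_⟩
  have h1 : g⁻¹ * w * g ∈ ws V p :=
    conj_mem_of_normalizer' (Cfsg.Agent.MinSimple.Geo.centralizer_le_normalizer_ws V p) hg hw
  have h2 := (mem_centralizer_iff.1 hc.2) _ h1
  calc w * (g * c * g⁻¹) = g * ((g⁻¹ * w * g) * c) * g⁻¹ := by group
    _ = g * (c * (g⁻¹ * w * g)) * g⁻¹ := by rw [h2]
    _ = g * c * g⁻¹ * w := by group

theorem ws_le_C0 (h : Ab T V z) (hp : Pt z p) : ws V p ≤ C0 V p := fun _ hw =>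
  mem_inf.2 ⟨Base.ws_le_o2 h hp hw, mem_centralizer_iff.2 fun _ ha => ws_comm h hp ha hw⟩

theorem ws_col_le_C0 (h : AbN T V z n) (hn : 2 ≤ n) (hp : Pt z p) {y : G} (hy : Col V p y) : ws V y ≤ C0 V p :=
  (ws_le_tt hy.walk).trans (le_inf (tt_le_o2 h (j := 1) (by omega) hp) (tt_le_centralizer_ws h (by omega) hp))

/-- the second factor is at least two -/
theorem two_le (h : AbN T V z n) (hn : 2 ≤ n) (c : Crit V z n p q) {Rp : Rep V p M X} (ap : At T V z p Rp J F)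
    {Rq : Rep V q M X} (aq : At T V z q Rq J F) : 2 ≤ (D1 V p q).relIndex (C0 V p) := by
  by_contra hcon
  have h0 := relIndex_ne_zero' (D1 V p q) (C0 V p)
  have h1 : (D1 V p q).relIndex (C0 V p) = 1 := by omega
  rw [relIndex_eq_one] at h1
  refine ap.cov h.toAb C0_isPGroup (ws_le_C0 h.toAb c.pt) (fun y hy => ws_col_le_C0 h hn c.pt hy)
    (N₀ := nz V p (C0 V p) C0_norm) (fun c hc => hc.1) (nz_normal C0_norm) (fun hle => ?_) (fun c hc w hw => hc.2 w hw)
  have h2 : ws V q ≤ kq V p := fun v hv => hle ⟨c.ws_le_centralizer h hv, fun w hw => by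
    have h3 := (h1 hw).2 v hv
    have e : v * w * v⁻¹ * w⁻¹ = (w * v * w⁻¹ * v⁻¹)⁻¹ := by group
    rw [e]; exact inv_mem h3⟩
  exact (NatTwo.img_ne_bot Rp (c.ws_le_centralizer h)).1 (Crit.img_ne_bot h (c.symm h.toAb) aq Rp) h2

theorem card_le_rel (h : AbN T V z n) (hn : 2 ≤ n) (c : Crit V z n p q) {Rp : Rep V p M X} (ap : At T V z p Rp J F)
    {v : G} (hv : v ∈ ws V q) (hvJ : Rp.rho v ∈ J) (hv1 : Rp.rho v ≠ 1) :
    Fintype.card F ≤ (D1 V p q).relIndex (C0 V p) := by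
  have hvC := c.ws_le_centralizer h hv
  have h1 := ap.count h.toAb C0_isPGroup C0_norm (C0_le.trans (o2_le _)) (ws_le_C0 h.toAb c.pt)
    (fun y hy => ws_col_le_C0 h hn c.pt hy) hvC hvJ (fun e => hv1 ((Rep.rho_eq_one Rp hvC).2 e))
    (by rw [Base.ws_sq h.toAb (c.pt' h.toGeoC) hv]; exact one_mem _)
  refine h1.trans ?_
  rw [← inf_relIndex_right (D1 V p q)]
  refine relIndex_le_of_le_left (fun k hk => ?_) (relIndex_ne_zero' _ _)
  exact ⟨hk.2, Cfsg.Agent.MinSimple.Geo.centralizer_le_normalizer_ws V p (o2_le _ hk.1.1), hk.1.2 v hv⟩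

theorem mul_le (h : AbN T V z n) (c : Crit V z n p q) {Rp : Rep V p M X} (ap : At T V z p Rp J F) {v : G}
    (hv : v ∈ ws V q) : (fx ap.hy.qq (Rp.rho v)).index * (D1 V p q).relIndex (C0 V p) ≤
      (D1 V p q).relIndex (o2 (centralizer ({p} : Set G))) := by
  have h1 := dual_le h c ap hv
  obtain ⟨E, hE⟩ : ∃ E, E = o2 (centralizer ({p} : Set G)) ⊓
    centralizer (((cmv h.toAb c.pt (c.ws_le_centralizer h hv)).range : Subgroup G) : Set G) := ⟨_, rfl⟩
  rw [← hE] at h1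
  have h2 : D1 V p q ≤ E := by rw [hE]; exact le_inf D1_le (D1_le_cent h c hv)
  have h3 : C0 V p ≤ E := by
    rw [hE]
    exact le_inf C0_le (inf_le_right.trans (centralizer_le (cmv_range_le h.toAb c.pt _)))
  have h4 : E ≤ o2 (centralizer ({p} : Set G)) := by rw [hE]; exact inf_le_left
  rw [← relIndex_mul_relIndex (D1 V p q) E _ h2 h4, mul_comm]
  exact Nat.mul_le_mul (relIndex_le_of_le_right h3 (relIndex_ne_zero' _ _)) h1

theorem two_le_card {A : Subgroup X} (h : A ≠ ⊥) : 2 ≤ Nat.card A := by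
  have : Nontrivial A := (Subgroup.nontrivial_iff_ne_bot A).2 h
  exact Finite.one_lt_card

/-- the image of `ws V q` meets `J` trivially -/
theorem img_inf_bot (h : AbN T V z n) (hn : 2 ≤ n) (c : Crit V z n p q) (hqp : q ∈ ws V p) {Rp : Rep V p M X}
    (ap : At T V z p Rp J F) {Rq : Rep V q M X} (aq : At T V z q Rq J F) : Rp.img (ws V q) ⊓ J = ⊥ := by
  rw [eq_bot_iff]
  rintro a ⟨ha, haJ⟩
  rw [mem_bot]
  by_contra ha1
  obtain ⟨v, hv, rfl⟩ := (Rp.mem_img (c.ws_le_centralizer h)).1 ha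
  have hvC := c.ws_le_centralizer h hv
  have hqq : Rp.rho v * Rp.rho v = 1 := by
    rw [← Rp.rho_mul v hvC v hvC, Base.ws_sq h.toAb (c.pt' h.toGeoC) hv, Rp.rho_one]
  have h1 : Fintype.card F ≤ (fx ap.hy.qq (Rp.rho v)).index := ap.hy.quoHy.index_ge haJ hqq ha1
  have h2 := card_le_rel h hn c ap hv haJ ha1
  have h3 := mul_le h c ap hv
  have h4 := tfc h c hqp Rq
  have h5 := two_le_card (Crit.img_ne_bot h c ap Rq)
  obtain ⟨e⟩ := aq.hy.iso
  obtain ⟨B, hB⟩ : ∃ B, B = Rq.img (o2 (centralizer ({p} : Set G)) ⊓ centralizer ({q} : Set G)) := ⟨_, rfl⟩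
  rw [← hB] at h4
  have hB2 : IsPGroup 2 B := by
    rw [hB]; exact img_isPGroup Rq ((isPGroup_o2 _).to_le inf_le_left)
  have h6 := aq.hy.card_le_mul B
  have h7 : Nat.card (B ⊓ J : Subgroup X) ≤ Fintype.card F := card_le e inf_le_right (hB2.to_le inf_le_left)
  have h8 := Hy.card_ringAut_lt F aq.hy.four
  have h9 := aq.hy.four
  have h10 : Fintype.card F * Fintype.card F ≤ (D1 V p q).relIndex (o2 (centralizer ({p} : Set G))) :=
    (Nat.mul_le_mul h1 h2).trans h3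
  have h11 : 2 * (Fintype.card F * Fintype.card F) ≤ 2 * Nat.card B :=
    (Nat.mul_le_mul h5 h10).trans h4
  have h12 : Nat.card B < Fintype.card F * Fintype.card F :=
    calc Nat.card B ≤ Nat.card (B ⊓ J : Subgroup X) * Nat.card (F ≃+* F) := h6
      _ ≤ Fintype.card F * Nat.card (F ≃+* F) := Nat.mul_le_mul_right _ h7
      _ < Fintype.card F * Fintype.card F := Nat.mul_lt_mul_of_pos_left h8 (by omega)
  omega

theorem img_card (h : AbN T V z n) (hn : 2 ≤ n) (c : Crit V z n p q) (hqp : q ∈ ws V p) {Rp : Rep V p M X}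
    (ap : At T V z p Rp J F) {Rq : Rep V q M X} (aq : At T V z q Rq J F) : Nat.card (Rp.img (ws V q)) = 2 := by
  have h1 := two_le_card (Crit.img_ne_bot h (c.symm h.toAb) aq Rp)
  have h2 := ap.hy.card_le_two (img_sq Rp (c.ws_le_centralizer h)
    (fun d hd => Base.ws_sq h.toAb (c.pt' h.toGeoC) hd)) (img_inf_bot h hn c hqp ap aq)
  omega

/-- an element of `ws V p` outside of `kq V q` -/
theorem Crit.exists_nk (h : AbN T V z n) (c : Crit V z n p q) {Rp : Rep V p M X} (ap : At T V z p Rp J F)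
    (Rq : Rep V q M X) : ∃ w ∈ ws V p, w ∈ centralizer ({q} : Set G) ∧ Rq.rho w ≠ 1 ∧ Rq.rho w * Rq.rho w = 1 := by
  have hle' := (c.symm h.toAb).ws_le_centralizer h
  have h1 := (NatTwo.img_ne_bot Rq hle').1 (Crit.img_ne_bot h c ap Rq)
  obtain ⟨w, hw, hw1⟩ := SetLike.not_le_iff_exists.1 h1
  refine ⟨w, hw, hle' hw, fun e => hw1 ((Rep.rho_eq_one Rq (hle' hw)).1 e), ?_⟩
  rw [← Rq.rho_mul w (hle' hw) w (hle' hw), Base.ws_sq h.toAb c.pt hw, Rq.rho_one]

/-- `p ∈ ws V q` -/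
theorem mem_symm (h : AbN T V z n) (hn : 2 ≤ n) (c : Crit V z n p q) (hqp : q ∈ ws V p) {Rp : Rep V p M X}
    (ap : At T V z p Rp J F) {Rq : Rep V q M X} (aq : At T V z q Rq J F) : p ∈ ws V q := by
  by_contra hp
  have hq := c.pt' h.toGeoC
  have h1 : ∀ k ∈ ws V q, k ∈ kq V p → ∀ w ∈ ws V p, k * w = w * k := by
    intro k hk hkp w hw
    rcases kq_move h.toAb c.pt hkp hw with e | e
    · exact mul_inv_eq_iff_eq_mul.1 e
    · exfalso
      apply hp
      have h2 := (c.comm_mem h hw hk).2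
      have e2 : p = (w * k * w⁻¹ * k⁻¹)⁻¹ := by
        calc p = k * w * k⁻¹ * w⁻¹ := by rw [e]; group
          _ = _ := by group
      rw [e2]; exact inv_mem h2
  obtain ⟨w, hw, hwC, hw1, hww⟩ := Crit.exists_nk h c ap Rq
  obtain ⟨q₁, hq₁, -⟩ := (c.symm h.toAb).head h
  have h2 := index_fx_le h.toAb hq Rq hwC
  have h3 : (ws V q ⊓ centralizer ({w} : Set G)).relIndex (ws V q) ≤ (kq V p).relIndex (ws V q) := by
    rw [← inf_relIndex_right (kq V p)]
    refine relIndex_le_of_le_left (fun k hk => ?_) (relIndex_ne_zero' _ _)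
    exact mem_inf.2 ⟨hk.2, mem_centralizer_singleton_iff.2 (h1 k hk.2 hk.1 w hw)⟩
  have h4 := img_card h hn c hqp ap aq
  rw [card_img Rp (c.ws_le_centralizer h)] at h4
  have h5 := (aq.lam h.toAb hq₁).nt' hww hw1
  omega

end Cfsg.Agent.OddCyclic.EN.NatTwo
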