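import Cfsg.Agent.OddCyclic.EN.NatTwo.TwoB

/-!
# (E1), type `(A_q)`, distance at least two: case 2 (`q ∈ ws V p`), the last count
-/

set_option autoImplicit false
set_option linter.unusedSectionVars false
set_option linter.style.haveILetI false

namespace Cfsg.Agent.OddCyclic.EN.NatTwo

open Subgroup Cfsg Cfsg.Agent.ZN Cfsg.Agent.MinSimple.Geo Cfsg.Agent.OddCyclic.GeoC Cfsg.Agent.OddCyclic.BTwoA
  Cfsg.Agent.OddCyclic.EN.Line Cfsg.Agent.OddCyclic.EN.Base Cfsg.Agent.MinSimple.SecRep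
  Cfsg.Agent.OddCyclic.EN.RepM Cfsg.Agent.OddCyclic.EN.Perm Cfsg.Agent.OddCyclic.EN.OneCount
open Cfsg.Agent.OddCyclic.T1Module Cfsg.Agent.OddCyclic.FFBasic
open Cfsg.Agent.ZN.Block (conj_mem_of_normalizer conj_mem_of_normalizer' le_normalizer_of_forall
  mem_normalizer_of)
open Multiplicative (ofAdd toAdd)

universe u

variable {G : Type u} [Group G] [Finite G] {T V : Subgroup G} {z x y p q : G} {n : ℕ}
  {M X : Type u} [AddCommGroup M] [Group X] [DistribMulAction X M] [Finite M] [Finite X]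
  {F : Type} [Field F] [Fintype F] [CharP F 2] {J : Subgroup X}

/-- `B` centralizes the image of `ws V p` -/
theorem img_comm (h : AbN T V z n) (c : Crit V z n p q) (hpq : p ∈ ws V q) (Rq : Rep V q M X) {w : G}
    (hw : w ∈ ws V p) (hwC : w ∈ centralizer ({q} : Set G)) {b : X}
    (hb : b ∈ Rq.img (o2 (centralizer ({p} : Set G)) ⊓ centralizer ({q} : Set G))) : Rq.rho w * b = b * Rq.rho w := by
  obtain ⟨k, hk, rfl⟩ := (Rq.mem_img inf_le_right).1 hb
  have hkC : k ∈ centralizer ({q} : Set G) := hk.2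
  have hpC : p ∈ centralizer ({q} : Set G) := Rq.W_le hpq
  have hp1 : Rq.rho p = 1 := by
    rw [Rep.rho_eq_one Rq hpC]
    exact o2_le_kq h.toAb (c.pt' h.toGeoC) (Base.ws_le_o2 h.toAb (c.pt' h.toGeoC) hpq)
  have h1 : Rq.rho (k * w * k⁻¹) = Rq.rho w := by
    rcases o2_move h.toAb c.pt hk.1 hw with e | e
    · rw [e]
    · rw [e, Rq.rho_mul p hpC w hwC, hp1, one_mul]
  rw [Rq.rho_conj hkC hwC] at h1
  exact (mul_inv_eq_iff_eq_mul.1 h1).symm

/-- the last count -/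
theorem last_count (h : AbN T V z n) (hn : 2 ≤ n) (c : Crit V z n p q) (hqp : q ∈ ws V p) {Rp : Rep V p M X}
    (ap : At T V z p Rp J F) {Rq : Rep V q M X} (aq : At T V z q Rq J F)
    (h4 : ∀ {a : X}, a * a = 1 → a ∉ J → ∀ {B : Subgroup X}, IsPGroup 2 B → (∀ b ∈ B, a * b = b * a) →
      Nat.card B ≤ 4) : False := by
  have hpq := mem_symm h hn c hqp ap aq
  obtain ⟨w, hw, hwC, hw1, hww⟩ := Crit.exists_nk h c ap Rq
  have hwJ : Rq.rho w ∉ J := fun hJ => hw1 (by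
    have h1 : Rq.rho w ∈ Rq.img (ws V p) ⊓ J :=
      mem_inf.2 ⟨Rq.rho_mem_img ((c.symm h.toAb).ws_le_centralizer h) hw, hJ⟩
    rwa [img_inf_bot h hn (c.symm h.toAb) hpq aq ap, mem_bot] at h1)
  have hB := h4 hww hwJ (B := Rq.img (o2 (centralizer ({p} : Set G)) ⊓ centralizer ({q} : Set G)))
    (img_isPGroup Rq ((isPGroup_o2 _).to_le inf_le_left)) (fun b hb => img_comm h c hpq Rq hw hwC hb)
  obtain ⟨v, hv, hvC, hv1, hvv⟩ := Crit.exists_nk h (c.symm h.toAb) aq Rp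
  obtain ⟨p₁, hp₁, -⟩ := c.head h
  have h5 : 4 ≤ (fx ap.hy.qq (Rp.rho v)).index := (ap.lam h.toAb hp₁).nt hvv hv1
  have h6 := two_le h hn c ap aq
  have h7 := mul_le h c ap hv
  have h8 := tfc h c hqp Rq
  have h9 := two_le_card (Crit.img_ne_bot h c ap Rq)
  have h10 : 2 * (4 * 2) ≤ 2 * Nat.card (Rq.img (o2 (centralizer ({p} : Set G)) ⊓ centralizer ({q} : Set G))) :=
    (Nat.mul_le_mul h9 ((Nat.mul_le_mul h5 h6).trans h7)).trans h8
  omega

end Cfsg.Agent.OddCyclic.EN.NatTwo
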