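import Cfsg.Agent.OddCyclic.EN.NatTwo.TwoB
import Cfsg.Agent.OddCyclic.EN.NatTwo.Adj
import Cfsg.Agent.OddCyclic.EN.NatTwo.Outer
import Cfsg.Agent.OddCyclic.EN.NotThreeG
import Mathlib.GroupTheory.SpecificGroups.ZGroup

/-!
# (E1), type `(A_q)`, distance at least two: case 2, `q ∈ ws V p`, `p ∈ ws V q`
-/

set_option autoImplicit false
set_option linter.unusedSectionVars false
set_option linter.style.haveILetI false

namespace Cfsg.Agent.OddCyclic.EN.NatTwo

open Subgroup Cfsg Cfsg.Agent.ZN Cfsg.Agent.MinSimple.Geo Cfsg.Agent.OddCyclic.GeoC Cfsg.Agent.OddCyclic.BTwoA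
  Cfsg.Agent.OddCyclic.EN.Line Cfsg.Agent.OddCyclic.EN.Base Cfsg.Agent.MinSimple.SecRep
  Cfsg.Agent.OddCyclic.EN.RepM Cfsg.Agent.OddCyclic.EN.Perm Cfsg.Agent.OddCyclic.EN.OneCount
open Cfsg.Agent.OddCyclic.T1Module Cfsg.Agent.OddCyclic.FFBasic
open Cfsg.Agent.ZN.Block (conj_mem_of_normalizer conj_mem_of_normalizer' le_normalizer_of_forall
  mem_normalizer_of)
open Multiplicative (ofAdd toAdd)

universe u

theorem squarefree_fac {k : ℕ} (hk : k ≤ 3) : Squarefree k.factorial := by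
  interval_cases k
  · exact squarefree_one
  · exact squarefree_one
  · exact Nat.prime_two.squarefree
  · have : (Nat.factorial 3) = 2 * 3 := rfl
    rw [this, Nat.squarefree_mul (by norm_num)]
    exact ⟨Nat.prime_two.squarefree, Nat.prime_three.squarefree⟩

/-- a perfect group acts trivially on a group of order at most four -/
theorem perf_triv {X : Type*} [Group X] {W : Type*} [CommGroup W] [Finite W] (ρ : X →* MulAut W) {P : Subgroup X}
    (hP : ⁅P, P⁆ = P) {N : Subgroup W} (hN : Nat.card N ≤ 4) (hinv : ∀ g ∈ P, ∀ v ∈ N, ρ g v ∈ N) :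
    ∀ g ∈ P, ∀ v ∈ N, ρ g v = v := by
  classical
  let Ω := {v : N // v ≠ 1}
  letI act : MulAction P Ω :=
    { smul := fun g v => ⟨⟨ρ (g : X) (v.1 : W), hinv g g.2 _ v.1.2⟩, fun e => v.2 (by
        have e1 : ρ (g : X) (v.1 : W) = 1 := congrArg Subtype.val e
        have e2 : (v.1 : W) = 1 := (ρ (g : X)).injective (e1.trans (map_one _).symm)
        exact Subtype.ext e2)⟩
      one_smul := fun v => Subtype.ext (Subtype.ext (by
        change ρ ((1 : P) : X) (v.1 : W) = v.1
        rw [OneMemClass.coe_one, map_one]; rfl))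
      mul_smul := fun g k v => Subtype.ext (Subtype.ext (by
        change ρ ((g * k : P) : X) (v.1 : W) = ρ (g : X) (ρ (k : X) (v.1 : W))
        rw [Subgroup.coe_mul, map_mul]; rfl)) }
  have hfinN : Finite N := inferInstance
  have hfinΩ : Finite Ω := inferInstance
  letI : Fintype N := Fintype.ofFinite N
  letI : Fintype Ω := Fintype.ofFinite Ω
  have hΩ : Nat.card Ω ≤ 3 := by
    have h1 : Nat.card Ω + 1 = Nat.card N := by
      have h2 : Fintype.card Ω = Fintype.card N - 1 := by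
        have := Fintype.card_subtype_compl (fun v : N => v = 1)
        rw [Fintype.card_subtype_eq] at this
        rw [← this]
      have h3 : 0 < Fintype.card N := Fintype.card_pos
      rw [Nat.card_eq_fintype_card, Nat.card_eq_fintype_card, h2]
      omega
    omega
  have hsf : Squarefree (Nat.card (Equiv.Perm Ω)) := by
    rw [Nat.card_perm]; exact squarefree_fac hΩ
  haveI hz : IsZGroup (Equiv.Perm Ω) := IsZGroup.of_squarefree hsf
  have hsol : Group.IsSolvable (Equiv.Perm Ω) := inferInstance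
  obtain ⟨φ, hφ⟩ : ∃ φ : P →* Equiv.Perm Ω, φ = MulAction.toPermHom P Ω := ⟨_, rfl⟩
  obtain ⟨m, hm⟩ := (Group.isSolvable_def _).mp hsol
  have htop : commutator P = ⊤ := by
    have h1 := congrArg (Subgroup.comap P.subtype) hP
    have h2 : Subgroup.map P.subtype (commutator P) = Subgroup.map P.subtype ⊤ := by
      rw [_root_.commutator_def, map_commutator, ← MonoidHom.range_eq_map, range_subtype, hP]
    exact Subgroup.map_injective P.subtype_injective h2
  have key : ∀ k, (⊤ : Subgroup P) ≤ (derivedSeries (Equiv.Perm Ω) k).comap φ := by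
    intro k
    induction k with
    | zero => simp
    | succ k ih =>
      rw [← htop, _root_.commutator_def, commutator_le]
      intro a ha b hb
      rw [mem_comap, map_commutatorElement]
      exact commutator_mem_commutator (ih ha) (ih hb)
  intro g hg v hv
  by_cases hv1 : v = 1
  · rw [hv1, map_one]
  have h1 : φ ⟨g, hg⟩ = 1 := by
    have := key m (mem_top (⟨g, hg⟩ : P))
    rw [hm] at this
    exact this
  have h2 := congrArg (fun f : Equiv.Perm Ω => ((f ⟨⟨v, hv⟩, fun e => hv1 (congrArg Subtype.val e)⟩ : Ω).1 : W)) h1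
  rw [hφ] at h2
  exact h2

variable {G : Type u} [Group G] [Finite G] {T V : Subgroup G} {z x y p q : G} {n : ℕ}
  {M X : Type u} [AddCommGroup M] [Group X] [DistribMulAction X M] [Finite M] [Finite X]
  {F : Type} [Field F] [Fintype F] [CharP F 2] {J : Subgroup X} {Rp : Rep V p M X} {Rq : Rep V q M X}

/-- some element of `O₂(C(p))` moves `q ∈ ws V p` -/
theorem At.exists_move (h : Ab T V z) (ap : At T V z p Rp J F) (hqz : Pt z q) (hq : q ∈ ws V p) (hne : q ≠ p) :
    ∃ w ∈ o2 (centralizer ({p} : Set G)), w * q * w⁻¹ = p * q := by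
  by_contra hcon
  push Not at hcon
  refine hne (ap.rl q hq hqz (ap.red q hq fun c hc => ?_))
  rcases o2_move h ap.pt hc hq with e | e
  · exact mul_inv_eq_iff_eq_mul.1 e
  · exact absurd e (hcon c hc)

/-- `|F| = 4` -/
theorem Two.card_four (h : AbN T V z n) (hc : Crit V z n p q) (ap : At T V z p Rp J F)
    (hq : q ∈ ws V p) (hp : p ∈ ws V q) (hAJ : Rp.img (ws V q) ⊓ J = ⊥)
    (aq : At T V z q Rq J F) (hA' : Nat.card (Rq.img (ws V p)) = 2) : Fintype.card F = 4 := by
  have hle := hc.ws_le_centralizer h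
  have hle' := (hc.symm h.toAb).ws_le_centralizer h
  have hpz := hc.pt
  have hqz := hc.pt' h.toGeoC
  have hne : p ≠ q := Crit.ne h hc
  have hpp : p * p = 1 := Base.Pt.sq h.toGeoC hpz
  have hqq : q * q = 1 := Base.Pt.sq h.toGeoC hqz
  obtain ⟨v, hv, hvC, hv1, hvv⟩ := Crit.exists_nk h (hc.symm h.toAb) aq Rp
  have haJ : Rp.rho v ∉ J := fun h1 => hv1 (by
    have h2 : Rp.rho v ∈ Rp.img (ws V q) ⊓ J := ⟨Rp.rho_mem_img hle hv, h1⟩
    rwa [hAJ, mem_bot] at h2)
  obtain ⟨D, hD⟩ : ∃ D, D = ws V p ⊓ kq V q := ⟨_, rfl⟩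
  have hDm : ∀ d, d ∈ D ↔ d ∈ ws V p ∧ d ∈ kq V q := fun d => by rw [hD, mem_inf]
  have hDi : D.relIndex (ws V p) = 2 := by
    rw [← hA', card_img Rq hle', hD, inf_comm, inf_relIndex_right]
  have hDmv : ∀ d ∈ D, d * v * d⁻¹ = v ∨ d * v * d⁻¹ = q * v := fun d hd =>
    kq_move h.toAb hqz ((hDm d).1 hd).2 hv
  have hDq : ∀ d ∈ D, d * q = q * d := fun d hd =>
    mem_centralizer_singleton_iff.1 (mem_kq'.1 ((hDm d).1 hd).2).1
  obtain ⟨E, hE⟩ : ∃ E, E = D ⊓ centralizer ({v} : Set G) := ⟨_, rfl⟩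
  have hEm : ∀ d, d ∈ E ↔ d ∈ D ∧ d * v = v * d := fun d => by
    rw [hE, mem_inf, mem_centralizer_singleton_iff]
  have hfx := index_fx_le h.toAb hpz Rp hvC
  obtain ⟨p₁, hp₁, -⟩ := hc.head h
  have h4 := (ap.lam h.toAb hp₁).nt' hvv hv1
  -- `|W_p : C(v)| ≤ 4`
  have hED : E.relIndex D ≤ 2 := by
    refine relIndex_le_two fun a ha b hb haE hbE => ?_
    have ha' := (hDmv a ha).resolve_left (fun e => haE ((hEm a).2 ⟨ha, mul_inv_eq_iff_eq_mul.1 e⟩))
    have hb' := (hDmv b hb).resolve_left (fun e => hbE ((hEm b).2 ⟨hb, mul_inv_eq_iff_eq_mul.1 e⟩))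
    rw [hEm]
    refine ⟨mul_mem ha hb, mul_inv_eq_iff_eq_mul.1 ?_⟩
    calc a * b * v * (a * b)⁻¹ = a * (b * v * b⁻¹) * a⁻¹ := by group
      _ = (a * q) * v * a⁻¹ := by rw [hb']; group
      _ = q * (a * v * a⁻¹) := by rw [hDq a ha]; group
      _ = v := by rw [ha', ← mul_assoc, hqq, one_mul]
  have hEle : E ≤ D := by rw [hE]; exact inf_le_left
  have hDle : D ≤ ws V p := by rw [hD]; exact inf_le_left
  have hEW : E.relIndex (ws V p) ≤ 4 := by
    rw [← relIndex_mul_relIndex E D (ws V p) hEle hDle, hDi]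
    omega
  have hEC : E ≤ ws V p ⊓ centralizer ({v} : Set G) := by
    rw [hE]; exact inf_le_inf_right _ hDle
  have hidx : (fx (hm X M) (Rp.rho v)).index ≤ 4 :=
    hfx.trans ((relIndex_le_of_le_left hEC (relIndex_ne_zero' _ _)).trans hEW)
  -- an element `d` of `D` with `[d, v] = q`
  obtain ⟨d, hd, hdv⟩ : ∃ d ∈ D, d * v * d⁻¹ = q * v := by
    by_contra hcon
    push Not at hcon
    have h5 : D ≤ ws V p ⊓ centralizer ({v} : Set G) := fun d hd =>
      mem_inf.2 ⟨hDle hd, mem_centralizer_singleton_iff.2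
        (mul_inv_eq_iff_eq_mul.1 ((hDmv d hd).resolve_right (hcon d hd)))⟩
    have h6 := hfx.trans (relIndex_le_of_le_left h5 (relIndex_ne_zero' _ _))
    omega
  have hqN : ofAdd (Rp.pi q) ∈ (cm (hm X M) (Rp.rho v)).range := by
    refine ⟨ofAdd (Rp.pi d), ?_⟩
    have hdW := hDle hd
    have e1 : v * d * v⁻¹ = q * d := by
      have e2 : d * v = q * v * d := mul_inv_eq_iff_eq_mul.1 hdv
      have e3 : q * v = v * q := ws_comm h.toAb hqz (self_mem_ws h.toGeoC hqz) hv
      have e4 : v * d = q * d * v := by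
        calc v * d = (q * q) * v * d := by rw [hqq, one_mul]
          _ = q * (q * v * d) := by group
          _ = q * (d * v) := by rw [e2]
          _ = q * d * v := by group
      rw [e4, mul_inv_cancel_right]
    rw [cm_apply, hm_ofAdd, Rp.smul_pi v hvC d hdW, e1, Rp.pi_mul q hq d hdW]
    change ofAdd (Rp.pi q) * ofAdd (Rp.pi d) * (ofAdd (Rp.pi d))⁻¹ = _
    rw [mul_inv_cancel_right]
  rcases (ap.hy.outer hvv haJ).2 with h5 | ⟨P, hPJ, hPP, hPa, y, hy, hy3⟩
  · exact h5
  exfalso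
  have hN : Nat.card (cm (hm X M) (Rp.rho v)).range ≤ 4 := by
    rw [card_range_cm]; exact hidx
  have hfix := perf_triv (hm X M) hPP hN (by
    rintro g hg _ ⟨w, rfl⟩
    refine ⟨hm X M g w, ?_⟩
    rw [cm_apply, cm_apply, map_mul, map_inv, ← MulAut.mul_apply, ← MulAut.mul_apply, ← map_mul, ← map_mul,
      hPa g hg]) y hy _ hqN
  obtain ⟨c, hcC, rfl⟩ := Rp.rho_surj y
  obtain ⟨m, hm3, hm3', -⟩ := ap.three_part hcC hy3
  obtain ⟨b, hb⟩ : ∃ b, b = c ^ m := ⟨_, rfl⟩
  have hbC : b ∈ centralizer ({p} : Set G) := by rw [hb]; exact pow_mem hcC m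
  have hbp : b * p = p * b := mem_centralizer_singleton_iff.1 hbC
  have hcq : c * q * c⁻¹ = q ∨ c * q * c⁻¹ = p * q := by
    rw [hm_ofAdd, Rp.smul_pi c hcC q hq] at hfix
    have e := ofAdd.injective hfix
    rwa [Rep.pi_eq_pi h.toAb hpz Rp (Rp.conj_mem hcC hq) hq] at e
  have hcp : c * p = p * c := mem_centralizer_singleton_iff.1 hcC
  have hbq' : ∀ k : ℕ, c ^ k * q * (c ^ k)⁻¹ = q ∨ c ^ k * q * (c ^ k)⁻¹ = p * q := by
    intro k
    induction k with
    | zero => left; simp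
    | succ k ih =>
      have e0 : c ^ (k + 1) * q * (c ^ (k + 1))⁻¹ = c * (c ^ k * q * (c ^ k)⁻¹) * c⁻¹ := by
        rw [pow_succ']; group
      rcases ih with e | e
      · rw [e0, e]; exact hcq
      · have e1 : c * (p * q) * c⁻¹ = p * (c * q * c⁻¹) := by
          calc c * (p * q) * c⁻¹ = (c * p) * q * c⁻¹ := by group
            _ = p * (c * q * c⁻¹) := by rw [hcp]; group
        rw [e0, e, e1]
        rcases hcq with e2 | e2
        · right; rw [e2]
        · left; rw [e2, ← mul_assoc, hpp, one_mul]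
  have hbq : b * q = q * b := by
    have h6 : b * q * b⁻¹ = q ∨ b * q * b⁻¹ = p * q := by rw [hb]; exact hbq' m
    rcases h6 with e | e
    · exact mul_inv_eq_iff_eq_mul.1 e
    · exfalso
      have hb3 : b ^ 3 = 1 := by rw [hb, ← hm3]; exact pow_orderOf_eq_one _
      have e1 : b * (p * q) * b⁻¹ = q := by
        calc b * (p * q) * b⁻¹ = (b * p) * q * b⁻¹ := by group
          _ = p * (b * q * b⁻¹) := by rw [hbp]; group
          _ = q := by rw [e, ← mul_assoc, hpp, one_mul]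
      have e2 : q = p * q := by
        calc q = b ^ 3 * q * (b ^ 3)⁻¹ := by rw [hb3]; group
          _ = b * (b * (b * q * b⁻¹) * b⁻¹) * b⁻¹ := by
            rw [pow_succ, pow_two]; group
          _ = p * q := by rw [e, e1, e]
      exact Base.Pt.ne_one h.toGeoC hpz (mul_eq_right.1 e2.symm)
  obtain ⟨w0, hw0, hw0q⟩ := ap.exists_move h.toAb hqz hq hne.symm
  obtain ⟨w, hw, hwp⟩ := aq.exists_move h.toAb hpz hp hne
  have hpq : p * q = q * p := (mem_centralizer_singleton_iff.1 (hle (self_mem_ws h.toGeoC hqz))).symm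
  refine NotThreeG.not_three h.cyc hpp hqq hpq (Base.Pt.ne_one h.toGeoC hpz) (Base.Pt.ne_one h.toGeoC hqz) hne
    (Q := o2 (centralizer ({p} : Set G))) (isPGroup_o2 _) (o2_le _) (le_normalizer_o2 _)
    (fun s hs => o2_move h.toAb hpz hs hq) hw0 hw0q
    (w := w) (mem_centralizer_singleton_iff.1 (o2_le _ hw)) (by rw [hwp, hpq]) hbp hbq ?_
  rw [hb]; exact hm3

end Cfsg.Agent.OddCyclic.EN.NatTwo
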